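import Cfsg.Agent.Lib.Comp.BpBalance
import Cfsg.Agent.Lib.Comp.BalanceTwo

/-!
Components of the centralizer of an involution when groups of odd order are solvable.
-/

set_option autoImplicit false
set_option linter.unusedSectionVars false
set_option linter.style.haveILetI false

namespace CfsgLib.AfterFT

open Cfsg Subgroup CfsgLib CfsgLib.Comp
open scoped commutatorElement

universe u

variable {G : Type u} [Group G] [Finite G]
  (odd : ∀ (H : Type u) [Group H] [Finite H], Odd (Nat.card H) → Group.IsSolvable H)

include odd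

/-- A component is generated by its elements of 2-power order. -/
theorem component_pEl_two {L : Subgroup G} (hL : IsComponent L) : pEl 2 L = L := by
  haveI : ((pEl 2 L).subgroupOf L).Normal :=
    (Subgroup.normal_subgroupOf_iff_le_normalizer (pEl_le L)).mpr
      (Subgroup.le_normalizer.trans (normalizer_le_normalizer_pEl L))
  refine le_antisymm (pEl_le L) ?_
  rcases quasisimple_normal_le_center_or_eq_top hL.2 ((pEl 2 L).subgroupOf L) with h | h
  swap
  · exact Subgroup.subgroupOf_eq_top.mp h
  exfalso
  haveI := hL.2.2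
  refine isQuasisimple_not_isSolvable hL.2 ?_
  suffices hodd : Odd (Nat.card (↥L ⧸ Subgroup.center ↥L)) by
    haveI := odd _ hodd
    haveI : Group.IsSolvable (Subgroup.center ↥L) :=
      Group.isSolvable_of_comm fun a b => Subtype.ext ((Subgroup.mem_center_iff.mp b.2) a)
    exact Group.isSolvable_of_ker_le_range (Subgroup.center ↥L).subtype (QuotientGroup.mk' (Subgroup.center ↥L))
      (by rw [QuotientGroup.ker_mk', Subgroup.range_subtype])
  rw [← Nat.not_even_iff_odd]
  intro hev
  obtain ⟨y, hy⟩ := exists_prime_orderOf_dvd_card' (hp := ⟨Nat.prime_two⟩) 2 hev.two_dvd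
  obtain ⟨x, rfl⟩ := QuotientGroup.mk'_surjective (Subgroup.center ↥L) y
  have h2 : x ^ 2 ∈ Subgroup.center ↥L := by
    have h1 := pow_orderOf_eq_one (QuotientGroup.mk' (Subgroup.center ↥L) x)
    rw [hy, ← map_pow] at h1
    exact (QuotientGroup.eq_one_iff _).mp h1
  obtain ⟨k, m, hm, he⟩ := Nat.exists_eq_two_pow_mul_odd (orderOf_pos x).ne'
  have hxm : x ^ m ∈ Subgroup.center ↥L := h (by
    refine Subgroup.subset_closure ⟨(x ^ m).2, k, ?_⟩
    rw [Subgroup.coe_subtype, ← Subgroup.coe_pow, ← pow_mul, mul_comm, ← he, pow_orderOf_eq_one]; rfl)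
  obtain ⟨j, rfl⟩ := hm
  have hx : x ∈ Subgroup.center ↥L := by
    have : x = x ^ (2 * j + 1) * ((x ^ 2) ^ j)⁻¹ := by
      rw [← pow_mul, pow_succ']; group
    rw [this]
    exact mul_mem hxm (inv_mem (pow_mem h2 j))
  have : QuotientGroup.mk' (Subgroup.center ↥L) x = 1 := (QuotientGroup.eq_one_iff _).mpr hx
  rw [this, orderOf_one] at hy
  omega

/-- A component of a subgroup is a `2`-component of it, in the ambient form. -/
theorem component_isPC {L H : Subgroup G} (hLH : L ≤ H) (hsn : (L.subgroupOf H).IsSubnormal)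
    (hq : IsQuasisimple L) : IsPC 2 L H := by
  have hpel : pEl 2 L = L := by
    have h := component_pEl_two odd (G := ↥H) (L := L.subgroupOf H)
      ⟨hsn, isQuasisimple_of_equiv (Subgroup.subgroupOfEquivOfLe hLH).symm hq⟩
    have h2 := congrArg (Subgroup.map H.subtype) h
    rwa [← pEl_map_subtype, Subgroup.map_subgroupOf_eq_of_le hLH] at h2
  refine ⟨hLH, hsn, hpel, ?_⟩
  haveI : Nontrivial (↥L ⧸ pPrimeCore 2 ↥L) := by
    rw [QuotientGroup.nontrivial_iff]
    intro e
    refine isQuasisimple_not_isSolvable hq (odd _ ?_)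
    have h := card_pPrimeCore_coprime (G := ↥L) 2
    rw [e, Subgroup.card_top] at h
    exact Nat.coprime_two_right.mp h
  exact isQuasisimple_of_surj_nontrivial (QuotientGroup.mk' _) (QuotientGroup.mk'_surjective _) hq

/-- A component is a `2`-component. -/
theorem component_isPComponent {L : Subgroup G} (hL : IsComponent L) : IsPComponent 2 L := by
  refine isPComponent_of_pEl hL.1 (component_pEl_two odd hL) (map_component hL fun h => ?_)
  refine isQuasisimple_not_isSolvable hL.2 (odd _ ?_)
  exact Nat.coprime_two_right.mp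
    (Nat.Coprime.coprime_dvd_left (Subgroup.card_dvd_of_le h) (card_pPrimeCore_coprime 2))

end CfsgLib.AfterFT
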