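import Cfsg.Agent.Lib.AfterFT.CoprimeFixedMain

/-!
Row 1329: generation of `C_Y(B)` for `Y = [Y, A]` of odd order, given the odd order theorem.
-/

set_option autoImplicit false
set_option linter.unusedSectionVars false
set_option linter.style.haveILetI false

namespace CfsgLib.AfterFT

open Subgroup CfsgLib

universe u
variable {G : Type u} [Group G] [Finite G]

theorem isCyclic_quotient_inf_of_cycOver {A A₀ B : Subgroup G} [IsMulCommutative A] (h : CycOver A A₀) (hB : B ≤ A)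
    [((A₀ ⊓ B).subgroupOf B).Normal] : IsCyclic (B ⧸ (A₀ ⊓ B).subgroupOf B) := by
  haveI : (A₀.subgroupOf A).Normal := ⟨fun n hn x => by
    rw [IsMulCommutative.is_comm.comm x n, mul_inv_cancel_right]; exact hn⟩
  obtain ⟨hA₀, a, ha, hle⟩ := h
  haveI : IsCyclic (A ⧸ A₀.subgroupOf A) := ⟨QuotientGroup.mk' _ ⟨a, ha⟩, fun q => by
    obtain ⟨⟨x, hx⟩, rfl⟩ := QuotientGroup.mk'_surjective _ q
    have hn : zpowers a ≤ normalizer (A₀ : Set G) := zpowers_le.mpr (by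
      refine centralizer_le_normalizer _ fun b hb => ?_
      exact congrArg Subtype.val (IsMulCommutative.is_comm.comm (⟨b, hA₀ hb⟩ : A) ⟨a, ha⟩))
    obtain ⟨d, hd, c, hc, e⟩ := mem_sup_of_le_normalizer hn (hle hx)
    obtain ⟨k, rfl⟩ := Subgroup.mem_zpowers_iff.mp hc
    refine Subgroup.mem_zpowers_iff.mpr ⟨k, ?_⟩
    rw [← map_zpow]
    refine QuotientGroup.eq.mpr ?_
    show ((⟨a, ha⟩ ^ k)⁻¹ * ⟨x, hx⟩ : A).1 ∈ A₀
    have hcd : d * a ^ k = a ^ k * d :=
      congrArg Subtype.val (IsMulCommutative.is_comm.comm (⟨d, hA₀ hd⟩ : A) ⟨a ^ k, A.zpow_mem ha k⟩)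
    simp only [Subgroup.coe_mul, Subgroup.coe_inv, Subgroup.coe_zpow]
    rw [← e, hcd, inv_mul_cancel_left]
    exact hd⟩
  let f : B →* A ⧸ A₀.subgroupOf A := (QuotientGroup.mk' _).comp (Subgroup.inclusion hB)
  have hk : f.ker = (A₀ ⊓ B).subgroupOf B := by
    ext z
    rw [MonoidHom.mem_ker, Subgroup.mem_subgroupOf, Subgroup.mem_inf]
    show QuotientGroup.mk' (A₀.subgroupOf A) (Subgroup.inclusion hB z) = 1 ↔ _
    rw [QuotientGroup.mk'_apply, QuotientGroup.eq_one_iff, Subgroup.mem_subgroupOf]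
    exact ⟨fun h => ⟨h, z.2⟩, fun h => h.1⟩
  exact isCyclic_of_injective ((QuotientGroup.kerLift f).comp (QuotientGroup.quotientMulEquivOfEq hk).symm.toMonoidHom)
    ((QuotientGroup.kerLift_injective f).comp (MulEquiv.injective _))

theorem coprime_commutator_fixed_points_generation_of_odd
    (odd : ∀ (H : Type u) [Group H] [Finite H], Odd (Nat.card H) → Group.IsSolvable H)
    (A B Y : Subgroup G) (hA2 : IsPGroup 2 ↥A) (hAc : IsMulCommutative ↥A) (hB : B ≤ A)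
    (hYodd : Odd (Nat.card ↥Y)) (hAY : A ≤ Subgroup.normalizer (Y : Set G)) (hYA : ⁅Y, A⁆ = Y) :
    Y ⊓ Subgroup.centralizer (B : Set G) =
      ⨆ B₀ : {B₀ : Subgroup G // B₀ ≤ B ∧ ∀ [(B₀.subgroupOf B).Normal], IsCyclic (↥B ⧸ B₀.subgroupOf B)},
        Y ⊓ Subgroup.centralizer (B : Set G) ⊓
          ⁅Y ⊓ Subgroup.centralizer ((B₀ : Subgroup G) : Set G), A⁆ := by
  refine le_antisymm ?_ (iSup_le fun _ => inf_le_left)
  haveI := hAc
  haveI : Fact (Nat.Prime 2) := ⟨Nat.prime_two⟩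
  obtain ⟨k, hk⟩ := IsPGroup.iff_card.mp hA2
  have hcop : (Nat.card A).Coprime (Nat.card Y) := by
    rw [hk]; exact Nat.Coprime.pow_left _ hYodd.coprime_two_left
  have hsol : Group.IsSolvable A := Group.isSolvable_of_comm fun a b => IsMulCommutative.is_comm.comm a b
  set K := Y ⊓ centralizer (B : Set G) with hK
  have hAK : A ≤ normalizer (K : Set G) := le_normalizer_inf' hAY (le_normalizer_centralizer_of_comm hB)
  set T := ⨆ B₀ : {B₀ : Subgroup G // B₀ ≤ B ∧ ∀ [(B₀.subgroupOf B).Normal], IsCyclic (↥B ⧸ B₀.subgroupOf B)},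
    K ⊓ ⁅Y ⊓ Subgroup.centralizer ((B₀ : Subgroup G) : Set G), A⁆ with hT
  have hterm : ∀ B₀ : Subgroup G, ∀ h : B₀ ≤ B ∧ ∀ [(B₀.subgroupOf B).Normal], IsCyclic (↥B ⧸ B₀.subgroupOf B),
      K ⊓ ⁅Y ⊓ Subgroup.centralizer (B₀ : Set G), A⁆ ≤ T := fun B₀ h =>
    le_iSup (fun B₀ : {B₀ : Subgroup G // B₀ ≤ B ∧ ∀ [(B₀.subgroupOf B).Normal], IsCyclic (↥B ⧸ B₀.subgroupOf B)} =>
      K ⊓ ⁅Y ⊓ Subgroup.centralizer ((B₀ : Subgroup G) : Set G), A⁆) ⟨B₀, h⟩
  conv_lhs => rw [← coprime_commutator_sup hAK (hcop.coprime_dvd_right (card_dvd_of_le inf_le_left)) (Or.inl hsol)]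
  refine sup_le ?_ ?_
  · refine le_trans (le_inf (commutator_le_of_le_normalizer hAK) le_rfl) (hterm B ⟨le_rfl, ?_⟩)
    intro _
    haveI : Subsingleton (↥B ⧸ B.subgroupOf B) :=
      QuotientGroup.subsingleton_iff.mpr (Subgroup.subgroupOf_self B)
    exact isCyclic_of_subsingleton
  · refine le_trans (le_inf inf_le_left ?_)
      ((inf_le_inf_left K (iSup_le fun A₀ => ?_ : fixGen A Y ≤ T)).trans inf_le_right)
    · exact (inf_le_inf_right _ inf_le_left).trans (fixed_le_fixGen _ Y rfl (odd Y hYodd) hAY hcop hYA)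
    · refine le_trans ?_ (hterm (A₀.1 ⊓ B) ⟨inf_le_right, fun {_} => isCyclic_quotient_inf_of_cycOver A₀.2 hB⟩)
      have hle : ⁅Y ⊓ centralizer ((A₀.1 : Subgroup G) : Set G), A⁆ ≤
          ⁅Y ⊓ centralizer ((A₀.1 ⊓ B : Subgroup G) : Set G), A⁆ :=
        commutator_mono (inf_le_inf_left Y (centralizer_le (show ((A₀.1 ⊓ B : Subgroup G) : Set G) ⊆ (A₀.1 : Set G) from fun z hz => hz.1))) le_rfl
      refine le_inf (le_inf ?_ ?_) (inf_le_right.trans hle)
      · exact inf_le_right.trans ((commutator_mono inf_le_left le_rfl).trans hYA.le)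
      · exact inf_le_left.trans (centralizer_le hB)

end CfsgLib.AfterFT
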