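import Cfsg.Agent.Lib.Comp.CoreBalance
import Cfsg.Agent.Lib.Comp.LayerNormalizes
import Cfsg.Agent.Lib.AfterFT.EvenComponent
import Cfsg.Agent.Lib.Coprime
import Cfsg.Agent.S1329
import Cfsg.Prelude.Def_Balance

/-!
The signalizer functor of a core-separated pair of four-groups (Goldschmidt), given that groups of odd
order are solvable: `θ a = ⋂ i, [O_a, A_i] (O_a ∩ O(C(A_i)))`.
-/

set_option autoImplicit false
set_option linter.unusedSectionVars false
set_option linter.style.haveILetI false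

namespace CfsgLib.AfterFT.CoreSep

open Cfsg Subgroup CfsgLib CfsgLib.Comp
open scoped commutatorElement

universe u

/-! ### Groups with trivial core -/

section Reduced

variable {M : Type u} [Group M] [Finite M]

theorem pCore_two_le_sylow (P : Sylow 2 M) : pCore 2 M ≤ (P : Subgroup M) := by
  haveI : Fact (Nat.Prime 2) := ⟨Nat.prime_two⟩
  haveI : (pCore 2 M).Normal := Subgroup.sSup_normal _ (fun _ h => h.1)
  exact le_trans le_sup_left (le_of_eq (P.3 ((isPGroup_pCore 2).to_sup_of_normal_left P.2) le_sup_right))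

theorem pCore_two_le_gfit (hO : pPrimeCore 2 M = ⊥) : pCore 2 M ≤ generalizedFittingSubgroup M := by
  rw [← fitting_eq_pCore Nat.prime_two hO]
  exact fittingSubgroup_le_generalized

theorem conj_mem_centralizer {D : Subgroup M} {g q : M} (hg : g ∈ Subgroup.normalizer (D : Set M))
    (hq : q ∈ Subgroup.centralizer (D : Set M)) : g * q * g⁻¹ ∈ Subgroup.centralizer (D : Set M) := by
  intro d hd
  have h := hq (g⁻¹ * d * g) ((Subgroup.mem_normalizer_iff''.mp hg d).mp hd)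
  calc d * (g * q * g⁻¹) = g * (g⁻¹ * d * g * q) * g⁻¹ := by group
    _ = g * (q * (g⁻¹ * d * g)) * g⁻¹ := by rw [h]
    _ = g * q * g⁻¹ * d := by group

theorem comm_mem_centralizer {D : Subgroup M} {g q : M} (hg : g ∈ Subgroup.normalizer (D : Set M))
    (hq : q ∈ Subgroup.centralizer (D : Set M)) : ⁅g, q⁆ ∈ Subgroup.centralizer (D : Set M) := by
  rw [commutatorElement_def]
  exact mul_mem (conj_mem_centralizer hg hq) (inv_mem hq)

/-- What fixes a Sylow `2`-subgroup of `F*` pointwise normalises every component. -/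
theorem fix_sylow_normalizes (hO : pPrimeCore 2 M = ⊥) (P : Sylow 2 M) {D : Subgroup M} (hD : IsComponent D)
    {g : M} (hg : g ∈ Subgroup.centralizer
      (((P : Subgroup M) ⊓ generalizedFittingSubgroup M : Subgroup M) : Set M)) :
    g ∈ Subgroup.normalizer (D : Set M) := by
  by_cases heq : cj g D = D
  · refine mem_normalizer_of_maps fun x hx => ?_
    have h : g * x * g⁻¹ ∈ cj g D := ⟨x, hx, rfl⟩
    rwa [heq] at h
  exfalso
  refine not_central_sylow_component hO P hD fun x hx y hy => ?_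
  have hD' : IsComponent (cj g D) := isComponent_map_equiv (MulAut.conj g) hD
  rcases components_eq_or_commute hD' hD with h | h
  · exact absurd h heq
  · have hxF : x ∈ (P : Subgroup M) ⊓ generalizedFittingSubgroup M :=
      ⟨hx.1, layer_le_generalized (le_layer hD hx.2)⟩
    have hx' : x ∈ cj g D := ⟨x, hx.2, by
      show g * x * g⁻¹ = x
      rw [← hg x hxF, mul_inv_cancel_right]⟩
    exact comm_of_commutator_eq_bot h hx' hy

/-- Core balance, weak form: `O(C(R))` normalises every component. -/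
theorem coreC_normalizes (hO : pPrimeCore 2 M = ⊥) {R : Subgroup M} (hR : IsPGroup 2 R) {D : Subgroup M}
    (hD : IsComponent D) : coreC R ≤ Subgroup.normalizer (D : Set M) := by
  obtain ⟨P, hP⟩ := hR.exists_le_sylow
  refine (core_balance_reduced hO P R hP).trans (sup_le (layer_le_normalizer_component hD) fun g hg => ?_)
  exact fix_sylow_normalizes hO P hD (coreC_centralizes _ hg)

/-- Core balance, weak form: `O(C(R))` centralises `O₂`. -/
theorem coreC_centralizes_pCore (hO : pPrimeCore 2 M = ⊥) {R : Subgroup M} (hR : IsPGroup 2 R) :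
    coreC R ≤ Subgroup.centralizer (pCore 2 M : Set M) := by
  obtain ⟨P, hP⟩ := hR.exists_le_sylow
  refine (core_balance_reduced hO P R hP).trans (sup_le (fun e he f hf => ?_) fun g hg f hf => ?_)
  · exact (comm_layer_fitting he (by rw [fitting_eq_pCore Nat.prime_two hO]; exact hf)).symm
  · exact coreC_centralizes _ hg f ⟨pCore_two_le_sylow P hf, pCore_two_le_gfit hO hf⟩

/-- An element of odd order centralising every component and `O₂` is trivial when `O(M) = 1`. -/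
theorem eq_one_of_centralizes (hO : pPrimeCore 2 M = ⊥) {x : M} (hx : Odd (orderOf x))
    (hc : ∀ D : Subgroup M, IsComponent D → x ∈ Subgroup.centralizer (D : Set M))
    (hp : x ∈ Subgroup.centralizer (pCore 2 M : Set M)) : x = 1 := by
  have hY : generalizedFittingSubgroup M ≤ Subgroup.centralizer {x} := by
    refine sup_le (sSup_le fun D hD y hy => ?_) fun y hy => ?_
    · rw [Subgroup.mem_centralizer_singleton_iff]
      exact hc D hD y hy
    · rw [Subgroup.mem_centralizer_singleton_iff]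
      exact hp y (by rw [← fitting_eq_pCore Nat.prime_two hO]; exact hy)
  haveI : (Subgroup.centralizer (generalizedFittingSubgroup M : Set M)).Normal := Subgroup.normal_centralizer
  have hZ : Subgroup.centralizer (generalizedFittingSubgroup M : Set M) ≤ fittingSubgroup M :=
    le_fittingSubgroup (nilpotent_of_comm fun a ha b hb => hb a (centralizer_generalizedFitting_le ha))
  have hmem : x ∈ fittingSubgroup M := hZ fun y hy =>
    Subgroup.mem_centralizer_singleton_iff.mp (hY hy)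
  rw [fitting_eq_pCore Nat.prime_two hO] at hmem
  obtain ⟨k, hk⟩ := isPGroup_pCore (G := M) 2 ⟨x, hmem⟩
  exact eq_one_of_odd_of_two_pow hx (k := k) (congrArg Subtype.val hk)

variable (odd : ∀ (H : Type u) [Group H] [Finite H], Odd (Nat.card H) → Group.IsSolvable H)
include odd

/-- If a `2`-group `R` centralises a component, so does `O(C(R))`. -/
theorem coreC_centralizes_component (hO : pPrimeCore 2 M = ⊥) {R : Subgroup M} (hR : IsPGroup 2 R)
    {D : Subgroup M} (hD : IsComponent D) (hDR : D ≤ Subgroup.centralizer (R : Set M)) :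
    coreC R ≤ Subgroup.centralizer (D : Set M) := by
  set U := coreC R with hU
  have hUD : U ≤ Subgroup.normalizer (D : Set M) := coreC_normalizes hO hR hD
  have hDU : D ≤ Subgroup.normalizer (U : Set M) := hDR.trans (centralizer_le_normalizer_coreC R)
  haveI hn : ((D ⊓ U).subgroupOf D).Normal :=
    (Subgroup.normal_subgroupOf_iff_le_normalizer inf_le_left).mpr fun d hd => mem_normalizer_of_maps fun w hw =>
      ⟨Subgroup.mul_mem D (Subgroup.mul_mem D hd hw.1) (Subgroup.inv_mem D hd), (Subgroup.mem_normalizer_iff.mp (hDU hd) w).mp hw.2⟩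
  rcases quasisimple_normal_le_center_or_eq_top hD.2 ((D ⊓ U).subgroupOf D) with h | h
  swap
  · exfalso
    have hle : D ≤ U := (Subgroup.subgroupOf_eq_top.mp h).trans inf_le_right
    exact isQuasisimple_not_isSolvable hD.2
      (odd _ (Odd.of_dvd_nat (odd_card_coreC R) (Subgroup.card_dvd_of_le hle)))
  have h1 : ⁅⁅D, U⁆, D⁆ = ⊥ := by
    rw [Subgroup.commutator_eq_bot_iff_le_centralizer]
    refine le_trans (b := D ⊓ U) ?_ fun w hw d hd =>
      congrArg Subtype.val (Subgroup.mem_center_iff.mp (h (x := ⟨w, hw.1⟩) hw) ⟨d, hd⟩)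
    rw [Subgroup.commutator_le]
    intro d hd w hw
    rw [commutatorElement_def]
    refine Subgroup.mem_inf.mpr ⟨?_, mul_mem ((Subgroup.mem_normalizer_iff.mp (hDU hd) w).mp hw) (inv_mem hw)⟩
    rw [show d * w * d⁻¹ * w⁻¹ = d * (w * d⁻¹ * w⁻¹) by group]
    exact mul_mem hd ((Subgroup.mem_normalizer_iff.mp (hUD hw) _).mp (inv_mem hd))
  have h2 : ⁅⁅U, D⁆, D⁆ = ⊥ := by rwa [Subgroup.commutator_comm U D]
  have h3 := Subgroup.commutator_commutator_eq_bot_of_rotate (H₁ := D) (H₂ := D) (H₃ := U) h1 h2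
  rw [show ⁅D, D⁆ = D from Subgroup.isPerfect_iff.mp hD.2.1, Subgroup.commutator_comm,
    Subgroup.commutator_eq_bot_iff_le_centralizer] at h3
  exact h3

end Reduced

/-! ### Centralizers of elements of the four-groups -/

section Local

variable {G : Type u} [Group G] [Finite G]

/-- `C(y)` -/
abbrev cc (y : G) : Subgroup G := Subgroup.centralizer ({y} : Set G)

/-- `C(y) / O(C(y))` -/
abbrev qq (y : G) : Type u := ↥(cc y) ⧸ pPrimeCore 2 ↥(cc y)

/-- the canonical map -/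
abbrev ff (y : G) : ↥(cc y) →* qq y := bar 2 ↥(cc y)

theorem mem_cc {x y : G} : x ∈ cc y ↔ x * y = y * x := Subgroup.mem_centralizer_singleton_iff

theorem cc_le_normalizer_core (x : G) :
    cc x ≤ Subgroup.normalizer (centralizerPPrimeCore 2 x : Set G) := by
  intro g hg
  refine mem_normalizer_of_maps ?_
  rintro _ ⟨w, hw, rfl⟩
  exact ⟨⟨g, hg⟩ * w * ⟨g, hg⟩⁻¹, pPrimeCore_normal'.conj_mem w hw ⟨g, hg⟩, rfl⟩

theorem odd_card_core (x : G) : Odd (Nat.card (centralizerPPrimeCore 2 x)) := by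
  show Odd (Nat.card ↥((pPrimeCore 2 ↥(cc x)).map (cc x).subtype))
  rw [Subgroup.card_map_of_injective (Subgroup.subtype_injective _)]
  exact Nat.coprime_two_right.mp (card_pPrimeCore_coprime 2)

theorem odd_of_le {H K : Subgroup G} (h : H ≤ K) (hK : Odd (Nat.card K)) : Odd (Nat.card H) :=
  Odd.of_dvd_nat hK (Subgroup.card_dvd_of_le h)

theorem odd_order_core {x w : G} (hw : w ∈ centralizerPPrimeCore 2 x) : Odd (orderOf w) :=
  Odd.of_dvd_nat (odd_card_core x) (Subgroup.orderOf_dvd_natCard _ hw)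

theorem zpowers_two {x : G} (hx : x * x = 1) : IsPGroup 2 ↥(Subgroup.zpowers x) := by
  haveI : Fact (Nat.Prime 2) := ⟨Nat.prime_two⟩
  exact zpowers_isPGroup (n := 1) (by rw [pow_one, pow_two]; exact hx)

/-- The image in `C(y)/O` of `O(C(x)) ∩ C(y)` lies in the core of the centralizer of the image of `x`. -/
theorem image_core {x y : G} (hxy : x ∈ cc y) (hx : x * x = 1) (w : ↥(cc y))
    (hw : (w : G) ∈ centralizerPPrimeCore 2 x) : ff y w ∈ coreC (Subgroup.zpowers (ff y ⟨x, hxy⟩)) := by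
  set x' : ↥(cc y) := ⟨x, hxy⟩ with hx'
  have hp : IsPGroup 2 ↥(Subgroup.zpowers x') := zpowers_two (Subtype.ext hx)
  have h : w ∈ coreC (Subgroup.zpowers x') := by
    have hcx : ∀ g : ↥(cc y), g ∈ Subgroup.centralizer (Subgroup.zpowers x' : Set ↥(cc y)) → (g : G) ∈ cc x :=
      fun g hg => mem_cc.mpr (congrArg Subtype.val (hg x' (Subgroup.mem_zpowers x'))).symm
    refine le_coreC (W := (centralizerPPrimeCore 2 x).subgroupOf (cc y)) ?_ ?_ ?_ hw
    · intro v hv n hn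
      obtain ⟨k, rfl⟩ := Subgroup.mem_zpowers_iff.mp hn
      have hvx : Commute x' v :=
        Subtype.ext (mem_cc.mp ((Subgroup.map_subtype_le _ : centralizerPPrimeCore 2 x ≤ cc x) hv)).symm
      exact (hvx.zpow_left k).eq
    · intro g hg
      refine mem_normalizer_of_maps fun v hv => ?_
      exact (Subgroup.mem_normalizer_iff.mp (cc_le_normalizer_core x (hcx g hg)) _).mp hv
    · refine Nat.coprime_two_right.mpr (Odd.of_dvd_nat (odd_card_core x) ?_)
      exact Subgroup.card_dvd_of_injective ((cc y).subtype.subgroupComap (centralizerPPrimeCore 2 x))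
        (fun a b e => Subtype.ext (Subtype.ext (congrArg (fun z : centralizerPPrimeCore 2 x => (z : G)) e)))
  have h' := coreC_map_le hp ⟨w, h, rfl⟩
  rwa [MonoidHom.map_zpowers] at h'

/-- The image in `C(y)/O` of `O(C(A)) ∩ C(y)`. -/
theorem image_coreC {A : Subgroup G} {y : G} (hA : A ≤ cc y) (hAp : IsPGroup 2 A) (w : ↥(cc y))
    (hw : (w : G) ∈ coreC A) : ff y w ∈ coreC ((A.subgroupOf (cc y)).map (ff y)) := by
  have hp : IsPGroup 2 ↥(A.subgroupOf (cc y)) := hAp.of_equiv (Subgroup.subgroupOfEquivOfLe hA).symm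
  refine coreC_map_le hp ⟨w, ?_, rfl⟩
  refine le_coreC (W := (coreC A).subgroupOf (cc y)) ?_ ?_ ?_ hw
  · intro v hv a ha
    exact Subtype.ext (coreC_centralizes A hv (a : G) ha)
  · intro g hg
    have hgA : (g : G) ∈ Subgroup.centralizer (A : Set G) := fun a ha =>
      congrArg Subtype.val (hg ⟨a, hA ha⟩ ha)
    exact mem_normalizer_of_maps fun v hv =>
      (Subgroup.mem_normalizer_iff.mp (centralizer_le_normalizer_coreC A hgA) _).mp hv
  · refine Nat.coprime_two_right.mpr (Odd.of_dvd_nat (odd_card_coreC A) ?_)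
    exact Subgroup.card_dvd_of_injective ((cc y).subtype.subgroupComap (coreC A))
      (fun a b e => Subtype.ext (Subtype.ext (congrArg (fun z : coreC A => (z : G)) e)))

theorem mem_core_of_bar {y : G} {w : ↥(cc y)} (h : ff y w = 1) : (w : G) ∈ centralizerPPrimeCore 2 y :=
  ⟨w, (QuotientGroup.eq_one_iff w).mp h, rfl⟩

/-- An element of `O(C(x)) ∩ C(y)` centralising the components of `C(y)/O` lies in `O(C(y))`. -/
theorem mem_core_of_centralizes {x y : G} (hxy : x ∈ cc y) (hx : x * x = 1) {w : G}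
    (hw : w ∈ centralizerPPrimeCore 2 x) (hwy : w ∈ cc y)
    (hc : ∀ D : Subgroup (qq y), IsComponent D → ff y ⟨w, hwy⟩ ∈ Subgroup.centralizer (D : Set (qq y))) :
    w ∈ centralizerPPrimeCore 2 y := by
  refine mem_core_of_bar (w := ⟨w, hwy⟩) (eq_one_of_centralizes (pPrimeCore_quotient_eq_bot 2)
    (odd_orderOf_map _ (by rw [Subgroup.orderOf_mk]; exact odd_order_core hw)) hc ?_)
  exact coreC_centralizes_pCore (pPrimeCore_quotient_eq_bot 2) (zpowers_two (by
    rw [← map_mul, show (⟨x, hxy⟩ : ↥(cc y)) * ⟨x, hxy⟩ = 1 from Subtype.ext hx, map_one]))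
    (image_core hxy hx ⟨w, hwy⟩ hw)

/-- The hypothesis of core separation at one element, read in the quotient. -/
def Sep (A₁ A₂ : Subgroup G) : Prop :=
  ∀ y ∈ A₁ ⊔ A₂, y ≠ 1 → ∀ D : Subgroup (qq y), IsComponent D →
    (∀ a ∈ A₁, ∀ h : a ∈ cc y, ff y ⟨a, h⟩ ∈ Subgroup.centralizer (D : Set (qq y))) ∨
    (∀ a ∈ A₂, ∀ h : a ∈ cc y, ff y ⟨a, h⟩ ∈ Subgroup.centralizer (D : Set (qq y)))

theorem sep_of_isCoreSeparated {A₁ A₂ : Subgroup G} (h : IsCoreSeparated A₁ A₂) : Sep A₁ A₂ := by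
  intro y hy hy1 D hD
  haveI : Fact (Nat.Prime 2) := ⟨Nat.prime_two⟩
  obtain ⟨-, -, -, -, -, -, -, hsep⟩ := h
  set E := pEl 2 (D.comap (ff y)) with hE
  have hEc : IsPComponent 2 E := (isPComponent_iff 2).mpr ⟨D, hD, rfl⟩
  have key : ∀ B : Subgroup G,
      ⁅E.map (cc y).subtype, B⁆ ≤ centralizerPPrimeCore 2 y →
      ∀ a ∈ B, ∀ h : a ∈ cc y, ff y ⟨a, h⟩ ∈ Subgroup.centralizer (D : Set (qq y)) := by
    intro B hB a ha h d hd
    rw [← map_pEl_comap 2 hD] at hd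
    obtain ⟨e, he, rfl⟩ := hd
    obtain ⟨o, ho, hoe⟩ := hB (Subgroup.commutator_mem_commutator ⟨e, he, rfl⟩ ha)
    have h1 : o = ⁅e, (⟨a, h⟩ : ↥(cc y))⁆ := Subtype.ext hoe
    have h2 : ff y ⁅e, (⟨a, h⟩ : ↥(cc y))⁆ = 1 := (QuotientGroup.eq_one_iff _).mpr (h1 ▸ ho)
    rw [map_commutatorElement, commutatorElement_eq_one_iff_mul_comm] at h2
    exact h2
  exact (hsep y hy hy1 E hEc).imp (key A₁) (key A₂)

/-- What is needed of the pair. -/
structure Pair (A₁ A₂ : Subgroup G) : Prop where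
  comm₁ : ∀ x ∈ A₁, ∀ y ∈ A₁, x * y = y * x
  comm₂ : ∀ x ∈ A₂, ∀ y ∈ A₂, x * y = y * x
  comm : ∀ x ∈ A₁, ∀ y ∈ A₂, x * y = y * x
  sq₁ : ∀ x ∈ A₁, x * x = 1
  sq₂ : ∀ x ∈ A₂, x * x = 1
  four : Nat.card A₁ = 4
  sep : Sep A₁ A₂

theorem Pair.of {A₁ A₂ : Subgroup G} (h : IsCoreSeparated A₁ A₂) : Pair A₁ A₂ ∧ Pair A₂ A₁ := by
  have hs := sep_of_isCoreSeparated h
  obtain ⟨⟨c1, e1⟩, ⟨c2, e2⟩, n1, n2, -, -, hc, -⟩ := h
  have m1 : ∀ x ∈ A₁, ∀ y ∈ A₁, x * y = y * x := fun x hx y hy =>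
    congrArg Subtype.val (c1.is_comm.comm ⟨x, hx⟩ ⟨y, hy⟩)
  have m2 : ∀ x ∈ A₂, ∀ y ∈ A₂, x * y = y * x := fun x hx y hy =>
    congrArg Subtype.val (c2.is_comm.comm ⟨x, hx⟩ ⟨y, hy⟩)
  refine ⟨⟨m1, m2, hc, fun x hx => by rw [← pow_two]; exact e1 x hx,
    fun x hx => by rw [← pow_two]; exact e2 x hx, n1, hs⟩,
    ⟨m2, m1, fun x hx y hy => (hc y hy x hx).symm, fun x hx => by rw [← pow_two]; exact e2 x hx,
    fun x hx => by rw [← pow_two]; exact e1 x hx, n2, fun y hy hy1 D hD => ?_⟩⟩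
  exact (hs y (sup_comm A₁ A₂ ▸ hy) hy1 D hD).symm

variable {A₁ A₂ : Subgroup G}

theorem Pair.split (P : Pair A₁ A₂) {a : G} (ha : a ∈ A₁ ⊔ A₂) : ∃ x ∈ A₁, ∃ y ∈ A₂, x * y = a := by
  have hN : A₁ ≤ Subgroup.normalizer (A₂ : Set G) := fun g hg => mem_normalizer_of_maps fun x hx => by
    rw [P.comm g hg x hx, mul_inv_cancel_right]; exact hx
  have h : a ∈ ((A₁ ⊔ A₂ : Subgroup G) : Set G) := ha
  rw [Subgroup.coe_mul_of_left_le_normalizer_right A₁ A₂ hN] at h
  exact h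

theorem Pair.commA (P : Pair A₁ A₂) {a b : G} (ha : a ∈ A₁ ⊔ A₂) (hb : b ∈ A₁ ⊔ A₂) : a * b = b * a := by
  obtain ⟨x, hx, y, hy, rfl⟩ := P.split ha
  obtain ⟨x', hx', y', hy', rfl⟩ := P.split hb
  have e1 : Commute x (x' * y') := Commute.mul_right (P.comm₁ x hx x' hx') (P.comm x hx y' hy')
  have e2 : Commute y (x' * y') := Commute.mul_right (P.comm x' hx' y hy).symm (P.comm₂ y hy y' hy')
  exact (e1.mul_left e2).eq

theorem Pair.mem_cc (P : Pair A₁ A₂) {a b : G} (ha : a ∈ A₁ ⊔ A₂) (hb : b ∈ A₁ ⊔ A₂) : a ∈ cc b :=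
  CoreSep.mem_cc.mpr (P.commA ha hb)

theorem Pair.sqA (P : Pair A₁ A₂) {a : G} (ha : a ∈ A₁ ⊔ A₂) : a * a = 1 := by
  obtain ⟨x, hx, y, hy, rfl⟩ := P.split ha
  calc x * y * (x * y) = x * (y * x) * y := by group
    _ = x * (x * y) * y := by rw [P.comm x hx y hy]
    _ = x * x * (y * y) := by group
    _ = 1 := by rw [P.sq₁ x hx, P.sq₂ y hy, one_mul]

theorem Pair.isP (P : Pair A₁ A₂) : IsPGroup 2 A₁ := fun x => ⟨1, Subtype.ext (by
  rw [pow_one, pow_two]; exact P.sq₁ x x.2)⟩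

theorem Pair.le_normalizer_core (P : Pair A₁ A₂) {a : G} (ha : a ∈ A₁ ⊔ A₂) :
    A₁ ⊔ A₂ ≤ Subgroup.normalizer (centralizerPPrimeCore 2 a : Set G) := fun _ hg =>
  cc_le_normalizer_core a (P.mem_cc hg ha)

theorem Pair.mem_pair (P : Pair A₁ A₂) {a' α β : G} (ha' : a' ∈ A₁) (ha'1 : a' ≠ 1) (hα : α ∈ A₁) (hα1 : α ≠ 1)
    (hαa : α ≠ a') (hβ : β ∈ A₁) (hβ1 : β ≠ 1) (hβa : β ≠ a') : α * β = 1 ∨ α * β = a' := by
  classical
  by_cases hab : α = β
  · subst hab; exact Or.inl (P.sq₁ α hα)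
  right
  by_contra hne
  haveI : Fintype ↥A₁ := Fintype.ofFinite _
  have h4 : Fintype.card ↥A₁ = 4 := by rw [← Nat.card_eq_fintype_card]; exact P.four
  let S : Finset ↥A₁ :=
    {1, ⟨a', ha'⟩, ⟨α, hα⟩, ⟨β, hβ⟩, ⟨α * β, mul_mem hα hβ⟩}
  have hab1 : α * β ≠ 1 := fun e => hab (by
    calc α = α * (β * β) := by rw [P.sq₁ β hβ, mul_one]
      _ = α * β * β := by group
      _ = β := by rw [e, one_mul])
  have hab2 : α * β ≠ α := fun e => hβ1 (mul_left_cancel (a := α) (by rw [e, mul_one]))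
  have hab3 : α * β ≠ β := fun e => hα1 (mul_right_cancel (b := β) (by rw [e, one_mul]))
  have hS : S.card = 5 := by
    simp only [S]
    repeat rw [Finset.card_insert_of_notMem]
    · rfl
    all_goals
      simp only [Finset.mem_insert, Finset.mem_singleton, Subtype.ext_iff, Subgroup.coe_one, not_or]
    all_goals repeat' constructor
    all_goals
      first
        | exact Ne.symm ha'1
        | exact Ne.symm hα1
        | exact Ne.symm hβ1
        | exact Ne.symm hab1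
        | exact Ne.symm hαa
        | exact Ne.symm hβa
        | exact Ne.symm hne
        | exact hab
        | exact Ne.symm hab2
        | exact Ne.symm hab3
  have hle := S.card_le_univ
  rw [hS, h4] at hle
  omega

variable (odd : ∀ (H : Type u) [Group H] [Finite H], Odd (Nat.card H) → Group.IsSolvable H)
include odd

/-- For `a ∈ A₁A₂` and `a' ∈ A₁`, the commutators of `O_a ∩ C(a')` with `A₁` lie in `O_{a'}`. -/
theorem comm_mem_core (P : Pair A₁ A₂) {a a' : G} (ha : a ∈ A₁ ⊔ A₂) (ha' : a' ∈ A₁) (ha'1 : a' ≠ 1) {w α : G}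
    (hw : w ∈ centralizerPPrimeCore 2 a) (hwy : w ∈ cc a') (hα : α ∈ A₁) :
    ⁅w, α⁆ ∈ centralizerPPrimeCore 2 a' := by
  have ha'A : a' ∈ A₁ ⊔ A₂ := Subgroup.mem_sup_left ha'
  have hαA : α ∈ A₁ ⊔ A₂ := Subgroup.mem_sup_left hα
  have hay : a ∈ cc a' := P.mem_cc ha ha'A
  have hαy : α ∈ cc a' := P.mem_cc hαA ha'A
  have hk : ⁅w, α⁆ ∈ centralizerPPrimeCore 2 a := by
    rw [commutatorElement_def, show w * α * w⁻¹ * α⁻¹ = w * (α * w⁻¹ * α⁻¹) by group]
    exact mul_mem hw ((Subgroup.mem_normalizer_iff.mp (P.le_normalizer_core ha hαA) _).mp (inv_mem hw))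
  have hky : ⁅w, α⁆ ∈ cc a' := by
    rw [commutatorElement_def]
    exact mul_mem (mul_mem (mul_mem hwy hαy) (inv_mem hwy)) (inv_mem hαy)
  refine mem_core_of_centralizes hay (P.sqA ha) hk hky fun D hD => ?_
  set f := ff a' with hf
  set c := f ⟨a, hay⟩ with hc
  set v := f ⟨w, hwy⟩ with hv
  set β := f ⟨α, hαy⟩ with hβ
  have hcc : c * c = 1 := by
    rw [hc, ← map_mul, show (⟨a, hay⟩ : ↥(cc a')) * ⟨a, hay⟩ = 1 from Subtype.ext (P.sqA ha), map_one]
  have hO : pPrimeCore 2 (qq a') = ⊥ := pPrimeCore_quotient_eq_bot 2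
  have hvk : v ∈ coreC (Subgroup.zpowers c) := image_core hay (P.sqA ha) ⟨w, hwy⟩ hw
  have hvN : v ∈ Subgroup.normalizer (D : Set (qq a')) := coreC_normalizes hO (zpowers_two hcc) hD hvk
  have e : f ⟨⁅w, α⁆, hky⟩ = ⁅v, β⁆ := by
    rw [hv, hβ, ← map_commutatorElement]; exact congrArg f (Subtype.ext rfl)
  rw [e]
  by_cases hβD : β ∈ Subgroup.centralizer (D : Set (qq a'))
  · exact comm_mem_centralizer hvN hβD
  by_cases hcD : c ∈ Subgroup.centralizer (D : Set (qq a'))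
  · have hDc : D ≤ Subgroup.centralizer (Subgroup.zpowers c : Set (qq a')) := by
      refine Subgroup.le_centralizer_iff.mp ?_
      rw [Subgroup.zpowers_le]; exact hcD
    rw [← e]
    exact coreC_centralizes_component odd hO (zpowers_two hcc) hD hDc
      (image_core hay (P.sqA ha) ⟨⁅w, α⁆, hky⟩ hk)
  rcases P.sep a' ha'A ha'1 D hD with h | h
  · exact absurd (h α hα hαy) hβD
  obtain ⟨x, hx, y, hy, hxy⟩ := P.split ha
  have hxy' : x ∈ cc a' := P.mem_cc (Subgroup.mem_sup_left hx) ha'A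
  have hyy' : y ∈ cc a' := P.mem_cc (Subgroup.mem_sup_right hy) ha'A
  have hyD : f ⟨y, hyy'⟩ ∈ Subgroup.centralizer (D : Set (qq a')) := h y hy hyy'
  have hce : c = f ⟨x, hxy'⟩ * f ⟨y, hyy'⟩ := by
    rw [hc, ← map_mul]; exact congrArg f (Subtype.ext hxy.symm)
  have hxD : f ⟨x, hxy'⟩ ∉ Subgroup.centralizer (D : Set (qq a')) := fun e' => hcD (hce ▸ mul_mem e' hyD)
  have hzD : ∀ z : ↥(cc a'), (z : G) = 1 ∨ (z : G) = a' →
      f z ∈ Subgroup.centralizer (D : Set (qq a')) := by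
    intro z hz d _
    obtain ⟨g, rfl⟩ := bar_surjective 2 d
    show f g * f z = f z * f g
    rw [← map_mul, ← map_mul]
    refine congrArg f (Subtype.ext ?_)
    show (g : G) * (z : G) = (z : G) * (g : G)
    rcases hz with e' | e' <;> rw [e']
    · rw [mul_one, one_mul]
    · exact mem_cc.mp g.2
  have hmem : α * x = 1 ∨ α * x = a' :=
    P.mem_pair ha' ha'1 hα (fun e' => hβD (hzD _ (Or.inl e'))) (fun e' => hβD (hzD _ (Or.inr e'))) hx
      (fun e' => hxD (hzD _ (Or.inl e'))) (fun e' => hxD (hzD _ (Or.inr e')))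
  have hq : β * c ∈ Subgroup.centralizer (D : Set (qq a')) := by
    have : β * c = f (⟨α, hαy⟩ * ⟨x, hxy'⟩) * f ⟨y, hyy'⟩ := by rw [hce, map_mul, mul_assoc]
    rw [this]
    exact mul_mem (hzD _ hmem) hyD
  have hvc : c * v = v * c := coreC_centralizes _ hvk c (Subgroup.mem_zpowers c)
  have hci : c⁻¹ = c := inv_eq_of_mul_eq_one_right hcc
  have h2 : ⁅v, β⁆ = ⁅v, β * c⁆ := by
    rw [commutatorElement_def, commutatorElement_def, mul_inv_rev, hci]
    calc v * β * v⁻¹ * β⁻¹ = v * β * (c * c) * v⁻¹ * β⁻¹ := by rw [hcc, mul_one]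
      _ = v * (β * c) * (c * v⁻¹) * β⁻¹ := by group
      _ = v * (β * c) * (v⁻¹ * c) * β⁻¹ := by rw [((show Commute c v from hvc).inv_right).eq]
      _ = v * (β * c) * v⁻¹ * (c * β⁻¹) := by group
  rw [h2]
  exact comm_mem_centralizer hvN hq

/-- `[O_a, A₁] ∩ C(A₁) ≤ O(C(A₁))`. -/
theorem fixed_le_coreC (P : Pair A₁ A₂) {a : G} (ha : a ∈ A₁ ⊔ A₂) :
    ⁅centralizerPPrimeCore 2 a, A₁⁆ ⊓ Subgroup.centralizer (A₁ : Set G) ≤ coreC A₁ := by
  haveI : Fact (Nat.Prime 2) := ⟨Nat.prime_two⟩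
  set O := centralizerPPrimeCore 2 a with hOdef
  have hN : A₁ ≤ Subgroup.normalizer (O : Set G) := le_sup_left.trans (P.le_normalizer_core ha)
  have hcop : (Nat.card A₁).Coprime (Nat.card O) := by
    rw [P.four, show 4 = 2 ^ 2 from rfl]
    exact ((Nat.coprime_two_right.mpr (odd_card_core a)).pow_right 2).symm
  have hAc : IsMulCommutative ↥A₁ := ⟨⟨fun x y => Subtype.ext (P.comm₁ x x.2 y y.2)⟩⟩
  haveI := P.isP.isNilpotent
  have hYO : ⁅O, A₁⁆ ≤ O := commutator_le_of_le_normalizer hN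
  rw [Cfsg.Agent.S1329.result A₁ A₁ ⁅O, A₁⁆ P.isP hAc le_rfl (odd_of_le hYO (odd_card_core a))
    (right_le_normalizer_commutator A₁ O) (coprime_commutator_commutator hN hcop (Or.inl inferInstance))]
  refine iSup_le fun ⟨B₀, hB₀, hcyc⟩ => ?_
  haveI : (B₀.subgroupOf A₁).Normal :=
    ⟨fun n hn g => by rwa [hAc.is_comm.comm g n, mul_inv_cancel_right]⟩
  have hne : ∃ a' ∈ B₀, a' ≠ 1 := by
    by_contra hall
    push_neg at hall
    have hb : B₀.subgroupOf A₁ = ⊥ :=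
      (Subgroup.eq_bot_iff_forall _).mpr fun z hz => Subtype.ext (hall _ hz)
    haveI := hcyc
    obtain ⟨g, hg⟩ := IsCyclic.exists_ofOrder_eq_natCard (α := ↥A₁ ⧸ B₀.subgroupOf A₁)
    have h4 : Nat.card (↥A₁ ⧸ B₀.subgroupOf A₁) = 4 := by
      rw [← Subgroup.index_eq_card, hb, Subgroup.index_bot]; exact P.four
    obtain ⟨g, rfl⟩ := QuotientGroup.mk'_surjective _ g
    have h2 : orderOf (QuotientGroup.mk' (B₀.subgroupOf A₁) g) ∣ 2 := by
      refine orderOf_dvd_of_pow_eq_one ?_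
      rw [← map_pow, show g ^ 2 = 1 from Subtype.ext (by rw [pow_two]; exact P.sq₁ g g.2), map_one]
    rw [hg, h4] at h2
    exact absurd (Nat.le_of_dvd two_pos h2) (by omega)
  obtain ⟨a', ha'B, ha'1⟩ := hne
  have ha' : a' ∈ A₁ := hB₀ ha'B
  have hle : ⁅⁅O, A₁⁆ ⊓ Subgroup.centralizer (B₀ : Set G), A₁⁆ ≤ centralizerPPrimeCore 2 a' := by
    rw [Subgroup.commutator_le]
    intro w hw α hα
    exact comm_mem_core odd P ha ha' ha'1 (hYO hw.1) (mem_cc.mpr (hw.2 a' ha'B).symm) hα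
  refine fun t ht => le_coreC (W := centralizerPPrimeCore 2 a' ⊓ Subgroup.centralizer (A₁ : Set G))
    inf_le_right ?_ ?_ ⟨hle ht.2, ht.1.2⟩
  · intro g hg
    refine mem_normalizer_of_maps fun x hx => ⟨?_, Subgroup.mul_mem _ (Subgroup.mul_mem _ hg hx.2) (Subgroup.inv_mem _ hg)⟩
    exact (Subgroup.mem_normalizer_iff.mp (cc_le_normalizer_core a' (mem_cc.mpr (hg a' ha').symm)) x).mp hx.1
  · exact Nat.coprime_two_right.mpr (odd_of_le inf_le_left (odd_card_core a'))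

omit odd

/-- `[O_a, A₁] (O_a ∩ O(C(A₁)))` -/
abbrev YY (A₁ : Subgroup G) (a : G) : Subgroup G :=
  ⁅centralizerPPrimeCore 2 a, A₁⁆ ⊔ (centralizerPPrimeCore 2 a ⊓ coreC A₁)

theorem YY_le (P : Pair A₁ A₂) {a : G} (ha : a ∈ A₁ ⊔ A₂) : YY A₁ a ≤ centralizerPPrimeCore 2 a :=
  sup_le (commutator_le_of_le_normalizer (le_sup_left.trans (P.le_normalizer_core ha))) inf_le_left

theorem YY_invariant (P : Pair A₁ A₂) {a : G} (ha : a ∈ A₁ ⊔ A₂) :
    A₁ ⊔ A₂ ≤ Subgroup.normalizer (YY A₁ a : Set G) := by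
  intro g hg
  have hgO := P.le_normalizer_core ha hg
  have hgC : g ∈ Subgroup.centralizer (A₁ : Set G) := fun x hx => P.commA (Subgroup.mem_sup_left hx) hg
  have hgK := centralizer_le_normalizer_coreC A₁ hgC
  refine mem_normalizer_of_maps fun x hx => ?_
  have hle : YY A₁ a ≤ (YY A₁ a).comap (MulAut.conj g).toMonoidHom := by
    refine sup_le ?_ fun w hw => Subgroup.mem_sup_right ⟨(Subgroup.mem_normalizer_iff.mp hgO w).mp hw.1,
      (Subgroup.mem_normalizer_iff.mp hgK w).mp hw.2⟩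
    rw [Subgroup.commutator_le]
    intro w hw α hα
    refine Subgroup.mem_sup_left ?_
    show g * ⁅w, α⁆ * g⁻¹ ∈ _
    have e : g * α * g⁻¹ = α := by rw [← hgC α hα, mul_inv_cancel_right]
    have : g * ⁅w, α⁆ * g⁻¹ = ⁅g * w * g⁻¹, α⁆ := by
      conv_rhs => rw [← e]
      rw [commutatorElement_def, commutatorElement_def]
      group
    rw [this]
    exact Subgroup.commutator_mem_commutator ((Subgroup.mem_normalizer_iff.mp hgO w).mp hw) hα
  exact hle hx

include odd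

/-- `Y ∩ C(A₁) ≤ O(C(A₁))`. -/
theorem YY_fixed (P : Pair A₁ A₂) {a : G} (ha : a ∈ A₁ ⊔ A₂) :
    YY A₁ a ⊓ Subgroup.centralizer (A₁ : Set G) ≤ coreC A₁ := by
  intro t ht
  have h : t ∈ ((YY A₁ a : Subgroup G) : Set G) := ht.1
  rw [Subgroup.coe_mul_of_right_le_normalizer_left _ _
    (inf_le_left.trans (left_le_normalizer_commutator A₁ (centralizerPPrimeCore 2 a)))] at h
  obtain ⟨u, hu, k, hk, rfl⟩ := h
  refine Subgroup.mul_mem _ (fixed_le_coreC odd P ha ⟨hu, ?_⟩) hk.2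
  show u ∈ Subgroup.centralizer (A₁ : Set G)
  have := Subgroup.mul_mem _ ht.2 (Subgroup.inv_mem _ (coreC_centralizes A₁ hk.2))
  rwa [mul_inv_cancel_right] at this

/-- An element of `Y(a) ∩ C(b)` centralises each component of `C(b)/O` centralised by `A₁`. -/
theorem YY_centralizes (P : Pair A₁ A₂) {a b : G} (ha : a ∈ A₁ ⊔ A₂) (hb : b ∈ A₁ ⊔ A₂) {D : Subgroup (qq b)}
    (hD : IsComponent D) (hA : ∀ α ∈ A₁, ∀ h : α ∈ cc b, ff b ⟨α, h⟩ ∈ Subgroup.centralizer (D : Set (qq b)))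
    {z : G} (hz : z ∈ YY A₁ a) (hzb : z ∈ cc b) :
    ff b ⟨z, hzb⟩ ∈ Subgroup.centralizer (D : Set (qq b)) := by
  haveI : Fact (Nat.Prime 2) := ⟨Nat.prime_two⟩
  have hO : pPrimeCore 2 (qq b) = ⊥ := pPrimeCore_quotient_eq_bot 2
  have hAb : A₁ ≤ cc b := fun α hα => P.mem_cc (Subgroup.mem_sup_left hα) hb
  have hab : a ∈ cc b := P.mem_cc ha hb
  set N := YY A₁ a ⊓ cc b with hN
  have hAN : A₁ ≤ Subgroup.normalizer (N : Set G) := fun g hg => mem_normalizer_of_maps fun x hx =>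
    ⟨(Subgroup.mem_normalizer_iff.mp (YY_invariant P ha (Subgroup.mem_sup_left hg)) x).mp hx.1,
      Subgroup.mul_mem _ (Subgroup.mul_mem _ (hAb hg) hx.2) (Subgroup.inv_mem _ (hAb hg))⟩
  have hcop : (Nat.card A₁).Coprime (Nat.card N) := by
    rw [P.four, show 4 = 2 ^ 2 from rfl]
    exact ((Nat.coprime_two_right.mpr
      (odd_of_le (inf_le_left.trans (YY_le P ha)) (odd_card_core a))).pow_right 2).symm
  haveI := P.isP.isNilpotent
  obtain ⟨x, hx, k, hk, rfl⟩ := coprime_decomp hAN hcop (Or.inl inferInstance) (k := z) ⟨hz, hzb⟩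
  have h1 : ⁅N, A₁⁆ ≤ ((Subgroup.centralizer (D : Set (qq b))).comap (ff b)).map (cc b).subtype := by
    rw [Subgroup.commutator_le]
    intro n hn α hα
    refine ⟨⁅(⟨n, hn.2⟩ : ↥(cc b)), ⟨α, hAb hα⟩⁆, ?_, rfl⟩
    rw [SetLike.mem_coe, Subgroup.mem_comap, map_commutatorElement]
    refine comm_mem_centralizer ?_ (hA α hα (hAb hα))
    exact coreC_normalizes hO (zpowers_two (by
      rw [← map_mul, show (⟨a, hab⟩ : ↥(cc b)) * ⟨a, hab⟩ = 1 from Subtype.ext (P.sqA ha), map_one])) hD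
      (image_core hab (P.sqA ha) ⟨n, hn.2⟩ (YY_le P ha hn.1))
  obtain ⟨x', hx', rfl⟩ := h1 hx
  have hkK : k ∈ coreC A₁ := YY_fixed odd P ha ⟨hk.1.1, hk.2⟩
  have hAim : ∀ q ∈ (A₁.subgroupOf (cc b)).map (ff b), q ∈ Subgroup.centralizer (D : Set (qq b)) := by
    rintro _ ⟨α, hα, rfl⟩
    exact hA α hα α.2
  have hk' : ff b ⟨k, hk.1.2⟩ ∈ Subgroup.centralizer (D : Set (qq b)) :=
    coreC_centralizes_component odd hO
      ((P.isP.of_equiv (Subgroup.subgroupOfEquivOfLe hAb).symm).map _) hD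
      (Subgroup.le_centralizer_iff.mp hAim) (image_coreC hAb P.isP ⟨k, hk.1.2⟩ hkK)
  rw [show (⟨(cc b).subtype x' * k, hzb⟩ : ↥(cc b)) = x' * ⟨k, hk.1.2⟩ from Subtype.ext rfl, map_mul]
  exact mul_mem hx' hk'

/-- Balance for one of the factors, given that the element lies in `O_b`. -/
theorem YY_balance (P : Pair A₁ A₂) {a b : G} (ha : a ∈ A₁ ⊔ A₂) (hb : b ∈ A₁ ⊔ A₂) {z : G}
    (hz : z ∈ YY A₁ a) (hzb : z ∈ centralizerPPrimeCore 2 b) : z ∈ YY A₁ b := by
  haveI : Fact (Nat.Prime 2) := ⟨Nat.prime_two⟩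
  set N := YY A₁ a ⊓ centralizerPPrimeCore 2 b with hN
  have hAN : A₁ ≤ Subgroup.normalizer (N : Set G) := fun g hg => mem_normalizer_of_maps fun x hx =>
    ⟨(Subgroup.mem_normalizer_iff.mp (YY_invariant P ha (Subgroup.mem_sup_left hg)) x).mp hx.1,
      (Subgroup.mem_normalizer_iff.mp (P.le_normalizer_core hb (Subgroup.mem_sup_left hg)) x).mp hx.2⟩
  have hcop : (Nat.card A₁).Coprime (Nat.card N) := by
    rw [P.four, show 4 = 2 ^ 2 from rfl]
    exact ((Nat.coprime_two_right.mpr (odd_of_le inf_le_right (odd_card_core b))).pow_right 2).symm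
  haveI := P.isP.isNilpotent
  obtain ⟨x, hx, k, hk, rfl⟩ := coprime_decomp hAN hcop (Or.inl inferInstance) (k := z) ⟨hz, hzb⟩
  exact Subgroup.mul_mem_sup (Subgroup.commutator_mono inf_le_right le_rfl hx)
    ⟨hk.1.2, YY_fixed odd P ha ⟨hk.1.1, hk.2⟩⟩

/-- Goldschmidt's signalizer functor for a core-separated pair. -/
theorem signalizer (hcs : IsCoreSeparated A₁ A₂) :
    IsSignalizerFunctor 2 (A₁ ⊔ A₂) (fun a => YY A₁ a ⊓ YY A₂ a) := by
  obtain ⟨P, Q⟩ := Pair.of hcs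
  refine ⟨fun a ha _ => ?_, fun a ha _ => ?_, fun a ha _ b hb x hx => ?_, fun a ha _ b hb hb1 => ?_⟩
  · exact inf_le_left.trans ((YY_le P ha).trans (Subgroup.map_subtype_le _))
  · intro h2
    have h := odd_of_le (inf_le_left.trans (YY_le P ha) : YY A₁ a ⊓ YY A₂ a ≤ _) (odd_card_core a)
    exact (Nat.not_even_iff_odd.mpr h) (even_iff_two_dvd.mpr h2)
  · have ha' : a ∈ A₂ ⊔ A₁ := sup_comm A₁ A₂ ▸ ha
    have hb' : b ∈ A₂ ⊔ A₁ := sup_comm A₁ A₂ ▸ hb
    exact ⟨(Subgroup.mem_normalizer_iff.mp (YY_invariant P ha hb) x).mp hx.1,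
      (Subgroup.mem_normalizer_iff.mp (YY_invariant Q ha' hb') x).mp hx.2⟩
  · rintro z ⟨⟨hz1, hz2⟩, hzb⟩
    have ha' : a ∈ A₂ ⊔ A₁ := sup_comm A₁ A₂ ▸ ha
    have hb' : b ∈ A₂ ⊔ A₁ := sup_comm A₁ A₂ ▸ hb
    have hcore : z ∈ centralizerPPrimeCore 2 b := by
      refine mem_core_of_centralizes (P.mem_cc ha hb) (P.sqA ha) (YY_le P ha hz1) hzb fun D hD => ?_
      rcases P.sep b hb hb1 D hD with h | h
      · exact YY_centralizes odd P ha hb hD h hz1 hzb
      · exact YY_centralizes odd Q ha' hb' hD h hz2 hzb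
    exact ⟨YY_balance odd P ha hb hz1 hcore, YY_balance odd Q ha' hb' hz2 hcore⟩

end Local

end CfsgLib.AfterFT.CoreSep
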