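import Cfsg.Agent.S0225

/-!
Row 204: a noncyclic finite simple group contains a four-group, given the odd order theorem.
-/

set_option autoImplicit false
set_option linter.unusedSectionVars false
set_option linter.style.haveILetI false

namespace CfsgLib.AfterFT

open Subgroup

universe u

/-- A simple group with commuting elements is cyclic. -/
theorem isCyclic_of_simple_comm {G : Type u} [Group G] [IsSimpleGroup G] (h : ∀ a b : G, a * b = b * a) :
    IsCyclic G :=
  letI : CommGroup G := { (inferInstance : Group G) with mul_comm := h }
  inferInstance

theorem exists_klein_four_of_odd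
    (odd : ∀ (H : Type u) [Group H] [Finite H], Odd (Nat.card H) → Group.IsSolvable H)
    {G : Type u} [Group G] [Finite G] [IsSimpleGroup G] (hG : ¬ IsCyclic G) :
    ∃ E : Subgroup G, IsKleinFour E := by
  by_contra h
  push Not at h
  have heven : Even (Nat.card G) := Nat.not_odd_iff_even.mp fun ho =>
    hG (isCyclic_of_simple_comm (IsSimpleGroup.comm_iff_isSolvable.mpr (odd G ho)))
  obtain ⟨z, hz, N, hN, hodd, hc⟩ := Cfsg.Agent.S0225.result heven h
  rcases hN.eq_bot_or_eq_top with rfl | rfl
  · have hzc : z ∈ center G := mem_center_iff.mpr fun g => by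
      have := mem_bot.mp (hc g)
      rw [mul_inv_eq_one, mul_inv_eq_iff_eq_mul] at this
      exact this.symm
    have hne : center G ≠ ⊥ := fun e => by
      rw [e, mem_bot] at hzc
      rw [hzc, orderOf_one] at hz
      omega
    have htop := (inferInstance : (center G).Normal).eq_bot_or_eq_top.resolve_left hne
    exact hG (isCyclic_of_simple_comm fun a b =>
      (mem_center_iff.mp (htop ▸ mem_top a : a ∈ center G) b).symm)
  · rw [card_top] at hodd
    exact Nat.not_odd_iff_even.mpr heven hodd

end CfsgLib.AfterFT
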