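import Cfsg.Prelude.Def_HallClasses
import Cfsg.Agent.Lib.Coprime

/-!
Row 4310: extensions of C_π-groups by C_π-groups are C_π-groups, given that groups of odd order are solvable
(needed only for the conjugacy of complements).
-/

set_option autoImplicit false
set_option linter.unusedSectionVars false
set_option linter.style.haveILetI false

namespace CfsgLib.AfterFT.CPiExt

open Subgroup Cfsg
open scoped Pointwise

universe u

theorem conj_eq_map {G : Type u} [Group G] (g : G) (H : Subgroup G) :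
    MulAut.conj g • H = H.map (MulAut.conj g).toMonoidHom := rfl

theorem card_eq_mul_relIndex {G : Type u} [Group G] {H M : Subgroup G} (h : H ≤ M) :
    Nat.card M = Nat.card H * H.relIndex M := by
  rw [← Subgroup.relIndex_bot_left, ← Subgroup.relIndex_bot_left, Subgroup.relIndex_mul_relIndex _ _ _ bot_le h]

/-- Hall subgroups meet normal subgroups in Hall subgroups. -/
theorem hall_subgroupOf {G : Type u} [Group G] [Finite G] {π : Set ℕ} {H A : Subgroup G} [A.Normal]
    (hH : IsPiHall π H) : IsPiHall π (H.subgroupOf A) := by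
  constructor
  · intro p hp hd
    refine hH.1 p hp (hd.trans ?_)
    rw [← inf_subgroupOf_right, Nat.card_congr (subgroupOfEquivOfLe (inf_le_right : H ⊓ A ≤ A)).toEquiv]
    exact card_dvd_of_le inf_le_left
  · intro p hp hπ hd
    refine hH.2 p hp hπ (hd.trans ?_)
    have h1 := card_eq_mul_relIndex (le_sup_left : H ≤ H ⊔ A)
    have h2 := card_eq_mul_relIndex (le_sup_right : A ≤ H ⊔ A)
    have h3 := card_eq_mul_relIndex (inf_le_left : H ⊓ A ≤ H)
    have h4 := card_eq_mul_relIndex (inf_le_right : H ⊓ A ≤ A)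
    rw [inf_relIndex_left] at h3
    rw [inf_relIndex_right] at h4
    rw [relIndex_sup_right] at h2
    have h5 : H.relIndex (H ⊔ A) * Nat.card ↥(H ⊓ A) = H.relIndex A * Nat.card ↥(H ⊓ A) := by
      apply Nat.eq_of_mul_eq_mul_left (Nat.card_pos (α := H))
      calc Nat.card H * (H.relIndex (H ⊔ A) * Nat.card ↥(H ⊓ A))
          = Nat.card ↥(H ⊔ A) * Nat.card ↥(H ⊓ A) := by rw [h1]; ring
        _ = Nat.card A * (Nat.card ↥(H ⊓ A) * A.relIndex H) := by rw [h2]; ring
        _ = Nat.card A * Nat.card H := by rw [← h3]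
        _ = _ := by rw [h4]; ring
    have h6 : H.relIndex A = H.relIndex (H ⊔ A) :=
      (Nat.eq_of_mul_eq_mul_right Nat.card_pos h5).symm
    show H.relIndex A ∣ _
    rw [h6]
    exact ⟨(H ⊔ A).index, (relIndex_mul_index le_sup_left).symm⟩

/-- Images of Hall subgroups are Hall subgroups. -/
theorem hall_map {G Q : Type u} [Group G] [Finite G] [Group Q] {π : Set ℕ} {H : Subgroup G}
    (hH : IsPiHall π H) (f : G →* Q) (hf : Function.Surjective f) : IsPiHall π (H.map f) :=
  ⟨fun p hp hd => hH.1 p hp (hd.trans (H.card_map_dvd f)),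
    fun p hp hπ hd => hH.2 p hp hπ (hd.trans (H.index_map_dvd hf))⟩

theorem hall_conj {G : Type u} [Group G] [Finite G] {π : Set ℕ} {H : Subgroup G} (hH : IsPiHall π H) (g : G) :
    IsPiHall π (MulAut.conj g • H) := by
  rw [conj_eq_map]
  exact hall_map hH _ (MulAut.conj g).surjective

/-- Existence of a lift of a subgroup of order prime to the kernel. -/
theorem lift_exists {Γ Q : Type u} [Group Γ] [Finite Γ] [Group Q] (f : Γ →* Q) (hf : Function.Surjective f)
    (Qb : Subgroup Q) (hcop : (Nat.card f.ker).Coprime (Nat.card Qb)) :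
    ∃ X : Subgroup Γ, Nat.card X = Nat.card Qb := by
  set M := Qb.comap f with hM
  have hker : f.ker ≤ M := ker_le_comap _ _
  have hidx : (f.ker.subgroupOf M).index = Nat.card Qb := by
    show f.ker.relIndex M = _
    rw [relIndex_ker, hM, map_comap_eq_self_of_surjective hf]
  have hc : Nat.card (f.ker.subgroupOf M) = Nat.card f.ker :=
    Nat.card_congr (subgroupOfEquivOfLe hker).toEquiv
  obtain ⟨X, hX⟩ := exists_right_complement'_of_coprime (N := f.ker.subgroupOf M) (by rwa [hc, hidx])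
  refine ⟨X.map M.subtype, ?_⟩
  rw [card_map_of_injective M.subtype_injective, ← hidx]
  exact hX.symm.index_eq_card.symm

/-- Two lifts of a subgroup of order prime to the kernel are conjugate. -/
theorem lift_conj (odd : ∀ (H : Type u) [Group H] [Finite H], Odd (Nat.card H) → Group.IsSolvable H)
    {Γ Q : Type u} [Group Γ] [Finite Γ] [Group Q] (f : Γ →* Q) (hf : Function.Surjective f)
    {X Y : Subgroup Γ} (hXY : X.map f = Y.map f) (hX : Nat.card X = Nat.card (X.map f))
    (hY : Nat.card Y = Nat.card (Y.map f)) (hcop : (Nat.card f.ker).Coprime (Nat.card X)) :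
    ∃ γ : Γ, MulAut.conj γ • X = Y := by
  set M := (X.map f).comap f with hM
  have hker : f.ker ≤ M := ker_le_comap _ _
  have hidx : (f.ker.subgroupOf M).index = Nat.card X := by
    show f.ker.relIndex M = _
    rw [relIndex_ker, hM, map_comap_eq_self_of_surjective hf, hX]
  have hc : Nat.card (f.ker.subgroupOf M) = Nat.card f.ker :=
    Nat.card_congr (subgroupOfEquivOfLe hker).toEquiv
  have hXM : X ≤ M := le_comap_map f X
  have hYM : Y ≤ M := by rw [hM, hXY]; exact le_comap_map f Y
  have hcop' : (Nat.card (f.ker.subgroupOf M)).Coprime (f.ker.subgroupOf M).index := by rwa [hc, hidx]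
  have hsolv : Group.IsSolvable (f.ker.subgroupOf M) ∨ Group.IsSolvable (M ⧸ f.ker.subgroupOf M) := by
    rcases Nat.even_or_odd (Nat.card (f.ker.subgroupOf M)) with he | ho
    · right
      refine odd _ ?_
      rw [← index_eq_card]
      exact (Nat.coprime_two_left).mp (hcop'.coprime_dvd_left he.two_dvd)
    · exact Or.inl (odd _ ho)
  have hcX : Nat.card (X.subgroupOf M) = (f.ker.subgroupOf M).index := by
    rw [hidx, Nat.card_congr (subgroupOfEquivOfLe hXM).toEquiv]
  have hcY : Nat.card (Y.subgroupOf M) = (f.ker.subgroupOf M).index := by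
    rw [hidx, Nat.card_congr (subgroupOfEquivOfLe hYM).toEquiv, hX, hY, hXY]
  obtain ⟨γ, hγ⟩ := complements_conj hcop' hsolv (isComplement'_of_card hcop' hcX)
    (isComplement'_of_card hcop' hcY)
  exact ⟨γ, conj_subgroupOf hXM hYM hγ⟩

section Main

variable {G : Type u} [Group G] [Finite G] {π : Set ℕ} {A : Subgroup G} [A.Normal]

/-- The Frattini argument for a Hall subgroup of a normal C_π-subgroup. -/
theorem frattini (hA : IsCPiGroup π A) {H₀ : Subgroup A} (h0 : IsPiHall π H₀) (g : G) :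
    ∃ r ∈ normalizer ((H₀.map A.subtype : Subgroup G) : Set G),
      QuotientGroup.mk' A r = QuotientGroup.mk' A g := by
  set D := H₀.map A.subtype with hD
  set K := (MulAut.conj g • D).subgroupOf A with hK
  have hDA : D ≤ A := map_subtype_le _
  have hgD : MulAut.conj g • D ≤ A := by
    intro x hx
    rw [mem_pointwise_smul_iff_inv_smul_mem, ← map_inv, MulAut.smul_def, MulAut.conj_apply, inv_inv] at hx
    have := ‹A.Normal›.conj_mem _ (hDA hx) g
    simpa [mul_assoc] using this
  have hKc : Nat.card K = Nat.card H₀ := by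
    rw [Nat.card_congr (subgroupOfEquivOfLe hgD).toEquiv, conj_eq_map,
      card_map_of_injective (MulAut.conj g).injective, card_map_of_injective A.subtype_injective]
  have hKh : IsPiHall π K := by
    refine ⟨fun p hp hd => h0.1 p hp (hKc ▸ hd), fun p hp hπ hd => h0.2 p hp hπ ?_⟩
    have h1 := H₀.card_mul_index
    have h2 := K.card_mul_index
    rw [hKc, ← h1] at h2
    rwa [← Nat.eq_of_mul_eq_mul_left Nat.card_pos h2]
  obtain ⟨a, ha⟩ := hA.2 H₀ K h0 hKh
  refine ⟨(a : G)⁻¹ * g, ?_, ?_⟩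
  · have hag : MulAut.conj (a : G) • D = MulAut.conj g • D := by
      have e : K.map A.subtype = MulAut.conj g • D := map_subgroupOf_eq_of_le hgD
      rw [← e, ha, hD, conj_eq_map, map_map, map_map]
      rfl
    have : MulAut.conj ((a : G)⁻¹ * g) • D = D := by
      rw [map_mul, mul_smul, ← hag, ← mul_smul, ← map_mul, inv_mul_cancel, map_one, one_smul]
    rw [mem_normalizer_iff]
    intro x
    conv_rhs => rw [← this]
    rw [mem_pointwise_smul_iff_inv_smul_mem, ← map_inv, MulAut.smul_def, MulAut.conj_apply]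
    constructor <;> intro hx <;> simpa [mul_assoc] using hx
  · simp [map_mul, (QuotientGroup.eq_one_iff (a : G)).mpr a.2]

/-- A subgroup normalizes its intersection with a normal subgroup. -/
theorem le_normalizer_inf (H A : Subgroup G) [A.Normal] : H ≤ normalizer ((H ⊓ A : Subgroup G) : Set G) := by
  intro h hh
  rw [mem_normalizer_iff]
  intro x
  constructor
  · intro hx
    obtain ⟨hx1, hx2⟩ := mem_inf.mp hx
    exact mem_inf.mpr ⟨H.mul_mem (H.mul_mem hh hx1) (H.inv_mem hh), ‹A.Normal›.conj_mem _ hx2 h⟩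
  · intro hx
    obtain ⟨hx1, hx2⟩ := mem_inf.mp hx
    have e : x = h⁻¹ * (h * x * h⁻¹) * h := by group
    rw [e]
    exact mem_inf.mpr ⟨H.mul_mem (H.mul_mem (H.inv_mem hh) hx1) hh,
      by simpa using ‹A.Normal›.conj_mem _ hx2 h⁻¹⟩

variable (A) in
/-- The map from `N(D)/D` to `G/A`. -/
noncomputable def toQuot (D : Subgroup G) (hD : D ≤ A) :
    (↥(normalizer (D : Set G)) ⧸ D.subgroupOf (normalizer (D : Set G))) →* G ⧸ A :=
  QuotientGroup.lift _ ((QuotientGroup.mk' A).comp (normalizer (D : Set G)).subtype)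
    (fun x hx => (QuotientGroup.eq_one_iff (x : G)).mpr (hD (mem_subgroupOf.mp hx)))

theorem toQuot_mk (D : Subgroup G) (hD : D ≤ A) (r : normalizer (D : Set G)) :
    toQuot A D hD (QuotientGroup.mk r) = QuotientGroup.mk' A (r : G) := rfl

theorem toQuot_facts (hA : IsCPiGroup π A) {H₀ : Subgroup A} (h0 : IsPiHall π H₀) :
    Function.Surjective (toQuot A (H₀.map A.subtype) (map_subtype_le _)) ∧
      Nat.card (toQuot A (H₀.map A.subtype) (map_subtype_le _)).ker ∣ H₀.index := by
  set D := H₀.map A.subtype with hD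
  set q := toQuot A D (map_subtype_le _) with hq
  have hs : Function.Surjective q := by
    intro y
    obtain ⟨g, rfl⟩ := QuotientGroup.mk'_surjective A y
    obtain ⟨r, hr, e⟩ := frattini hA h0 g
    exact ⟨QuotientGroup.mk ⟨r, hr⟩, e⟩
  refine ⟨hs, ?_⟩
  set R := normalizer (D : Set G)
  have e1 : Nat.card (R ⧸ D.subgroupOf R) = Nat.card q.ker * Nat.card (G ⧸ A) := by
    rw [← q.ker.card_mul_index, index_ker, MonoidHom.range_eq_top.mpr hs, card_top]
  have e2 : Nat.card R = Nat.card D * Nat.card (R ⧸ D.subgroupOf R) := by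
    rw [← (D.subgroupOf R).card_mul_index, index_eq_card,
      Nat.card_congr (subgroupOfEquivOfLe (le_normalizer : D ≤ R)).toEquiv]
  have e3 : Nat.card D = Nat.card H₀ := card_map_of_injective A.subtype_injective
  have e4 := R.card_mul_index
  have e5 := A.card_mul_index
  rw [index_eq_card] at e5
  have e6 := H₀.card_mul_index
  refine ⟨R.index, Nat.eq_of_mul_eq_mul_left (Nat.card_pos (α := H₀)) ?_⟩
  apply Nat.eq_of_mul_eq_mul_left (Nat.card_pos (α := G ⧸ A))
  rw [e6]
  calc Nat.card (G ⧸ A) * Nat.card A = Nat.card R * R.index := by rw [e4, ← e5, mul_comm]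
    _ = _ := by rw [e2, e1, e3]; ring

theorem exists_hall (hA : IsCPiGroup π A) (hQ : IsEPiGroup π (G ⧸ A)) : IsEPiGroup π G := by
  obtain ⟨H₀, h0⟩ := hA.1
  obtain ⟨Qb, hQb⟩ := hQ
  obtain ⟨hs, hk⟩ := toQuot_facts hA h0
  set D := H₀.map A.subtype with hD
  set q := toQuot A D (map_subtype_le _) with hq
  set R := normalizer (D : Set G)
  obtain ⟨X, hX⟩ := lift_exists q hs Qb (Nat.coprime_of_dvd fun p hp h1 h2 =>
    h0.2 p hp (hQb.1 p hp h2) (h1.trans hk))
  set H := (X.comap (QuotientGroup.mk' (D.subgroupOf R))).map R.subtype with hH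
  have hc : Nat.card H = Nat.card H₀ * Nat.card Qb := by
    rw [hH, card_map_of_injective R.subtype_injective,
      card_eq_mul_relIndex (ker_le_comap (QuotientGroup.mk' (D.subgroupOf R)) X), relIndex_ker,
      map_comap_eq_self_of_surjective (QuotientGroup.mk'_surjective _), QuotientGroup.ker_mk',
      Nat.card_congr (subgroupOfEquivOfLe (le_normalizer : D ≤ R)).toEquiv, hX, hD,
      card_map_of_injective A.subtype_injective]
  refine ⟨H, fun p hp hd => ?_, fun p hp hπ hd => ?_⟩
  · rw [hc] at hd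
    exact (hp.dvd_mul.mp hd).elim (h0.1 p hp) (hQb.1 p hp)
  · have e1 := H.card_mul_index
    have e2 := A.card_mul_index
    rw [index_eq_card, ← H₀.card_mul_index, ← Qb.card_mul_index] at e2
    rw [← e2, hc] at e1
    have e3 : H.index = H₀.index * Qb.index := by
      apply Nat.eq_of_mul_eq_mul_left (Nat.mul_pos (Nat.card_pos (α := H₀)) (Nat.card_pos (α := Qb)))
      rw [e1]; ring
    rw [e3] at hd
    exact (hp.dvd_mul.mp hd).elim (h0.2 p hp hπ) (hQb.2 p hp hπ)

theorem hall_conj_extension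
    (odd : ∀ (H : Type u) [Group H] [Finite H], Odd (Nat.card H) → Group.IsSolvable H)
    (hA : IsCPiGroup π A) (hQ : IsCPiGroup π (G ⧸ A)) {H K : Subgroup G}
    (hH : IsPiHall π H) (hK : IsPiHall π K) : ∃ g : G, MulAut.conj g • H = K := by
  obtain ⟨a, ha⟩ := hA.2 _ _ (hall_subgroupOf (A := A) hH) (hall_subgroupOf (A := A) hK)
  set H₀ := K.subgroupOf A with hH₀
  have h0 : IsPiHall π H₀ := hall_subgroupOf hK
  set D := H₀.map A.subtype with hD
  have hDK : D = K ⊓ A := by rw [hD, hH₀, subgroupOf_map_subtype]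
  have hDA : D ≤ A := map_subtype_le _
  obtain ⟨hs, hk⟩ := toQuot_facts hA h0
  set H1 := MulAut.conj (a : G) • H with hH1
  have hD1 : D = H1 ⊓ A := by
    ext x
    rw [hD, ha, Subgroup.mem_map, mem_inf, hH1, mem_pointwise_smul_iff_inv_smul_mem, ← map_inv,
      MulAut.smul_def, MulAut.conj_apply, inv_inv]
    constructor
    · rintro ⟨y, hy, rfl⟩
      obtain ⟨z, hz, rfl⟩ := Subgroup.mem_map.mp hy
      refine ⟨?_, ((MulAut.conj a) z).2⟩
      have hz' : (z : G) ∈ H := hz
      simpa [mul_assoc] using hz'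
    · rintro ⟨hx, hxA⟩
      exact ⟨⟨x, hxA⟩, Subgroup.mem_map.mpr ⟨a⁻¹ * ⟨x, hxA⟩ * a, hx, by simp [mul_assoc]⟩, rfl⟩
  have hH1h : IsPiHall π H1 := hall_conj hH _
  obtain ⟨gb, hgb⟩ := hQ.2 _ _ (hall_map hH1h _ (QuotientGroup.mk'_surjective A))
    (hall_map hK _ (QuotientGroup.mk'_surjective A))
  obtain ⟨g, rfl⟩ := QuotientGroup.mk'_surjective A gb
  obtain ⟨n, hn, hng⟩ := frattini hA h0 g
  set H2 := MulAut.conj n • H1 with hH2
  set R := normalizer (D : Set G) with hR
  have hnR : MulAut.conj n • D = D := by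
    ext x
    rw [mem_pointwise_smul_iff_inv_smul_mem, ← map_inv, MulAut.smul_def, MulAut.conj_apply, inv_inv]
    simpa [mul_assoc] using (mem_normalizer_iff.mp (R.inv_mem hn) x).symm
  have hD2 : D = H2 ⊓ A := by
    have hAn : MulAut.conj n • A = A := by
      ext x
      rw [mem_pointwise_smul_iff_inv_smul_mem, ← map_inv, MulAut.smul_def, MulAut.conj_apply, inv_inv]
      exact ⟨fun h => by simpa [mul_assoc] using ‹A.Normal›.conj_mem _ h n,
        fun h => by simpa [mul_assoc] using ‹A.Normal›.conj_mem _ h n⁻¹⟩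
    rw [← hnR, hD1, hH2, smul_inf, hAn]
  have hH2R : H2 ≤ R := by rw [hR, hD2]; exact le_normalizer_inf H2 A
  have hKR : K ≤ R := by rw [hR, hDK]; exact le_normalizer_inf K A
  have him : H2.map (QuotientGroup.mk' A) = K.map (QuotientGroup.mk' A) := by
    rw [hgb, ← hng, hH2, conj_eq_map, map_map, map_map]
    congr 1
  set q := toQuot A D hDA with hq
  set P := QuotientGroup.mk' (D.subgroupOf R)
  have hmapq : ∀ L : Subgroup G, L ≤ R → ((L.subgroupOf R).map P).map q = L.map (QuotientGroup.mk' A) := by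
    intro L hL
    ext y
    constructor
    · rintro ⟨_, ⟨r, hr, rfl⟩, rfl⟩
      exact ⟨r, hr, rfl⟩
    · rintro ⟨x, hx, rfl⟩
      exact ⟨_, ⟨⟨x, hL hx⟩, hx, rfl⟩, rfl⟩
  have hinj : ∀ L : Subgroup G, D = L ⊓ A →
      Nat.card ((L.subgroupOf R).map P) = Nat.card (((L.subgroupOf R).map P).map q) := by
    intro L hL
    have hi : Function.Injective (q.comp ((L.subgroupOf R).map P).subtype) := by
      rw [injective_iff_map_eq_one]
      rintro ⟨_, r, hr, rfl⟩ e
      have hrA : (r : G) ∈ A := (QuotientGroup.eq_one_iff (r : G)).mp e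
      exact Subtype.ext ((QuotientGroup.eq_one_iff r).mpr
        (mem_subgroupOf.mpr (hL.symm ▸ mem_inf.mpr ⟨hr, hrA⟩)))
    rw [Nat.card_congr (MonoidHom.ofInjective hi).toEquiv, MonoidHom.range_comp, range_subtype]
  have hcop : (Nat.card q.ker).Coprime (Nat.card ((H2.subgroupOf R).map P)) :=
    Nat.coprime_of_dvd fun p hp h1 h2 => h0.2 p hp
      ((hall_conj hH1h n).1 p hp (h2.trans ((card_map_dvd _ P).trans
        (dvd_of_eq (Nat.card_congr (subgroupOfEquivOfLe hH2R).toEquiv))))) (h1.trans hk)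
  obtain ⟨γ, hγ⟩ := lift_conj odd q hs (by rw [hmapq _ hH2R, hmapq _ hKR, him]) (hinj _ hD2) (hinj _ hDK) hcop
  obtain ⟨r, rfl⟩ := QuotientGroup.mk'_surjective _ γ
  refine ⟨(r : G) * n * a, ?_⟩
  rw [map_mul, map_mul, mul_smul, mul_smul, ← hH1, ← hH2]
  ext x
  rw [mem_pointwise_smul_iff_inv_smul_mem, ← map_inv, MulAut.smul_def, MulAut.conj_apply, inv_inv]
  constructor
  · intro hx
    have hxR : x ∈ R := by
      have := R.mul_mem (R.mul_mem r.2 (hH2R hx)) (R.inv_mem r.2)
      simpa [mul_assoc] using this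
    have : P ⟨x, hxR⟩ ∈ (K.subgroupOf R).map P := by
      rw [← hγ, mem_pointwise_smul_iff_inv_smul_mem, ← map_inv, MulAut.smul_def, MulAut.conj_apply, inv_inv]
      exact ⟨r⁻¹ * ⟨x, hxR⟩ * r, hx, by simp [mul_assoc]; rfl⟩
    obtain ⟨k, hk1, hk2⟩ := this
    have hd : (k : G)⁻¹ * x ∈ D := mem_subgroupOf.mp (QuotientGroup.eq.mp hk2)
    rw [hDK] at hd
    have := K.mul_mem hk1 (mem_inf.mp hd).1
    simpa using this
  · intro hx
    have : P ⟨x, hKR hx⟩ ∈ MulAut.conj (P r) • (H2.subgroupOf R).map P := by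
      rw [hγ]; exact ⟨⟨x, hKR hx⟩, hx, rfl⟩
    rw [mem_pointwise_smul_iff_inv_smul_mem, ← map_inv, MulAut.smul_def, MulAut.conj_apply, inv_inv] at this
    obtain ⟨h, hh, he⟩ := this
    have he' : P h = P (r⁻¹ * ⟨x, hKR hx⟩ * r) := by rw [he]; simp [mul_assoc]
    have hd : (h : G)⁻¹ * ((r : G)⁻¹ * x * r) ∈ D := by
      simpa using mem_subgroupOf.mp (QuotientGroup.eq.mp he')
    replace hd : (h : G)⁻¹ * ((r : G)⁻¹ * x * r) ∈ H2 ⊓ A := SetLike.le_def.mp hD2.le hd
    have := H2.mul_mem hh (mem_inf.mp hd).1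
    simpa [mul_assoc] using this

/-- `C_π` is closed under extensions, given that groups of odd order are solvable. -/
theorem isCPiGroup_extension
    (odd : ∀ (H : Type u) [Group H] [Finite H], Odd (Nat.card H) → Group.IsSolvable H)
    (hA : IsCPiGroup π A) (hQ : IsCPiGroup π (G ⧸ A)) : IsCPiGroup π G :=
  ⟨exists_hall hA hQ.1, fun H K hH hK => by
    obtain ⟨g, hg⟩ := hall_conj_extension odd hA hQ hH hK
    exact ⟨g, hg ▸ conj_eq_map g H⟩⟩

end Main

end CfsgLib.AfterFT.CPiExt
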