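import Cfsg.Agent.Lib.Basic
import Cfsg.Agent.Lib.CentrallyLarge
import Cfsg.Agent.S0200
import Cfsg.Prelude.Def_Solvable

/-!
Row 4159 given the odd order theorem: if no subgroup has two coprime non-trivial class sizes then no 2-element
inverts a non-trivial element of odd order, so `G / O₂(G)` has odd order.
-/

set_option autoImplicit false
set_option linter.style.haveILetI false

namespace CfsgLib.AfterFT

open Cfsg Subgroup

universe u
variable {G : Type u} [Group G] [Finite G]

/-- A 2-element inverting an element of odd prime order gives a subgroup with class sizes `2` and `q`. -/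
theorem false_of_inverts (h : ∀ (H : Subgroup G) (x y : H), 1 < (centralizer ({x} : Set H)).index →
      1 < (centralizer ({y} : Set H)).index →
      ¬ ((centralizer ({x} : Set H)).index).Coprime (centralizer ({y} : Set H)).index)
    {w y : G} {q a : ℕ} (hq : q.Prime) (hq2 : q ≠ 2) (hy : orderOf y = q) (hw : orderOf w = 2 ^ a)
    (hinv : w * y * w⁻¹ = y⁻¹) : False := by
  classical
  have hqodd : Odd q := hq.odd_of_ne_two hq2
  have hn : zpowers w ≤ normalizer (zpowers y : Set G) := zpowers_le.mpr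
    (Subgroup.mem_normalizer_iff_map_conj_eq.mpr (by
      rw [MonoidHom.map_zpowers]
      show zpowers (w * y * w⁻¹) = zpowers y
      rw [hinv, Subgroup.zpowers_inv]))
  set D := zpowers y ⊔ zpowers w with hD
  set xD : D := ⟨w, mem_sup_right (mem_zpowers w)⟩ with hxD
  set yD : D := ⟨y, mem_sup_left (mem_zpowers y)⟩ with hyD
  have hdec : ∀ d : D, ∃ (i j : ℤ), (d : G) = y ^ i * w ^ j := by
    rintro ⟨d, hd⟩
    rw [hD, ← SetLike.mem_coe, Subgroup.coe_mul_of_right_le_normalizer_left _ _ hn] at hd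
    obtain ⟨b, ⟨i, rfl⟩, c, ⟨j, rfl⟩, rfl⟩ := hd
    exact ⟨i, j, rfl⟩
  have hy1 : y ≠ 1 := fun e => by rw [e, orderOf_one] at hy; exact hq.one_lt.ne hy
  have hyy : y⁻¹ ≠ y := fun e => by
    have : y ^ 2 = 1 := by rw [pow_two]; nth_rw 1 [← e]; exact inv_mul_cancel y
    have h2 := hy ▸ orderOf_dvd_of_pow_eq_one this
    exact hq2 ((Nat.prime_dvd_prime_iff_eq hq Nat.prime_two).mp h2)
  -- class of `w`
  have hw1 : (centralizer ({xD} : Set D)).index = q := by
    have hC : centralizer ({xD} : Set D) = (zpowers w).subgroupOf D := by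
      ext d
      rw [Subgroup.mem_centralizer_singleton_iff, Subgroup.mem_subgroupOf]
      constructor
      · intro hc
        obtain ⟨i, j, e⟩ := hdec d
        have hc' : y ^ i * w ^ j * w = w * (y ^ i * w ^ j) := e ▸ congrArg Subtype.val hc
        have hi : y ^ i = 1 := by
          have h2 : w * y ^ i * w⁻¹ = (y ^ i)⁻¹ := by rw [← conj_zpow, hinv, inv_zpow]
          have h1 : w * y ^ i * w⁻¹ = y ^ i := by
            calc w * y ^ i * w⁻¹ = w * (y ^ i * w ^ j) * (w ^ j)⁻¹ * w⁻¹ := by group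
              _ = y ^ i * w ^ j * w * (w ^ j)⁻¹ * w⁻¹ := by rw [hc']
              _ = y ^ i := by group
          have hsq : (y ^ i) ^ 2 = 1 := by
            rw [pow_two]; nth_rw 1 [← h1, h2]; exact inv_mul_cancel _
          have hd2 := orderOf_dvd_of_pow_eq_one hsq
          have hdq : orderOf (y ^ i) ∣ q := hy ▸ orderOf_dvd_of_mem_zpowers (zpow_mem_zpowers y i)
          exact orderOf_eq_one_iff.mp (Nat.eq_one_of_dvd_coprimes hqodd.coprime_two_left hd2 hdq)
        rw [e, hi, one_mul]; exact zpow_mem (mem_zpowers w) j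
      · rintro ⟨j, hj⟩
        refine Subtype.ext ?_
        show (d : G) * w = w * (d : G)
        rw [← hj]; exact (Commute.zpow_left (Commute.refl w) j).eq
    have hdisj : Disjoint (zpowers y) (zpowers w) := by
      refine disjoint_of_coprime_natCard ?_
      rw [Nat.card_zpowers, Nat.card_zpowers, hy, hw]
      exact Nat.Coprime.pow_right a hqodd.coprime_two_right
    have hcard : Nat.card D = Nat.card (zpowers y) * Nat.card (zpowers w) := by
      have := CfsgLib.CentrallyLarge.card_sup_mul_card_inf hn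
      rwa [hdisj.eq_bot, Subgroup.card_bot, mul_one] at this
    rw [hC]
    show (zpowers w).relIndex D = q
    have h2 := Subgroup.relIndex_mul_index (le_sup_right : zpowers w ≤ D)
    have h3 := Subgroup.card_mul_index (zpowers w)
    have h4 := Subgroup.card_mul_index D
    rw [← h2, ← h4, hcard, Nat.card_zpowers y, hy] at h3
    have hpos : 0 < Nat.card (zpowers w) * D.index := Nat.mul_pos Nat.card_pos (Nat.pos_of_ne_zero Subgroup.FiniteIndex.index_ne_zero)
    refine Nat.eq_of_mul_eq_mul_right hpos ?_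
    calc (zpowers w).relIndex D * (Nat.card (zpowers w) * D.index)
        = Nat.card (zpowers w) * ((zpowers w).relIndex D * D.index) := by ring
      _ = q * (Nat.card (zpowers w) * D.index) := by rw [h3]; ring
  -- class of `y`
  have hy2 : (centralizer ({yD} : Set D)).index = 2 := by
    rw [Subgroup.index_eq_two_iff']
    refine ⟨xD, fun d => ?_⟩
    have hmem : ∀ e : D, e ∈ centralizer ({yD} : Set D) ↔ (e : G) * y * (e : G)⁻¹ = y := fun e => by
      rw [Subgroup.mem_centralizer_singleton_iff, Subtype.ext_iff, mul_inv_eq_iff_eq_mul]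
      rfl
    have hcase : (d : G) * y * (d : G)⁻¹ = y ∨ (d : G) * y * (d : G)⁻¹ = y⁻¹ := by
      obtain ⟨i, j, e⟩ := hdec d
      have hc : ∀ v : G, w * v * w⁻¹ = v⁻¹ → ∀ n : ℕ, w ^ n * v * (w ^ n)⁻¹ = v ∨ w ^ n * v * (w ^ n)⁻¹ = v⁻¹ := by
        intro v hv n
        induction n with
        | zero => left; simp
        | succ n ih =>
          rw [pow_succ', show w * w ^ n * v * (w * w ^ n)⁻¹ = w * (w ^ n * v * (w ^ n)⁻¹) * w⁻¹ by group]
          rcases ih with h1 | h1 <;> rw [h1]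
          · right; exact hv
          · left; rw [← conj_inv, hv, inv_inv]
      obtain ⟨n, hn'⟩ := mem_powers_iff_mem_zpowers.mpr (zpow_mem (mem_zpowers w) j)
      have hn'' : w ^ n = w ^ j := hn'
      rw [e, ← hn'']
      rcases hc y hinv n with h1 | h1
      · left
        calc y ^ i * w ^ n * y * (y ^ i * w ^ n)⁻¹ = y ^ i * (w ^ n * y * (w ^ n)⁻¹) * (y ^ i)⁻¹ := by group
          _ = y := by rw [h1]; group
      · right
        calc y ^ i * w ^ n * y * (y ^ i * w ^ n)⁻¹ = y ^ i * (w ^ n * y * (w ^ n)⁻¹) * (y ^ i)⁻¹ := by group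
          _ = y⁻¹ := by rw [h1]; group
    have hx : (xD * d : D).1 * y * ((xD * d : D).1)⁻¹ = w * ((d : G) * y * (d : G)⁻¹) * w⁻¹ := by
      show w * (d : G) * y * (w * (d : G))⁻¹ = _
      group
    rw [hmem, hmem, hx]
    rcases hcase with h1 | h1
    · right
      exact ⟨h1, by rw [h1, hinv]; exact hyy⟩
    · left
      exact ⟨by rw [h1, ← conj_inv, hinv, inv_inv], by rw [h1]; exact hyy⟩
  exact h D xD yD (hw1.symm ▸ hq.one_lt) (by rw [hy2]; norm_num) (by rw [hw1, hy2]; exact hqodd.coprime_two_right)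

/-- If `G / O₂(G)` has even order, a 2-element inverts an element of odd prime order. -/
theorem exists_two_element_inverts (he : Even (Nat.card (G ⧸ pCore 2 G))) :
    ∃ (w y : G) (q a : ℕ), q.Prime ∧ q ≠ 2 ∧ orderOf y = q ∧ orderOf w = 2 ^ a ∧ w * y * w⁻¹ = y⁻¹ := by
  classical
  haveI : Fact (Nat.Prime 2) := ⟨Nat.prime_two⟩
  set O := pCore 2 G with hO
  let π := QuotientGroup.mk' O
  have hπ : Function.Surjective π := QuotientGroup.mk'_surjective O
  obtain ⟨t, ht⟩ := exists_prime_orderOf_dvd_card' (G := G ⧸ O) 2 he.two_dvd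
  have hOq : IsPGroup 2 π.ker := by
    rw [QuotientGroup.ker_mk']; exact isPGroup_pCore (G := G) 2
  obtain ⟨h0, hh1, hho, hinv0⟩ := Cfsg.Agent.S0200.result t ht (fun N hN hNp htN => by
    haveI := hN
    have hle : N.comap π ≤ O := le_sSup ⟨Subgroup.Normal.comap hN π, hNp.comap_of_ker_isPGroup π hOq⟩
    obtain ⟨x, rfl⟩ := hπ t
    have : π x = 1 := (QuotientGroup.eq_one_iff x).mpr (hle htN)
    rw [this, orderOf_one] at ht; omega)
  obtain ⟨q, hq, hqd⟩ := Nat.exists_prime_and_dvd (fun e => hh1 (orderOf_eq_one_iff.mp e))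
  haveI : Fact q.Prime := ⟨hq⟩
  have hq2 : q ≠ 2 := fun e => Nat.not_even_iff_odd.mpr hho (even_iff_two_dvd.mpr (e ▸ hqd))
  set hb := h0 ^ (orderOf h0 / q) with hhb
  have hhq : orderOf hb = q := orderOf_pow_orderOf_div (orderOf_pos h0).ne' hqd
  have hinv : t * hb * t⁻¹ = hb⁻¹ := by rw [hhb, ← conj_pow, hinv0, inv_pow]
  set K := (zpowers hb).comap π with hK
  obtain ⟨Q⟩ : Nonempty (Sylow q K) := inferInstance
  set Q' := (Q : Subgroup K).map K.subtype with hQ'
  have hQK : Q' ≤ K := Subgroup.map_subtype_le _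
  have hQp : IsPGroup q Q' := Q.2.map _
  have hmap : Q'.map π = zpowers hb := by
    let f := π.subgroupComap (zpowers hb)
    have hf : Function.Surjective f := fun y => by
      obtain ⟨x, hx⟩ := hπ y
      exact ⟨⟨x, show π x ∈ zpowers hb from hx ▸ y.2⟩, Subtype.ext hx⟩
    have hzp : IsPGroup q (zpowers hb) := IsPGroup.of_card (n := 1) (by rw [Nat.card_zpowers, hhq, pow_one])
    have h1 := (Q.mapSurjective hf).3 (IsPGroup.of_equiv hzp Subgroup.topEquiv.symm) le_top
    refine le_antisymm ((Subgroup.map_mono hQK).trans (Subgroup.map_comap_le _ _)) fun y hy => ?_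
    obtain ⟨x, hx, he'⟩ := h1.le (Subgroup.mem_top (⟨y, hy⟩ : zpowers hb))
    exact ⟨x, ⟨x, hx, rfl⟩, congrArg Subtype.val he'⟩
  obtain ⟨y, hyQ, hyh⟩ : hb ∈ Q'.map π := hmap.symm ▸ mem_zpowers hb
  have hinj : ∀ x ∈ Q', π x = 1 → x = 1 := fun x hx h1 => by
    obtain ⟨i, hi⟩ := IsPGroup.iff_orderOf.mp hQp ⟨x, hx⟩
    obtain ⟨j, hj⟩ := IsPGroup.iff_orderOf.mp hOq ⟨x, MonoidHom.mem_ker.mpr h1⟩
    rw [Subgroup.orderOf_mk] at hi hj
    exact orderOf_eq_one_iff.mp (Nat.eq_one_of_dvd_coprimes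
      (Nat.Coprime.pow i j ((Nat.coprime_primes hq Nat.prime_two).mpr hq2)) (dvd_of_eq hi) (dvd_of_eq hj))
  have hyq : orderOf y = q := by
    refine Nat.dvd_antisymm (orderOf_dvd_of_pow_eq_one (hinj _ (Q'.pow_mem hyQ q) ?_)) ?_
    · rw [map_pow, hyh, ← hhq, pow_orderOf_eq_one]
    · rw [← hhq, ← hyh]; exact orderOf_map_dvd π y
  -- a 2-element over `t` normalising `Q'`
  obtain ⟨g, hg⟩ := hπ t
  have hgK : ∀ x ∈ K, g * x * g⁻¹ ∈ K := fun x hx => by
    obtain ⟨i, hi⟩ := Subgroup.mem_zpowers_iff.mp hx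
    refine Subgroup.mem_zpowers_iff.mpr ⟨-i, ?_⟩
    rw [map_mul, map_mul, map_inv, hg, ← hi, ← conj_zpow, hinv, inv_zpow, zpow_neg]
  let e : K →* K :=
    { toFun := fun x => ⟨g * x * g⁻¹, hgK x x.2⟩
      map_one' := Subtype.ext (by simp)
      map_mul' := fun x x' => Subtype.ext (by simp [mul_assoc]) }
  have he : Function.Surjective e := Finite.injective_iff_surjective.mp fun a b hab =>
    Subtype.ext (by simpa [e] using congrArg Subtype.val hab)
  obtain ⟨m, hm⟩ := MulAction.exists_smul_eq K (Q.mapSurjective he) Q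
  have hmg : ∀ x ∈ Q', ((m : G) * g) * x * ((m : G) * g)⁻¹ ∈ Q' := by
    rintro _ ⟨x, hx, rfl⟩
    have : m * e x * m⁻¹ ∈ ((m • Q.mapSurjective he : Sylow q K) : Subgroup K) := by
      rw [Sylow.coe_subgroup_smul]
      exact ⟨e x, ⟨x, hx, rfl⟩, rfl⟩
    rw [hm] at this
    exact ⟨_, this, by simp [e, mul_assoc]⟩
  set n := (m : G) * g with hn
  obtain ⟨i, r, hr, her⟩ := Nat.exists_eq_pow_mul_and_not_dvd (orderOf_pos n).ne' 2 (by norm_num)
  have hrodd : Odd r := Nat.odd_iff.mpr (Nat.two_dvd_ne_zero.mp hr)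
  set w := n ^ r with hwdef
  have how : orderOf w = 2 ^ i := by
    rw [hwdef, orderOf_pow, her, Nat.gcd_mul_left_left, Nat.mul_div_cancel _ hrodd.pos]
  have hpn : π n * hb * (π n)⁻¹ = hb⁻¹ := by
    obtain ⟨j, hj⟩ := Subgroup.mem_zpowers_iff.mp (m.2 : π (m : G) ∈ zpowers hb)
    rw [hn, map_mul, hg, ← hj, show hb ^ j * t * hb * (hb ^ j * t)⁻¹ = hb ^ j * (t * hb * t⁻¹) * (hb ^ j)⁻¹ by group,
      hinv]
    group
  have hny : n * y * n⁻¹ = y⁻¹ := by
    have hmem := Q'.mul_mem (hmg y hyQ) hyQ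
    have h1 := hinj _ hmem (by rw [map_mul, map_mul, map_mul, map_inv, hyh, hpn, inv_mul_cancel])
    exact eq_inv_of_mul_eq_one_left h1
  have hwy : w * y * w⁻¹ = y⁻¹ := by
    obtain ⟨s, hs⟩ := hrodd
    have h2 : ∀ k : ℕ, n ^ (2 * k) * y * (n ^ (2 * k))⁻¹ = y := fun k => by
      induction k with
      | zero => simp
      | succ k ih =>
        rw [show 2 * (k + 1) = 2 + 2 * k by omega, pow_add,
          show n ^ 2 * n ^ (2 * k) * y * (n ^ 2 * n ^ (2 * k))⁻¹ = n ^ 2 * (n ^ (2 * k) * y * (n ^ (2 * k))⁻¹) * (n ^ 2)⁻¹ by group,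
          ih, pow_two, show n * n * y * (n * n)⁻¹ = n * (n * y * n⁻¹) * n⁻¹ by group, hny, ← conj_inv, hny, inv_inv]
    rw [hwdef, hs, show 2 * s + 1 = 1 + 2 * s by omega, pow_add, pow_one,
      show n * n ^ (2 * s) * y * (n * n ^ (2 * s))⁻¹ = n * (n ^ (2 * s) * y * (n ^ (2 * s))⁻¹) * n⁻¹ by group,
      h2, hny]
  exact ⟨w, y, q, i, hq, hq2, hyq, how, hwy⟩

/-- Row 4159 given the odd order theorem. -/
theorem solvable_of_class_sizes_not_coprime
    (odd : ∀ (H : Type u) [Group H] [Finite H], Odd (Nat.card H) → Group.IsSolvable H)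
    (h : ∀ (H : Subgroup G) (x y : H), 1 < (centralizer ({x} : Set H)).index →
      1 < (centralizer ({y} : Set H)).index →
      ¬ ((centralizer ({x} : Set H)).index).Coprime (centralizer ({y} : Set H)).index) :
    Group.IsSolvable G := by
  classical
  haveI : Fact (Nat.Prime 2) := ⟨Nat.prime_two⟩
  set O := pCore 2 G with hO
  haveI : Group.IsNilpotent O := (isPGroup_pCore (G := G) 2).isNilpotent
  rcases Nat.even_or_odd (Nat.card (G ⧸ O)) with he | ho
  swap
  · haveI := odd (G ⧸ O) ho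
    exact Group.isSolvable_of_ker_le_range O.subtype (QuotientGroup.mk' O)
      (by rw [QuotientGroup.ker_mk', Subgroup.range_subtype])
  exfalso
  obtain ⟨w, y, q, a, hq, hq2, hyq, how, hwy⟩ := exists_two_element_inverts he
  exact false_of_inverts h hq hq2 hyq how hwy

end CfsgLib.AfterFT
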