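import Cfsg.Agent.Lib.LocalFusion
import Cfsg.Agent.Lib.Transfer
import Cfsg.Agent.Lib.PComplement
import Cfsg.Agent.Lib.Coprime
import Cfsg.Agent.Lib.Local

/-!
Two-nilpotency from a Sylow 2-subgroup `S` of class at most two, left invariant by a group `A` of odd order,
such that the normalizers of the non-trivial invariant normal subgroups of `S` induce inner automorphisms on `S`.
-/

set_option autoImplicit false
set_option linter.unusedSectionVars false
set_option linter.style.haveILetI false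

namespace CfsgLib.AfterFT.ClassTwo

open Cfsg Subgroup CfsgLib
open scoped commutatorElement

universe u v

theorem relIndex_sup_normal {G : Type u} [Group G] [Finite G] (H K : Subgroup G) [K.Normal] :
    H.relIndex (H ⊔ K) = H.relIndex K := by
  have h1 := relIndex_mul_relIndex (H ⊓ K) H (H ⊔ K) inf_le_left le_sup_left
  have h2 := relIndex_mul_relIndex (H ⊓ K) K (H ⊔ K) inf_le_right le_sup_right
  rw [inf_relIndex_left] at h1
  rw [inf_relIndex_right, relIndex_sup_right H K, ← h1, mul_comm] at h2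
  exact (Nat.eq_of_mul_eq_mul_left (Nat.pos_of_ne_zero (K.subgroupOf H).index_ne_zero_of_finite) h2).symm

section Auto

variable {K : Type u} [Group K] [Finite K]

theorem eq_one_of_odd_pow (hK : IsPGroup 2 K) {n : ℕ} (hn : Odd n) {w : K} (h : w ^ n = 1) : w = 1 := by
  obtain ⟨k, hk⟩ := IsPGroup.iff_orderOf.mp hK w
  rw [← orderOf_eq_one_iff]
  exact Nat.eq_one_of_dvd_coprimes ((Nat.coprime_two_left.mpr hn).pow_left k) hk.dvd (orderOf_dvd_of_pow_eq_one h)

theorem pow_apply_of_fixed {o : MulAut K} {q w : K} (hq : o q = w * q) (hw : o w = w) (i : ℕ) :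
    (o ^ i) q = w ^ i * q := by
  induction i with
  | zero => simp
  | succ i ih => rw [pow_succ', MulAut.mul_apply, ih, map_mul, map_pow, hw, hq, ← mul_assoc, ← pow_succ]

theorem eq_one_of_fixed_step (hK : IsPGroup 2 K) {o : MulAut K} {n : ℕ} (hn : Odd n) (ho : o ^ n = 1)
    {q w : K} (hq : o q = w * q) (hw : o w = w) : w = 1 := by
  refine eq_one_of_odd_pow hK hn ?_
  have h := pow_apply_of_fixed hq hw n
  rw [ho, MulAut.one_apply] at h
  exact mul_eq_right.mp h.symm

/-- An automorphism of odd order of a 2-group trivial on `K / Z(K)` and on `Ω₁(Z(K))` is trivial. -/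
theorem eq_one_of_trivial (hK : IsPGroup 2 K) {o : MulAut K} {n : ℕ} (hn : Odd n) (ho : o ^ n = 1)
    (hq : ∀ q : K, o q * q⁻¹ ∈ center K) (hU : ∀ z ∈ center K, z * z = 1 → o z = z) : o = 1 := by
  have hz : ∀ k : ℕ, ∀ z ∈ center K, z ^ (2 ^ k) = 1 → o z = z := by
    intro k
    induction k with
    | zero => intro z _ h; rw [pow_zero, pow_one] at h; rw [h, map_one]
    | succ k ih =>
      intro z hz h
      have h2 : o (z * z) = z * z :=
        ih (z * z) (mul_mem hz hz) (by rw [← pow_two, ← pow_mul, ← pow_succ']; exact h)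
      have hw := hq z
      set w := o z * z⁻¹ with hwdef
      have e : o z = w * z := by rw [hwdef, inv_mul_cancel_right]
      have hc : w * z = z * w := mem_center_iff.mp hz w
      have hw2 : w * w = 1 := by
        rw [map_mul, e] at h2
        refine (mul_eq_right (b := z * z)).mp ?_
        calc w * w * (z * z) = w * (w * z) * z := by group
          _ = w * (z * w) * z := by rw [hc]
          _ = w * z * (w * z) := by group
          _ = z * z := h2
      rw [e, eq_one_of_fixed_step hK hn ho e (hU w hw hw2), one_mul]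
  refine MulEquiv.ext fun q => ?_
  have h := hq q
  obtain ⟨k, hk⟩ := hK (o q * q⁻¹)
  have := eq_one_of_fixed_step hK hn ho (q := q) (w := o q * q⁻¹) (inv_mul_cancel_right _ _).symm (hz k _ h hk)
  rw [mul_inv_eq_one.mp this, MulAut.one_apply]

end Auto

section Pairs

variable {G : Type u} [Group G]

/-- The facts on a maximal bad centric subgroup `P` and an element `u` of its centre. -/
structure Pair (S P : Subgroup G) (u : G) : Prop where
  le : P ≤ S
  self : ∀ s ∈ S, (∀ y ∈ P, s * y = y * s) → s ∈ P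
  two : ∀ s ∈ S, s ∉ P → ∀ t ∈ S, t ∉ P → s * t ∈ P
  mem : u ∈ P
  cent : ∀ y ∈ P, u * y = y * u
  sq : u * u = 1
  moved : ∀ t ∈ S, t ∉ P → ⁅u, t⁆ ≠ 1
  noSq : ∀ y ∈ P, ∀ t ∈ S, t ∉ P → y * y ≠ ⁅u, t⁆
  noComm : ∀ y ∈ P, ∀ z ∈ P, ∀ t ∈ S, t ∉ P → ⁅y, z⁆ ≠ ⁅u, t⁆

theorem Pair.mem_of_commute {S P : Subgroup G} {u : G} (h : Pair S P u) {t : G} (ht : t ∈ S)
    (hc : Commute u t) : t ∈ P := by
  by_contra hn
  exact h.moved t ht hn (commutatorElement_eq_one_iff_commute.mpr hc)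

theorem Pair.comm_eq {S P : Subgroup G} {u : G} (h : Pair S P u) {s t : G} (hs : s ∈ S) (hsn : s ∉ P)
    (ht : t ∈ S) (htn : t ∉ P) : ⁅u, s⁆ = ⁅u, t⁆ := by
  have hp : t⁻¹ * s ∈ P := h.two t⁻¹ (S.inv_mem ht) (fun hi => htn (by simpa using P.inv_mem hi)) s hs hsn
  set p := t⁻¹ * s with hpdef
  have hs' : s = t * p := by rw [hpdef, mul_inv_cancel_left]
  have hc : p * u⁻¹ * p⁻¹ = u⁻¹ := by
    rw [(show Commute p u⁻¹ from (show Commute p u from (h.cent p hp).symm).inv_right).eq, mul_inv_cancel_right]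
  calc ⁅u, s⁆ = u * t * (p * u⁻¹ * p⁻¹) * t⁻¹ := by rw [hs', commutatorElement_def]; group
    _ = ⁅u, t⁆ := by rw [hc, commutatorElement_def]

theorem Pair.map {S P : Subgroup G} {u : G} (h : Pair S P u) (e : MulAut G) (he : ∀ x, e x ∈ S ↔ x ∈ S) :
    Pair S (P.map e.toMonoidHom) (e u) := by
  have key : ∀ x, x ∈ P.map e.toMonoidHom ↔ e.symm x ∈ P := fun x => Subgroup.mem_map_equiv
  have hS : ∀ x, e.symm x ∈ S ↔ x ∈ S := fun x => by rw [← he, MulEquiv.apply_symm_apply]
  refine ⟨?_, ?_, ?_, ⟨u, h.mem, rfl⟩, ?_, ?_, ?_, ?_, ?_⟩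
  · rintro _ ⟨x, hx, rfl⟩; exact (he x).mpr (h.le hx)
  · intro s hs hc
    refine (key s).mpr (h.self _ ((hS s).mpr hs) fun y hy => e.injective ?_)
    rw [map_mul, map_mul, MulEquiv.apply_symm_apply]
    exact hc _ ⟨y, hy, rfl⟩
  · intro s hs hs' t ht ht'
    rw [key] at hs' ht' ⊢
    rw [map_mul]
    exact h.two _ ((hS s).mpr hs) hs' _ ((hS t).mpr ht) ht'
  · rintro _ ⟨y, hy, rfl⟩
    show e u * e y = e y * e u
    rw [← map_mul, h.cent y hy, map_mul]
  · rw [← map_mul, h.sq, map_one]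
  · intro t ht ht' e1
    rw [key] at ht'
    apply h.moved _ ((hS t).mpr ht) ht'
    apply e.injective
    rw [map_one, map_commutatorElement, MulEquiv.apply_symm_apply, e1]
  · rintro _ ⟨y, hy, rfl⟩ t ht ht' e1
    rw [key] at ht'
    apply h.noSq y hy _ ((hS t).mpr ht) ht'
    apply e.injective
    rw [map_mul, map_commutatorElement, MulEquiv.apply_symm_apply]
    exact e1
  · rintro _ ⟨y, hy, rfl⟩ _ ⟨z, hz, rfl⟩ t ht ht' e1
    rw [key] at ht'
    apply h.noComm y hy z hz _ ((hS t).mpr ht) ht'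
    apply e.injective
    rw [map_commutatorElement, map_commutatorElement, MulEquiv.apply_symm_apply]
    exact e1

/-- Translates of `u` under an automorphism of odd order commute with `u`. -/
theorem Pair.orbit {S P : Subgroup G} {u : G} (h : Pair S P u)
    (hcl : ∀ a ∈ S, ∀ b ∈ S, ∀ c ∈ S, Commute ⁅a, b⁆ c) (e : MulAut G) (he : ∀ x, e x ∈ S ↔ x ∈ S)
    {m : ℕ} (hm : Odd m) (hem : e ^ m = 1) : u ∈ P.map e.toMonoidHom := by
  by_contra hu
  have hei : ∀ i : ℕ, ∀ x, (e ^ i) x ∈ S ↔ x ∈ S := by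
    intro i
    induction i with
    | zero => simp
    | succ i ih => intro x; rw [pow_succ', MulAut.mul_apply, he, ih]
  set v : ℕ → G := fun i => (e ^ i) u with hv
  set Q : ℕ → Subgroup G := fun i => P.map (e ^ i).toMonoidHom with hQdef
  have hQ : ∀ i, Pair S (Q i) (v i) := fun i => h.map (e ^ i) (hei i)
  have hvS : ∀ i, v i ∈ S := fun i => (hQ i).le (hQ i).mem
  have hv0 : v 0 = u := by simp [hv]
  have hnc : ¬ Commute (v 0) (v 1) := by
    intro hc
    apply hu
    have := (hQ 1).mem_of_commute (hvS 0) hc.symm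
    rw [hv0] at this
    simpa [hQdef] using this
  have hv_succ : ∀ i, v (i + 1) = e (v i) := fun i => by simp only [hv]; rw [pow_succ', MulAut.mul_apply]
  have hstep : ∀ i, ¬ Commute (v i) (v (i + 1)) := by
    intro i
    induction i with
    | zero => exact hnc
    | succ i ih =>
      rw [hv_succ, hv_succ (i + 1)]
      exact fun hc => ih (by simpa using Commute.map hc e.symm)
  set c := ⁅v 0, v 1⁆ with hc
  have hc1 : c ≠ 1 := fun h1 => hnc (commutatorElement_eq_one_iff_commute.mp h1)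
  have hnotP : ∀ i j, ¬ Commute (v i) (v j) → v j ∉ Q i := fun i j hn hmem => hn ((hQ i).cent _ hmem)
  have hcinv : c⁻¹ = c := by
    refine inv_eq_of_mul_eq_one_right ?_
    have hcu : c * u = u * c := hcl _ (hvS 0) _ (hvS 1) u (h.le h.mem)
    rw [hv0] at hc
    have e2 : ⁅u * u, v 1⁆ = c * c := by
      calc ⁅u * u, v 1⁆ = u * ⁅u, v 1⁆ * u⁻¹ * ⁅u, v 1⁆ := by simp only [commutatorElement_def]; group
        _ = u * c * u⁻¹ * c := by rw [hc]
        _ = c * c := by rw [← hcu, mul_inv_cancel_right]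
    rw [← e2, h.sq, commutatorElement_one_left]
  -- the commutator of an adjacent pair does not depend on the pair
  have hval : ∀ i, ⁅v i, v (i + 1)⁆ = c ∧ ⁅v (i + 1), v i⁆ = c := by
    intro i
    induction i with
    | zero => exact ⟨rfl, by rw [← commutatorElement_inv, ← hc, hcinv]⟩
    | succ i ih =>
      have h1 : ⁅v (i + 1), v (i + 1 + 1)⁆ = c := by
        rw [(hQ (i + 1)).comm_eq (hvS _) (hnotP _ _ (hstep _)) (hvS i)
          (hnotP _ _ fun hh => hstep i hh.symm), ih.2]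
      exact ⟨h1, by rw [← commutatorElement_inv, h1, hcinv]⟩
  have htable : ∀ i j, ¬ Commute (v i) (v j) → ⁅v i, v j⁆ = c := fun i j hn => by
    rw [(hQ i).comm_eq (hvS j) (hnotP i j hn) (hvS (i + 1)) (hnotP _ _ (hstep i)), (hval i).1]
  have hsq : ∀ i, v i * v i = 1 := fun i => (hQ i).sq
  have hinv : ∀ i, (v i)⁻¹ = v i := fun i => inv_eq_of_mul_eq_one_right (hsq i)
  have hswap : ∀ i j, ¬ Commute (v i) (v j) → v i * v j = c * (v j * v i) := fun i j hn => by
    rw [← htable i j hn, commutatorElement_def]; group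
  have hcc : ∀ i, c * v i = v i * c := fun i => hcl _ (hvS 0) _ (hvS 1) _ (hvS i)
  have hsq_c : c * c = 1 := by nth_rw 2 [← hcinv]; exact mul_inv_cancel c
  -- no triangles
  have htri : ∀ i j k, ¬ Commute (v i) (v j) → ¬ Commute (v i) (v k) → ¬ Commute (v j) (v k) → False := by
    intro i j k hij hik hjk
    set y := v i * (v j * v k) with hy
    have hyS : y ∈ S := S.mul_mem (hvS i) (S.mul_mem (hvS j) (hvS k))
    have hzi : v j * v k * v i = v i * (v j * v k) := by
      calc v j * v k * v i = v j * (v k * v i) := mul_assoc _ _ _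
        _ = v j * (c * (v i * v k)) := by rw [hswap k i fun hh => hik hh.symm]
        _ = c * (v j * v i) * v k := by rw [← mul_assoc (v j), ← hcc j]; group
        _ = c * (c * (v i * v j)) * v k := by rw [hswap j i fun hh => hij hh.symm]
        _ = v i * (v j * v k) := by rw [← mul_assoc c c, hsq_c, one_mul, mul_assoc]
    have hyP : y ∈ Q i := (hQ i).mem_of_commute hyS (by
      show v i * y = y * v i
      rw [hy, mul_assoc (v i) (v j * v k) (v i), hzi])
    refine (hQ i).noSq y hyP (v j) (hvS j) (hnotP i j hij) ?_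
    rw [htable i j hij, hy]
    calc v i * (v j * v k) * (v i * (v j * v k)) = v i * (v j * v k * v i) * (v j * v k) := by group
      _ = v i * (v i * (v j * v k)) * (v j * v k) := by rw [hzi]
      _ = v j * v k * (v j * v k) := by rw [← mul_assoc (v i), hsq, one_mul]
      _ = v j * (v k * v j) * v k := by group
      _ = v j * (c * (v j * v k)) * v k := by rw [hswap k j fun hh => hjk hh.symm]
      _ = c * (v j * v j) * (v k * v k) := by rw [← mul_assoc (v j), ← hcc j]; group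
      _ = c := by rw [hsq, hsq, mul_one, mul_one]
  -- two elements commuting with a third commute
  have hind : ∀ i j k, Commute (v i) (v j) → Commute (v i) (v k) → ¬ Commute (v j) (v k) → False := by
    intro i j k hij hik hjk
    refine (hQ i).noComm _ ((hQ i).mem_of_commute (hvS j) hij) _ ((hQ i).mem_of_commute (hvS k) hik)
      (v (i + 1)) (hvS _) (hnotP _ _ (hstep i)) ?_
    rw [(hval i).1, htable j k hjk]
  have hpar : ∀ i, Commute (v 0) (v i) ↔ Even i := by
    intro i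
    induction i with
    | zero => simp
    | succ i ih =>
      rw [Nat.even_add_one, ← ih]
      exact ⟨fun hs hi => hind 0 i (i + 1) hi hs (hstep i),
        fun hi => by_contra fun hs => htri 0 i (i + 1) hi hs (hstep i)⟩
  have hvm : v m = v 0 := by simp [hv, hem]
  exact Nat.not_even_iff_odd.mpr hm ((hpar m).mp (hvm ▸ Commute.refl _))

end Pairs

section Control

variable {G : Type u} [Group G] [Finite G] {A : Type v} [Group A] [Finite A]

/-- The hypotheses. -/
structure Ctl (φ : A →* MulAut G) (S : Sylow 2 G) : Prop where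
  odd : Odd (Nat.card A)
  inv : ∀ a : A, ∀ s ∈ (S : Subgroup G), φ a s ∈ (S : Subgroup G)
  cl : ∀ a ∈ (S : Subgroup G), ∀ b ∈ (S : Subgroup G), ∀ c ∈ (S : Subgroup G), Commute ⁅a, b⁆ c
  norm : ∀ X : Subgroup G, X ≠ ⊥ → X ≤ (S : Subgroup G) →
    (∀ s ∈ (S : Subgroup G), ∀ x ∈ X, s * x * s⁻¹ ∈ X) → (∀ a : A, ∀ x ∈ X, φ a x ∈ X) →
    ∀ g ∈ normalizer (X : Set G), ∃ s ∈ (S : Subgroup G), ∀ y ∈ (S : Subgroup G), g * y * g⁻¹ = s * y * s⁻¹

/-- The automorphisms of `P` induced by its normalizer are induced by `S`. -/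
def Inner (S P : Subgroup G) : Prop :=
  ∀ g ∈ normalizer (P : Set G), ∃ s ∈ S, ∀ y ∈ P, g * y * g⁻¹ = s * y * s⁻¹

variable {φ : A →* MulAut G} {S : Sylow 2 G} (H : Ctl φ S)
include H

theorem conj_mem {P : Subgroup G} (hPS : P ≤ (S : Subgroup G))
    (hself : ∀ s ∈ (S : Subgroup G), (∀ y ∈ P, s * y = y * s) → s ∈ P) {s y : G} (hs : s ∈ (S : Subgroup G))
    (hy : y ∈ P) : s * y * s⁻¹ ∈ P := by
  have hc : ⁅s, y⁆ ∈ P := hself _ ((S : Subgroup G).mul_mem (((S : Subgroup G).mul_mem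
    ((S : Subgroup G).mul_mem hs (hPS hy)) ((S : Subgroup G).inv_mem hs))) ((S : Subgroup G).inv_mem (hPS hy)))
    fun z hz => H.cl s hs y (hPS hy) z (hPS hz)
  simpa [commutatorElement_def] using P.mul_mem hc hy

theorem apply_mem_iff (a : A) (x : G) : φ a x ∈ (S : Subgroup G) ↔ x ∈ (S : Subgroup G) :=
  ⟨fun h => by simpa [← MulAut.mul_apply, ← map_mul] using H.inv a⁻¹ _ h, H.inv a x⟩

theorem inner_self : Inner (S : Subgroup G) S := by
  intro g hg
  by_cases hS : (S : Subgroup G) = ⊥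
  · exact ⟨1, one_mem _, fun y hy => by rw [hS, mem_bot] at hy; simp [hy]⟩
  exact H.norm _ hS le_rfl (fun s hs x hx => mul_mem (mul_mem hs hx) (inv_mem hs)) H.inv g hg

/-- A maximal bad centric subgroup has index two and an element moved inside a subgroup of its centre. -/
theorem exists_pairs {P : Subgroup G} (hPS : P ≤ (S : Subgroup G))
    (hself : ∀ s ∈ (S : Subgroup G), (∀ y ∈ P, s * y = y * s) → s ∈ P)
    (ih : ∀ R : Subgroup G, P < R → R ≤ (S : Subgroup G) → Inner (S : Subgroup G) R)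
    (hbad : ¬ Inner (S : Subgroup G) P) :
    ∃ g ∈ normalizer (P : Set G), (¬ ∃ s ∈ (S : Subgroup G), ∀ y ∈ P, g * y * g⁻¹ = s * y * s⁻¹) ∧
      ∃ W : Subgroup G, (∃ u ∈ W, Pair (S : Subgroup G) P u) ∧
        (∀ v ∈ W, (∃ t ∈ (S : Subgroup G), t ∉ P ∧ ⁅v, t⁆ ≠ 1) → Pair (S : Subgroup G) P v) ∧
        (∀ v ∈ W, v ∈ P) ∧ ∀ q ∈ P, g * q * g⁻¹ * q⁻¹ ∈ W := by
  classical
  have hSN : (S : Subgroup G) ≤ normalizer (P : Set G) := by
    intro s hs
    rw [mem_normalizer_iff]
    refine fun y => ⟨fun hy => conj_mem H hPS hself hs hy, fun hy => ?_⟩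
    have := conj_mem H hPS hself (inv_mem hs) hy
    simpa [mul_assoc] using this
  set N := normalizer (P : Set G) with hN
  set π := P.normalizerMonoidHom with hπ
  have hπv : ∀ (g : N) (y : P), ((π g y : P) : G) = (g : G) * y * (g : G)⁻¹ := fun g y => rfl
  let toN : ∀ s, s ∈ (S : Subgroup G) → N := fun s hs => ⟨s, hSN hs⟩
  haveI : Finite (MulAut P) := Finite.of_injective MulEquiv.toEquiv fun a b h =>
    MulEquiv.ext fun x => congrArg (fun e : P ≃ P => e x) h
  let S' : Sylow 2 N := S.subtype hSN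
  let f := π.rangeRestrict
  have hf : Function.Surjective f := π.rangeRestrict_surjective
  let T : Sylow 2 π.range := S'.mapSurjective hf
  have hTmem : ∀ x : π.range, x ∈ (T : Subgroup π.range) ↔ ∃ s, ∃ hs : s ∈ (S : Subgroup G), x = f (toN s hs) := by
    intro x
    constructor
    · rintro ⟨g, hg, rfl⟩; exact ⟨(g : G), hg, rfl⟩
    · rintro ⟨s, hs, rfl⟩; exact ⟨toN s hs, hs, rfl⟩
  have hTcomm : ∀ x ∈ (T : Subgroup π.range), ∀ y ∈ (T : Subgroup π.range), x * y = y * x := by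
    intro x hx y hy
    obtain ⟨s, hs, rfl⟩ := (hTmem x).mp hx
    obtain ⟨t, ht, rfl⟩ := (hTmem y).mp hy
    refine commutatorElement_eq_one_iff_commute.mp ?_
    rw [← map_commutatorElement]
    refine Subtype.ext (MulEquiv.ext fun z => Subtype.ext ?_)
    show ((π ⁅toN s hs, toN t ht⁆ z : P) : G) = (z : G)
    rw [hπv, show ((⁅toN s hs, toN t ht⁆ : N) : G) = ⁅s, t⁆ from map_commutatorElement N.subtype _ _,
      (H.cl s hs t ht z (hPS z.2)).eq, mul_inv_cancel_right]
  have hkerK : ∀ {g : N}, π g = 1 → ∀ y ∈ P, (g : G) * y * (g : G)⁻¹ = y := fun {g} hg y hy => by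
    rw [← hπv g ⟨y, hy⟩, hg, MulAut.one_apply]
  -- lifting a normalising element to a normaliser of a Sylow subgroup of the preimage
  have lift : ∀ R : Subgroup G, R ≤ (S : Subgroup G) → P ≤ R → ∀ g : N,
      (∀ r, ∀ hr : r ∈ R, ∃ r', ∃ hr' : r' ∈ R, ∀ (hs : r ∈ (S : Subgroup G)) (hs' : r' ∈ (S : Subgroup G)),
        f g * f (toN r hs) * (f g)⁻¹ = f (toN r' hs')) →
      ∃ k : N, (∃ r, ∃ hr : r ∈ (S : Subgroup G), f k = f (toN r hr)) ∧ ((k * g : N) : G) ∈ normalizer (R : Set G) := by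
    intro R hRS hPR g hg
    let R₁ : Subgroup N := R.subgroupOf N
    let K : Subgroup N := R₁ ⊔ f.ker
    have hR₁K : R₁ ≤ K := le_sup_left
    have hKmem : ∀ x : N, x ∈ K ↔ ∃ r, ∃ hr : r ∈ R, f x = f (toN r (hRS hr)) := by
      intro x
      show x ∈ R₁ ⊔ f.ker ↔ _
      rw [← comap_map_eq, mem_comap]
      constructor
      · rintro ⟨r, hr, e⟩; exact ⟨(r : G), hr, e.symm⟩
      · rintro ⟨r, hr, e⟩; exact ⟨toN r (hRS hr), hr, e.symm⟩
    -- `R₁` is a Sylow subgroup of `K`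
    have hR₁p : IsPGroup 2 R₁ := (S.2.to_le hRS).comap_of_injective _ N.subtype_injective
    have hidx : ¬ 2 ∣ (R₁.subgroupOf K).index := by
      have e1 : (R₁.subgroupOf K).index = (R₁ ⊓ f.ker).relIndex f.ker := by
        show R₁.relIndex K = _
        rw [inf_relIndex_right]
        exact relIndex_sup_normal R₁ f.ker
      have e2 : R₁ ⊓ f.ker = (S' : Subgroup N) ⊓ f.ker := by
        refine le_antisymm (inf_le_inf_right _ fun x hx => hRS hx) fun x hx => ⟨?_, hx.2⟩
        refine hPR (hself _ hx.1 fun y hy => mul_inv_eq_iff_eq_mul.mp (hkerK ?_ y hy))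
        exact congrArg Subtype.val (show f x = 1 from hx.2)
      rw [e1, e2, inf_relIndex_right]
      haveI : f.ker.Normal := inferInstance
      exact fun hd => S'.not_dvd_index (hd.trans ((relIndex_sup_normal (S' : Subgroup N) f.ker).symm ▸
        relIndex_dvd_index_of_le le_sup_left))
    let RS : Sylow 2 K := (hR₁p.comap_of_injective K.subtype K.subtype_injective).toSylow hidx
    have hgK : ∀ x : N, x ∈ K → g * x * g⁻¹ ∈ K := fun x hx => by
      obtain ⟨r, hr, e⟩ := (hKmem x).mp hx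
      obtain ⟨r', hr', e'⟩ := hg r hr
      exact (hKmem _).mpr ⟨r', hr', by rw [map_mul, map_mul, map_inv, e, e' (hRS hr) (hRS hr')]⟩
    let R₂ : Subgroup N := R₁.map (MulAut.conj g).toMonoidHom
    have hR₂K : R₂ ≤ K := by rintro _ ⟨x, hx, rfl⟩; exact hgK x (hR₁K hx)
    have hcard : Nat.card (R₂.subgroupOf K) = Nat.card (RS : Subgroup K) := by
      show _ = Nat.card (R₁.subgroupOf K)
      rw [Nat.card_congr (subgroupOfEquivOfLe hR₂K).toEquiv, Nat.card_congr (subgroupOfEquivOfLe hR₁K).toEquiv]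
      exact card_map_of_injective (MulAut.conj g).injective
    obtain ⟨RS₂, hRS₂⟩ := ((hR₁p.map (MulAut.conj g).toMonoidHom).comap_of_injective K.subtype
      K.subtype_injective : IsPGroup 2 (R₂.subgroupOf K)).exists_le_sylow
    obtain ⟨k, hk⟩ := MulAction.exists_smul_eq K RS₂ RS
    refine ⟨k, ?_, ?_⟩
    · obtain ⟨r, hr, e⟩ := (hKmem k).mp k.2
      exact ⟨r, hRS hr, e⟩
    · refine CfsgLib.Local.mem_normalizer_of_map_conj_eq (eq_of_le_of_card_ge ?_
        (card_map_of_injective (MulAut.conj _).injective).ge)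
      rintro _ ⟨y, hy, rfl⟩
      have hyN : y ∈ N := hSN (hRS hy)
      have h1 : (⟨g * ⟨y, hyN⟩ * g⁻¹, hgK _ (hR₁K (show (⟨y, hyN⟩ : N) ∈ R₁ from hy))⟩ : K) ∈ (RS₂ : Subgroup K) :=
        hRS₂ ⟨⟨y, hyN⟩, hy, rfl⟩
      have h2 := Subgroup.smul_mem_pointwise_smul _ (MulAut.conj k) _ h1
      rw [← Sylow.coe_subgroup_smul, hk] at h2
      have h3 : (((k : N) * (g * ⟨y, hyN⟩ * g⁻¹) * (k : N)⁻¹ : N) : G) ∈ R := h2
      simpa [mul_assoc] using h3
  -- Burnside
  have hnorm : normalizer ((T : Subgroup π.range) : Set π.range) ≤ centralizer ((T : Subgroup π.range) : Set π.range) := by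
    intro x hx
    obtain ⟨g, rfl⟩ := hf x
    obtain ⟨k, ⟨r, hr, hk⟩, hkg⟩ := lift (S : Subgroup G) le_rfl hPS g fun r hr => by
      have := (mem_normalizer_iff.mp hx (f (toN r hr))).mp ((hTmem _).mpr ⟨r, hr, rfl⟩)
      obtain ⟨r', hr', e⟩ := (hTmem _).mp this
      exact ⟨r', hr', fun _ _ => e⟩
    obtain ⟨s, hs, hsy⟩ := inner_self H _ hkg
    have e : f (k * g) = f (toN s hs) := Subtype.ext (MulEquiv.ext fun y => Subtype.ext (by
      show ((π (k * g) y : P) : G) = ((π (toN s hs) y : P) : G)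
      rw [hπv, hπv]; exact hsy y (hPS y.2)))
    have hgT : f g ∈ (T : Subgroup π.range) := by
      rw [show f g = (f k)⁻¹ * f (k * g) by rw [map_mul, inv_mul_cancel_left], e, hk]
      exact mul_mem (inv_mem ((hTmem _).mpr ⟨r, hr, rfl⟩)) ((hTmem _).mpr ⟨s, hs, rfl⟩)
    exact mem_centralizer_iff.mpr fun y hy => hTcomm y hy _ hgT
  haveI : Fact (Nat.Prime 2) := ⟨Nat.prime_two⟩
  obtain ⟨O, hOn, hcompl⟩ : ∃ O : Subgroup π.range, O.Normal ∧ O.IsComplement' (T : Subgroup π.range) :=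
    ⟨_, inferInstance, MonoidHom.ker_transferSylow_isComplement' T hnorm⟩
  have hdec : ∀ x : π.range, ∃ o ∈ O, ∃ t ∈ (T : Subgroup π.range), x = o * t := fun x => by
    obtain ⟨⟨⟨o, ho⟩, ⟨t, ht⟩⟩, e⟩ := hcompl.2 x
    exact ⟨o, ho, t, ht, e.symm⟩
  have hdisj : ∀ x ∈ O, x ∈ (T : Subgroup π.range) → x = 1 := fun x h1 h2 =>
    Subgroup.disjoint_def.mp hcompl.disjoint h1 h2
  have hOodd : Odd (Nat.card O) := by
    have h := T.not_dvd_index
    rw [hcompl.index_eq_card] at h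
    exact Nat.odd_iff.mpr (by omega)
  -- elements of `P` commute with `O`
  have hinn : ∀ o ∈ O, ∀ p, ∀ hp : p ∈ P, o * f (toN p (hPS hp)) = f (toN p (hPS hp)) * o := by
    intro o ho p hp
    obtain ⟨g, rfl⟩ := hf o
    refine commutatorElement_eq_one_iff_commute.mp (hdisj _ ?_ ?_)
    · rw [commutatorElement_def, mul_assoc (f g), mul_assoc (f g)]
      exact mul_mem ho (hOn.conj_mem _ (inv_mem ho) _)
    · have h1 : (g : G) * p * (g : G)⁻¹ ∈ P := (mem_normalizer_iff.mp g.2 p).mp hp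
      rw [← map_commutatorElement]
      exact (hTmem _).mpr ⟨(g : G) * p * (g : G)⁻¹ * p⁻¹, mul_mem (hPS h1) (inv_mem (hPS hp)),
        congrArg f (Subtype.ext (map_commutatorElement N.subtype g (toN p (hPS hp))))⟩
  -- elements outside `P` act on `O` without fixed points
  have hfpf : ∀ s, ∀ hs : s ∈ (S : Subgroup G), s ∉ P → ∀ o ∈ O, o * f (toN s hs) = f (toN s hs) * o → o = 1 := by
    intro s hs hsP o ho hcomm
    obtain ⟨g, rfl⟩ := hf o
    set R := P ⊔ zpowers s with hR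
    have hRS : R ≤ (S : Subgroup G) := sup_le hPS (zpowers_le.mpr hs)
    have hPR : P ≤ R := le_sup_left
    have hlt : P < R := lt_of_le_of_ne hPR fun e => hsP (e ▸ mem_sup_right (mem_zpowers s))
    let D : Subgroup N := (centralizer {f g}).comap f
    have hD : R ≤ D.map N.subtype := sup_le
      (fun p hp => ⟨toN p (hPS hp), mem_centralizer_singleton_iff.mpr (hinn _ ho p hp).symm, rfl⟩)
      (zpowers_le.mpr ⟨toN s hs, mem_centralizer_singleton_iff.mpr hcomm.symm, rfl⟩)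
    obtain ⟨k, ⟨r, hr, hk⟩, hkg⟩ := lift R hRS hPR g fun x hx => by
      refine ⟨x, hx, fun hs1 hs2 => ?_⟩
      obtain ⟨d, hd, hdx⟩ := hD hx
      rw [show toN x hs1 = d from Subtype.ext hdx.symm, ← mem_centralizer_singleton_iff.mp hd, mul_inv_cancel_right]
    obtain ⟨s', hs', hsy⟩ := ih R hlt hRS _ hkg
    have e : f (k * g) = f (toN s' hs') := Subtype.ext (MulEquiv.ext fun y => Subtype.ext (by
      show ((π (k * g) y : P) : G) = ((π (toN s' hs') y : P) : G)
      rw [hπv, hπv]; exact hsy y (hPR y.2)))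
    refine hdisj _ ho ?_
    rw [show f g = (f k)⁻¹ * f (k * g) by rw [map_mul, inv_mul_cancel_left], e, hk]
    exact mul_mem (inv_mem ((hTmem _).mpr ⟨r, hr, rfl⟩)) ((hTmem _).mpr ⟨s', hs', rfl⟩)
  have hsurj : ∀ s, ∀ hs : s ∈ (S : Subgroup G), s ∉ P → ∀ o ∈ O, ∃ a ∈ O,
      o = a⁻¹ * (f (toN s hs) * a * (f (toN s hs))⁻¹) := by
    intro s hs hsP o ho
    set σ := f (toN s hs) with hσ
    let F : O → O := fun a => ⟨(a : π.range)⁻¹ * (σ * a * σ⁻¹), mul_mem (inv_mem a.2) (hOn.conj_mem _ a.2 σ)⟩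
    have hFi : Function.Injective F := fun a b e => by
      have e' : (a : π.range)⁻¹ * (σ * a * σ⁻¹) = (b : π.range)⁻¹ * (σ * b * σ⁻¹) := congrArg Subtype.val e
      refine Subtype.ext (mul_inv_eq_one.mp (hfpf s hs hsP _ (mul_mem a.2 (inv_mem b.2)) ?_))
      rw [← hσ]
      calc (a : π.range) * (b : π.range)⁻¹ * σ
          = a * ((b : π.range)⁻¹ * (σ * b * σ⁻¹)) * σ * (b : π.range)⁻¹ := by group
        _ = σ * (a * (b : π.range)⁻¹) := by rw [← e']; group
    obtain ⟨a, ha⟩ := (Finite.injective_iff_surjective.mp hFi) ⟨o, ho⟩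
    exact ⟨a, a.2, (congrArg Subtype.val ha).symm⟩
  -- an element of `O` different from one
  obtain ⟨o, hoO, ho1⟩ : ∃ o ∈ O, o ≠ 1 := by
    by_contra hno
    push Not at hno
    refine hbad fun g hg => ?_
    obtain ⟨o, ho, t, ht, e⟩ := hdec (f ⟨g, hg⟩)
    obtain ⟨s, hs, rfl⟩ := (hTmem t).mp ht
    rw [hno o ho, one_mul] at e
    exact ⟨s, hs, fun y hy => congrArg (fun x : π.range => (((x : MulAut P) ⟨y, hy⟩ : P) : G)) e⟩
  set n := Nat.card O with hn
  have hon : ∀ a ∈ O, (a : MulAut P) ^ n = 1 := fun a ha => by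
    have := congrArg (fun x : O => ((x : π.range) : MulAut P)) (pow_card_eq_one' (x := (⟨a, ha⟩ : O)))
    simp only [SubgroupClass.coe_pow, OneMemClass.coe_one] at this
    exact this
  have hP2 : IsPGroup 2 P := S.2.to_le hPS
  have hcen : ∀ (a : MulAut P) (z : P), z ∈ center P → a z ∈ center P := fun a z hz =>
    mem_center_iff.mpr fun w => by
      obtain ⟨w, rfl⟩ := a.surjective w
      rw [← map_mul, ← map_mul, mem_center_iff.mp hz w]
  -- a commutator of an element of `P` with one of `S` is central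
  have hdiff : ∀ s, ∀ hs : s ∈ (S : Subgroup G), ∀ q : P, π (toN s hs) q * q⁻¹ ∈ center P := by
    intro s hs q
    refine mem_center_iff.mpr fun w => Subtype.ext ?_
    simp only [Subgroup.coe_mul, InvMemClass.coe_inv, hπv]
    exact (H.cl s hs q (hPS q.2) w (hPS w.2)).eq.symm
  have hquot : ∀ a ∈ O, ∀ q : P, (a : MulAut P) q * q⁻¹ ∈ center P := by
    obtain ⟨s, hs, hsP⟩ : ∃ s ∈ (S : Subgroup G), s ∉ P := by
      by_contra hno
      push Not at hno
      exact hbad (le_antisymm hPS hno ▸ inner_self H)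
    intro a ha q
    obtain ⟨b, -, rfl⟩ := hsurj s hs hsP a ha
    set σ : MulAut P := π (toN s hs) with hσ
    have e : ((b⁻¹ * (f (toN s hs) * b * (f (toN s hs))⁻¹) : π.range) : MulAut P) q =
        (b : MulAut P)⁻¹ (σ ((b : MulAut P) (σ⁻¹ q))) := rfl
    rw [e]
    obtain ⟨z₁, hz₁, e₁⟩ : ∃ z ∈ center P, σ⁻¹ q = z * q := by
      refine ⟨_, inv_mem (hdiff s hs (σ⁻¹ q)), ?_⟩
      show σ⁻¹ q = (σ (σ⁻¹ q) * (σ⁻¹ q)⁻¹)⁻¹ * q
      rw [MulAut.apply_inv_self, mul_inv_rev, inv_inv, inv_mul_cancel_right]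
    set w := (b : MulAut P) q with hw
    obtain ⟨z₂, hz₂, e₂⟩ : ∃ z ∈ center P, σ w = z * w :=
      ⟨_, hdiff s hs w, by rw [inv_mul_cancel_right]⟩
    rw [e₁, map_mul, map_mul, map_mul, ← hw, e₂, map_mul, hw, MulAut.inv_apply_self, ← mul_assoc,
      mul_inv_cancel_right]
    exact mul_mem (hcen _ _ (hcen _ _ (hcen _ _ hz₁))) (hcen _ _ hz₂)
  -- `O` fixes what an outside element fixes
  have hfixed : ∀ s, ∀ hs : s ∈ (S : Subgroup G), s ∉ P → ∀ C : P → Prop,
      (∀ (a : MulAut P) (z : P), C z → C (a z)) → (∀ z, C z → π (toN s hs) z = z) →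
      ∀ a ∈ O, ∀ z, C z → (a : MulAut P) z = z := by
    intro s hs hsP C hC hs' a ha z hz
    obtain ⟨b, -, rfl⟩ := hsurj s hs hsP a ha
    show (b : MulAut P)⁻¹ (π (toN s hs) ((b : MulAut P) ((π (toN s hs))⁻¹ z))) = z
    have e : (π (toN s hs))⁻¹ z = z := by
      conv_lhs => rw [← hs' z hz, MulAut.inv_apply_self]
    rw [e, hs' _ (hC _ z hz), MulAut.inv_apply_self]
  -- squares of the outside elements
  have hsquare : ∀ s, ∀ hs : s ∈ (S : Subgroup G), s ∉ P → s * s ∈ P := by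
    intro s hs hsP
    by_contra hss
    refine ho1 (Subtype.ext (eq_one_of_trivial hP2 hOodd (hon o hoO) (hquot o hoO) fun z hz hzz => ?_))
    refine hfixed (s * s) (mul_mem hs hs) hss (fun z => z ∈ center P ∧ z * z = 1)
      (fun a z hz => ⟨hcen a z hz.1, by rw [← map_mul, hz.2, map_one]⟩) (fun z hz => ?_) o hoO z ⟨hz, hzz⟩
    set w := π (toN s hs) z * z⁻¹ with hw
    have e1 : π (toN s hs) z = w * z := by rw [hw, inv_mul_cancel_right]
    have hwfix : π (toN s hs) w = w := by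
      refine Subtype.ext ?_
      rw [hπv, hw, Subgroup.coe_mul, InvMemClass.coe_inv, hπv]
      show s * (s * z * s⁻¹ * (z : G)⁻¹) * s⁻¹ = s * z * s⁻¹ * (z : G)⁻¹
      rw [← commutatorElement_def, ← (H.cl s hs z (hPS z.2) s hs).eq]
      exact mul_inv_cancel_right _ _
    have hw2 : w * w = 1 := by
      have hc : w * z = z * w := mem_center_iff.mp hz.1 w
      have h2 : w * z * (w * z) = 1 := by rw [← e1, ← map_mul, hz.2, map_one]
      calc w * w = w * w * (z * z) := by rw [hz.2, mul_one]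
        _ = w * (w * z) * z := by group
        _ = w * (z * w) * z := by rw [hc]
        _ = w * z * (w * z) := by group
        _ = 1 := h2
    rw [show toN (s * s) (mul_mem hs hs) = toN s hs * toN s hs from rfl, map_mul, MulAut.mul_apply, e1, map_mul,
      hwfix, e1, ← mul_assoc, hw2, one_mul]
  -- outside elements invert `O`
  have hinvert : ∀ s, ∀ hs : s ∈ (S : Subgroup G), s ∉ P → ∀ a ∈ O,
      f (toN s hs) * a * (f (toN s hs))⁻¹ = a⁻¹ := by
    intro s hs hsP a ha
    obtain ⟨b, hb, rfl⟩ := hsurj s hs hsP a ha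
    set σ := f (toN s hs) with hσ
    have hσσ : σ * σ * b = b * (σ * σ) := by
      have := hinn b hb (s * s) (hsquare s hs hsP)
      rw [show toN (s * s) (hPS (hsquare s hs hsP)) = toN s hs * toN s hs from rfl, map_mul] at this
      exact this.symm
    calc σ * (b⁻¹ * (σ * b * σ⁻¹)) * σ⁻¹ = σ * b⁻¹ * σ⁻¹ * (σ * σ * b * (σ * σ)⁻¹) := by group
      _ = σ * b⁻¹ * σ⁻¹ * b := by rw [hσσ, mul_inv_cancel_right]
      _ = (b⁻¹ * (σ * b * σ⁻¹))⁻¹ := by group
  have htwo : ∀ s ∈ (S : Subgroup G), s ∉ P → ∀ t ∈ (S : Subgroup G), t ∉ P → s * t ∈ P := by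
    intro s hs hsP t ht htP
    by_contra hst
    refine ho1 (hfpf (s * t) (mul_mem hs ht) hst o hoO ?_)
    rw [show toN (s * t) (mul_mem hs ht) = toN s hs * toN t ht from rfl, map_mul]
    have h1 := hinvert t ht htP o hoO
    have h2 := hinvert s hs hsP _ (inv_mem hoO)
    rw [inv_inv] at h2
    rw [mul_inv_eq_iff_eq_mul] at h1 h2
    calc o * (f (toN s hs) * f (toN t ht)) = o * f (toN s hs) * f (toN t ht) := (mul_assoc _ _ _).symm
      _ = f (toN s hs) * (o⁻¹ * f (toN t ht)) := by rw [← h2, mul_assoc]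
      _ = f (toN s hs) * f (toN t ht) * o := by rw [← h1, mul_assoc]
  obtain ⟨t, ht, htP⟩ : ∃ s ∈ (S : Subgroup G), s ∉ P := by
    by_contra hno
    push Not at hno
    exact hbad (le_antisymm hPS hno ▸ inner_self H)
  set τ : MulAut P := π (toN t ht) with hτ
  set a : MulAut P := (o : MulAut P) with ha
  have haτ : τ * a * τ⁻¹ = a⁻¹ := congrArg Subtype.val (hinvert t ht htP o hoO)
  have han : a ^ n = 1 := hon o hoO
  -- `a` fixes the squares of the centre
  have hsqfix : ∀ z : P, z ∈ center P → a (z * z) = z * z := by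
    intro z hz
    refine hfixed t ht htP (fun w => ∃ y ∈ center P, w = y * y)
      (fun b w ⟨y, hy, e⟩ => ⟨b y, hcen b y hy, by rw [e, map_mul]⟩) ?_ o hoO _ ⟨z, hz, rfl⟩
    rintro _ ⟨y, hy, rfl⟩
    set w := π (toN t ht) y * y⁻¹ with hw
    have e1 : π (toN t ht) y = w * y := by rw [hw, inv_mul_cancel_right]
    have hwy : w * y = y * w := mem_center_iff.mp hy w
    have hwfix : π (toN t ht) w = w := by
      refine Subtype.ext ?_
      rw [hπv, hw, Subgroup.coe_mul, InvMemClass.coe_inv, hπv]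
      show t * (t * y * t⁻¹ * (y : G)⁻¹) * t⁻¹ = t * y * t⁻¹ * (y : G)⁻¹
      rw [← commutatorElement_def, ← (H.cl t ht y (hPS y.2) t ht).eq]
      exact mul_inv_cancel_right _ _
    have htt : π (toN t ht) (π (toN t ht) y) = y := by
      refine Subtype.ext ?_
      rw [hπv, hπv]
      show t * (t * (y : G) * t⁻¹) * t⁻¹ = (y : G)
      have := congrArg Subtype.val (mem_center_iff.mp hy ⟨t * t, hsquare t ht htP⟩)
      calc t * (t * (y : G) * t⁻¹) * t⁻¹ = t * t * y * (t * t)⁻¹ := by group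
        _ = y * (t * t) * (t * t)⁻¹ := by rw [show t * t * (y : G) = y * (t * t) from this]
        _ = y := mul_inv_cancel_right _ _
    have hw2 : w * w = 1 := by
      rw [e1, map_mul, hwfix, e1, ← mul_assoc] at htt
      exact mul_eq_right.mp htt
    rw [map_mul, e1]
    calc w * y * (w * y) = w * (y * w) * y := by group
      _ = w * (w * y) * y := by rw [hwy]
      _ = w * w * (y * y) := by group
      _ = y * y := by rw [hw2, one_mul]
  -- the subgroup `[Z(P), a]`
  let W : Subgroup G :=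
    { carrier := {x | ∃ z ∈ center P, x = ((a z * z⁻¹ : P) : G)}
      one_mem' := ⟨1, one_mem _, by simp⟩
      mul_mem' := by
        rintro _ _ ⟨z, hz, rfl⟩ ⟨y, hy, rfl⟩
        refine ⟨z * y, mul_mem hz hy, ?_⟩
        rw [← Subgroup.coe_mul]
        refine congrArg Subtype.val ?_
        calc a z * z⁻¹ * (a y * y⁻¹) = a z * (z⁻¹ * (a y * y⁻¹)) := mul_assoc _ _ _
          _ = a z * (a y * y⁻¹ * z⁻¹) := by rw [mem_center_iff.mp (inv_mem hz) (a y * y⁻¹)]
          _ = a (z * y) * (z * y)⁻¹ := by rw [map_mul, mul_inv_rev]; group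
      inv_mem' := by
        rintro _ ⟨z, hz, rfl⟩
        refine ⟨z⁻¹, inv_mem hz, ?_⟩
        rw [← InvMemClass.coe_inv]
        refine congrArg Subtype.val ?_
        rw [mul_inv_rev, map_inv, inv_inv]
        exact mem_center_iff.mp (inv_mem (hcen a z hz)) z }
  have hWmem : ∀ {x : G}, x ∈ W ↔ ∃ z ∈ center P, x = ((a z * z⁻¹ : P) : G) := Iff.rfl
  have hWc : ∀ z ∈ center P, a z * z⁻¹ ∈ center P := fun z hz => mul_mem (hcen a z hz) (inv_mem hz)
  have hW2 : ∀ z ∈ center P, (a z * z⁻¹) * (a z * z⁻¹) = 1 := fun z hz => by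
    calc a z * z⁻¹ * (a z * z⁻¹) = a z * (z⁻¹ * a z) * z⁻¹ := by group
      _ = a z * (a z * z⁻¹) * z⁻¹ := by rw [← mem_center_iff.mp (inv_mem hz) (a z)]
      _ = a z * a z * (z * z)⁻¹ := by group
      _ = 1 := by rw [← map_mul, hsqfix z hz, mul_inv_cancel]
  -- no non-trivial fixed point of `a` in `W`
  have hWfix : ∀ z ∈ center P, a (a z * z⁻¹) = a z * z⁻¹ → a z * z⁻¹ = 1 := fun z _ h =>
    eq_one_of_fixed_step hP2 hOodd han (inv_mul_cancel_right _ _).symm h
  -- `a q q⁻¹` is in `W` and squares to one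
  have hmove : ∀ q : P, (a q * q⁻¹) * (a q * q⁻¹) = 1 ∧ ((a q * q⁻¹ : P) : G) ∈ W := by
    intro q
    set z := a q * q⁻¹ with hz
    have hzc : z ∈ center P := hquot o hoO q
    have e : a q = z * q := by rw [hz, inv_mul_cancel_right]
    have key : ∀ i : ℕ, ∃ m ∈ center P, (a ^ i) q = m * q ∧ m * m = (z * z) ^ i ∧ ((m * (z ^ i)⁻¹ : P) : G) ∈ W := by
      intro i
      induction i with
      | zero => exact ⟨1, one_mem _, by simp, by simp, by simp⟩
      | succ i ih =>
        obtain ⟨m, hm, h1, h2, h3⟩ := ih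
        refine ⟨a m * z, mul_mem (hcen a m hm) hzc, ?_, ?_, ?_⟩
        · rw [pow_succ', MulAut.mul_apply, h1, map_mul, mul_assoc _ z, ← e]
        · rw [pow_succ, ← h2, ← hsqfix m hm, map_mul]
          calc a m * z * (a m * z) = a m * (z * a m) * z := by group
            _ = a m * (a m * z) * z := by rw [← mem_center_iff.mp hzc (a m)]
            _ = _ := by group
        · have : a m * z * (z ^ (i + 1))⁻¹ = (a m * m⁻¹) * (m * (z ^ i)⁻¹) := by
            rw [pow_succ']; group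
          rw [show (((a m * z) * (z ^ (i + 1))⁻¹ : P) : G) = ((a m * m⁻¹ : P) : G) * ((m * (z ^ i)⁻¹ : P) : G) by
            rw [this]; rfl]
          exact W.mul_mem (hWmem.mpr ⟨m, hm, rfl⟩) h3
    obtain ⟨m, -, h1, h2, h3⟩ := key n
    rw [han, MulAut.one_apply] at h1
    have hm1 : m = 1 := mul_eq_right.mp h1.symm
    subst hm1
    have hz2 : z * z = 1 := eq_one_of_odd_pow hP2 hOodd (by rw [← h2, mul_one])
    refine ⟨hz2, ?_⟩
    have hodd := hOodd
    obtain ⟨j, hj⟩ := hodd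
    rw [one_mul, hj, pow_succ, pow_mul, pow_two, hz2, one_pow, one_mul] at h3
    simpa using W.inv_mem h3
  have hWP : ∀ v ∈ W, v ∈ P := fun v hv => by
    obtain ⟨z, -, rfl⟩ := hWmem.mp hv; exact SetLike.coe_mem _
  have hinvW : ∀ v ∈ W, t * v * t⁻¹ ∈ W := by
    intro v hv
    obtain ⟨z, hz, rfl⟩ := hWmem.mp hv
    have hy : a⁻¹ (τ z) ∈ center P := hcen _ _ (hcen _ _ hz)
    have e : τ (a z * z⁻¹) = (a (a⁻¹ (τ z)) * (a⁻¹ (τ z))⁻¹)⁻¹ := by
      have h1 : τ (a z) = a⁻¹ (τ z) := by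
        rw [← MulAut.mul_apply, ← MulAut.mul_apply, ← mul_inv_eq_iff_eq_mul.mp haτ]
      rw [map_mul, map_inv, h1, MulAut.apply_inv_self, mul_inv_rev, inv_inv]
    rw [show t * ((a z * z⁻¹ : P) : G) * t⁻¹ = ((τ (a z * z⁻¹) : P) : G) from (hπv (toN t ht) _).symm, e]
    exact W.inv_mem (hWmem.mpr ⟨_, hy, rfl⟩)
  have hpair : ∀ v ∈ W, (∃ s ∈ (S : Subgroup G), s ∉ P ∧ ⁅v, s⁆ ≠ 1) → Pair (S : Subgroup G) P v := by
    intro v hv ⟨s₀, hs₀, hs₀P, hne⟩
    obtain ⟨z, hz, hvz⟩ := hWmem.mp hv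
    have hcent : ∀ y ∈ P, v * y = y * v := fun y hy => by
      rw [hvz]; exact (congrArg Subtype.val (mem_center_iff.mp (hWc z hz) ⟨y, hy⟩)).symm
    have hval : ∀ s ∈ (S : Subgroup G), s ∉ P → ⁅v, s⁆ = ⁅v, t⁆ := fun s hs hsP => by
      have hp : t⁻¹ * s ∈ P := htwo _ (inv_mem ht) (fun hi => htP (by simpa using P.inv_mem hi)) s hs hsP
      have hc : t⁻¹ * s * v⁻¹ * (t⁻¹ * s)⁻¹ = v⁻¹ := by
        rw [← (show Commute v⁻¹ (t⁻¹ * s) from (show Commute v _ from hcent _ hp).inv_left).eq, mul_inv_cancel_right]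
      calc ⁅v, s⁆ = v * t * (t⁻¹ * s * v⁻¹ * (t⁻¹ * s)⁻¹) * t⁻¹ := by rw [commutatorElement_def]; group
        _ = ⁅v, t⁆ := by rw [hc, commutatorElement_def]
    have hmv : ⁅v, t⁆ ≠ 1 := hval s₀ hs₀ hs₀P ▸ hne
    obtain ⟨z₁, hz₁, hc₁⟩ := hWmem.mp (show ⁅v, t⁆ ∈ W by
      rw [commutatorElement_def, mul_assoc v t, mul_assoc v]
      exact W.mul_mem hv (hinvW _ (W.inv_mem hv)))
    have hnf : ∀ c : P, a c = c → (c : G) ≠ ⁅v, t⁆ := fun c hc e => by
      have ec : c = a z₁ * z₁⁻¹ := Subtype.ext (e.trans hc₁)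
      rw [ec] at hc
      rw [hc₁, hWfix z₁ hz₁ hc] at hmv
      exact hmv rfl
    refine ⟨hPS, hself, htwo, hWP v hv, hcent, ?_, fun s hs hsP => hval s hs hsP ▸ hmv, ?_, ?_⟩
    · rw [hvz]; exact congrArg Subtype.val (hW2 z hz)
    · intro y hy s hs hsP
      rw [hval s hs hsP]
      refine hnf (⟨y, hy⟩ * ⟨y, hy⟩) ?_
      set q : P := ⟨y, hy⟩
      have e : a q = (a q * q⁻¹) * q := (inv_mul_cancel_right _ _).symm
      rw [map_mul, e]
      calc (a q * q⁻¹) * q * ((a q * q⁻¹) * q) = (a q * q⁻¹) * (q * (a q * q⁻¹)) * q := by group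
        _ = (a q * q⁻¹) * ((a q * q⁻¹) * q) * q := by rw [mem_center_iff.mp (hquot o hoO q) q]
        _ = ((a q * q⁻¹) * (a q * q⁻¹)) * (q * q) := by group
        _ = q * q := by rw [(hmove q).1, one_mul]
    · intro y hy y' hy' s hs hsP
      rw [hval s hs hsP]
      refine fun e => hnf ⁅(⟨y, hy⟩ : P), ⟨y', hy'⟩⁆ ?_ ((map_commutatorElement P.subtype _ _).trans e)
      set q : P := ⟨y, hy⟩
      set q' : P := ⟨y', hy'⟩
      have e1 : a q = (a q * q⁻¹) * q := (inv_mul_cancel_right _ _).symm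
      have e2 : a q' = (a q' * q'⁻¹) * q' := (inv_mul_cancel_right _ _).symm
      rw [map_commutatorElement, e1, e2]
      set z := a q * q⁻¹
      set z' := a q' * q'⁻¹
      have c1 : ∀ w, w * z = z * w := mem_center_iff.mp (hquot o hoO q)
      have c2 : ∀ w, w * z' = z' * w := mem_center_iff.mp (hquot o hoO q')
      simp only [commutatorElement_def, mul_inv_rev]
      calc z * q * (z' * q') * (q⁻¹ * z⁻¹) * (q'⁻¹ * z'⁻¹)
          = z * (q * z') * q' * q⁻¹ * (z⁻¹ * q'⁻¹) * z'⁻¹ := by group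
        _ = z * (z' * q) * q' * q⁻¹ * (q'⁻¹ * z⁻¹) * z'⁻¹ := by
          rw [c2, (show Commute q'⁻¹ z from c1 _).inv_right.eq.symm]
        _ = z * z' * ((q * q' * q⁻¹ * q'⁻¹) * (z' * z)⁻¹) := by group
        _ = z * z' * ((z' * z)⁻¹ * (q * q' * q⁻¹ * q'⁻¹)) := by
          rw [(show Commute (q * q' * q⁻¹ * q'⁻¹) (z' * z) from
            (show Commute _ z' from c2 _).mul_right (c1 _)).inv_right.eq]
        _ = q * q' * q⁻¹ * q'⁻¹ := by rw [show z' * z = z * z' from c1 z', ← mul_assoc, mul_inv_cancel, one_mul]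
  obtain ⟨g, hg⟩ := hf o
  refine ⟨g, g.2, ?_, W, ?_, hpair, hWP, fun q hq => ?_⟩
  · rintro ⟨s, hs, hy⟩
    refine ho1 (hdisj o hoO ((hTmem o).mpr ⟨s, hs, ?_⟩))
    rw [← hg]
    exact Subtype.ext (MulEquiv.ext fun y => Subtype.ext (by
      show ((π g y : P) : G) = ((π (toN s hs) y : P) : G)
      rw [hπv, hπv]; exact hy y y.2))
  · by_contra hno
    push Not at hno
    refine ho1 (Subtype.ext (eq_one_of_trivial hP2 hOodd han (hquot o hoO) fun z hz _ => ?_))
    have hτfix : ∀ z ∈ center P, τ (a z * z⁻¹) = a z * z⁻¹ := fun z hz => by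
      by_contra hne
      refine hno _ (hWmem.mpr ⟨z, hz, rfl⟩) (hpair _ (hWmem.mpr ⟨z, hz, rfl⟩) ⟨t, ht, htP, fun hc => hne ?_⟩)
      refine Subtype.ext ?_
      rw [hπv]
      show t * ((a z * z⁻¹ : P) : G) * t⁻¹ = _
      rw [← (commutatorElement_eq_one_iff_commute.mp hc).eq, mul_inv_cancel_right]
    set w := a z * z⁻¹ with hw
    have haw : a w = a⁻¹ w := by
      have h1 : τ (a w) = a⁻¹ (τ w) := by
        rw [← MulAut.mul_apply, ← MulAut.mul_apply, ← mul_inv_eq_iff_eq_mul.mp haτ]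
      rw [hτfix z hz] at h1
      rw [← h1, hw, map_mul, map_inv]
      have := hτfix (a z) (hcen a z hz)
      rw [map_mul, map_mul, map_inv] at *
      exact this.symm
    have h2 : (a ^ 2) w = w := by rw [pow_two, MulAut.mul_apply, haw, MulAut.apply_inv_self]
    have h2k : ∀ k : ℕ, ((a ^ 2) ^ k) w = w := fun k => by
      induction k with
      | zero => simp
      | succ k ihk => rw [pow_succ', MulAut.mul_apply, ihk, h2]
    obtain ⟨j, hj⟩ := hOodd
    have : a w = w := by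
      have h3 : (a ^ (2 * (j + 1))) w = w := by rw [pow_mul]; exact h2k _
      rw [show 2 * (j + 1) = n + 1 by omega, pow_succ, han, one_mul] at h3
      exact h3
    exact mul_inv_eq_one.mp (hWfix z hz this)
  · have h := (hmove ⟨q, hq⟩).2
    rw [Subgroup.coe_mul, InvMemClass.coe_inv] at h
    rwa [show a = π g by rw [ha, ← hg]; rfl, hπv] at h

/-- Every centric subgroup of `S` is good. -/
theorem inner_of_centric : ∀ P : Subgroup G, P ≤ (S : Subgroup G) →
    (∀ s ∈ (S : Subgroup G), (∀ y ∈ P, s * y = y * s) → s ∈ P) → Inner (S : Subgroup G) P := by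
  intro P
  induction P using (wellFounded_gt (α := Subgroup G)).induction with
  | _ P ih =>
  intro hPS hself
  by_contra hbad
  obtain ⟨g, hg, hng, W, ⟨u, huW, hu⟩, hW, hWP, hgW⟩ := exists_pairs H hPS hself
    (fun R hlt hRS => ih R hlt hRS fun s hs hc => hlt.le (hself s hs fun y hy => hc y (hlt.le hy))) hbad
  have hin : ∀ (a : A), ∀ v ∈ W, v ∈ P.map (φ a).toMonoidHom := by
    intro a v hv
    have horb : ∀ w, Pair (S : Subgroup G) P w → w ∈ P.map (φ a).toMonoidHom := fun w hw =>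
      hw.orbit H.cl (φ a) (apply_mem_iff H a) H.odd (by rw [← map_pow, pow_card_eq_one', map_one])
    by_cases hmv : ∃ t ∈ (S : Subgroup G), t ∉ P ∧ ⁅v, t⁆ ≠ 1
    · exact horb v (hW v hv hmv)
    · have h2 : Pair (S : Subgroup G) P (v * u) := by
        obtain ⟨t, ht, htP⟩ : ∃ t ∈ (S : Subgroup G), t ∉ P := by
          by_contra hno
          push Not at hno
          exact hbad (le_antisymm hPS hno ▸ inner_self H)
        refine hW _ (W.mul_mem hv huW) ⟨t, ht, htP, fun hc => hu.moved t ht htP ?_⟩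
        have hvt : Commute v t := commutatorElement_eq_one_iff_commute.mp
          (by_contra fun hne => hmv ⟨t, ht, htP, hne⟩)
        rw [commutatorElement_eq_one_iff_commute] at hc ⊢
        simpa using hvt.inv_left.mul_left hc
      have := mul_mem (horb _ h2) (inv_mem (horb u hu))
      rwa [mul_inv_cancel_right] at this
  let P₀ : Subgroup G := ⨅ a : A, P.map (φ a).toMonoidHom
  have hP0P : P₀ ≤ P := fun x hx => by
    obtain ⟨y, hy, rfl⟩ := (mem_iInf.mp hx) 1
    simpa using hy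
  have hcentral : ∀ s ∈ (S : Subgroup G), (∀ y ∈ (S : Subgroup G), s * y = y * s) → s ∈ P₀ := by
    intro s hs hc
    refine mem_iInf.mpr fun a => ⟨(φ a).symm s, hself _ ?_ fun y hy => ?_, (φ a).apply_symm_apply s⟩
    · rw [← apply_mem_iff H a]; simpa using hs
    · apply (φ a).injective
      rw [map_mul, map_mul, MulEquiv.apply_symm_apply]
      exact hc _ (H.inv a y (hPS hy))
  obtain ⟨t, ht, htP⟩ : ∃ t ∈ (S : Subgroup G), t ∉ P := by
    by_contra hno
    push Not at hno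
    exact hbad (le_antisymm hPS hno ▸ inner_self H)
  have hne : P₀ ≠ ⊥ := fun e => hu.moved t ht htP (Subgroup.mem_bot.mp (e ▸ hcentral ⁅u, t⁆
    (mul_mem (mul_mem (mul_mem (hPS hu.mem) ht) (inv_mem (hPS hu.mem))) (inv_mem ht))
    (fun y hy => H.cl u (hPS hu.mem) t ht y hy)))
  have hS0 : ∀ s ∈ (S : Subgroup G), ∀ x ∈ P₀, s * x * s⁻¹ ∈ P₀ := fun s hs x hx => by
    have hxS := hPS (hP0P hx)
    have hc : ⁅s, x⁆ ∈ P₀ := hcentral _ (mul_mem (mul_mem (mul_mem hs hxS) (inv_mem hs)) (inv_mem hxS))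
      fun y hy => H.cl s hs x hxS y hy
    simpa [commutatorElement_def] using P₀.mul_mem hc hx
  have hA0 : ∀ a : A, ∀ x ∈ P₀, φ a x ∈ P₀ := fun a x hx => mem_iInf.mpr fun b => by
    obtain ⟨y, hy, e⟩ := mem_iInf.mp hx (a⁻¹ * b)
    refine ⟨y, hy, ?_⟩
    rw [← e]
    show φ b y = φ a (φ (a⁻¹ * b) y)
    rw [← MulAut.mul_apply, ← map_mul, mul_inv_cancel_left]
  have hgn : g ∈ normalizer (P₀ : Set G) := by
    refine CfsgLib.Local.mem_normalizer_of_map_conj_eq (eq_of_le_of_card_ge ?_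
      (card_map_of_injective (MulAut.conj g).injective).ge)
    rintro _ ⟨q, hq, rfl⟩
    refine mem_iInf.mpr fun a => ?_
    have := mul_mem (hin a _ (hgW q (hP0P hq))) (mem_iInf.mp hq a)
    rw [inv_mul_cancel_right] at this
    exact this
  obtain ⟨s, hs, hsy⟩ := H.norm P₀ hne (hP0P.trans hPS) hS0 hA0 g hgn
  exact hng ⟨s, hs, fun y hy => hsy y (hPS hy)⟩

/-- The group is 2-nilpotent. -/
theorem hasNormalPComplement : HasNormalPComplement 2 G := by
  haveI : Fact (Nat.Prime 2) := ⟨Nat.prime_two⟩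
  refine CfsgLib.Transfer.hasNormalPComplement_of_control S ?_
  intro x hx g hg
  let r : G → G → Prop := fun x y => ∃ s ∈ (S : Subgroup G), s * x * s⁻¹ = y
  have hr : Equivalence r := ⟨fun x => ⟨1, one_mem _, by simp⟩,
    fun {x y} ⟨s, hs, e⟩ => ⟨s⁻¹, inv_mem hs, by rw [← e]; group⟩,
    fun {x y z} ⟨s, hs, e⟩ ⟨t, ht, e'⟩ => ⟨t * s, mul_mem ht hs, by rw [← e', ← e]; group⟩⟩
  refine CfsgLib.LocalFusion.fusion_rel S r hr (fun s hs y _ => ⟨s, hs, rfl⟩) ?_ hx hg
  intro P hPS hPc _ g hg y hy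
  obtain ⟨s, hs, hsy⟩ := inner_of_centric H P hPS (fun s hs hc => hPc
    (Subgroup.mem_inf.mpr ⟨hs, mem_centralizer_iff.mpr fun y hy => (hc y hy).symm⟩)) g hg
  exact ⟨s, hs, (hsy y hy).symm⟩

end Control

end CfsgLib.AfterFT.ClassTwo
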