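import Cfsg.Agent.Lib.CoprimeGen

/-!
Fixed points of a coprime abelian operator group on `Y = [Y, A]` (solvable): they are generated by the fixed
points of the groups `[C_Y(A₀), A]`, `A / A₀` cyclic.
-/

set_option autoImplicit false
set_option linter.unusedSectionVars false
set_option linter.style.haveILetI false

namespace CfsgLib.AfterFT

open Subgroup CfsgLib
open scoped commutatorElement

universe u
variable {G : Type u} [Group G]

/-- `A₀ ≤ A` with cyclic quotient. -/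
def CycOver (A A₀ : Subgroup G) : Prop := A₀ ≤ A ∧ ∃ a ∈ A, A ≤ A₀ ⊔ zpowers a

/-- The subgroup generated by the `C(A) ∩ [C_K(A₀), A]`. -/
def fixGen (A K : Subgroup G) : Subgroup G :=
  ⨆ A₀ : {A₀ : Subgroup G // CycOver A A₀}, centralizer (A : Set G) ⊓ ⁅K ⊓ centralizer ((A₀.1 : Subgroup G) : Set G), A⁆

variable {A K V W : Subgroup G}

theorem cycOver_self (A : Subgroup G) : CycOver A A :=
  ⟨le_rfl, 1, A.one_mem, le_sup_left⟩

theorem fixGen_mono {K' : Subgroup G} (h : K ≤ K') : fixGen A K ≤ fixGen A K' :=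
  iSup_mono fun _ => inf_le_inf_left _ (commutator_mono (inf_le_inf_right _ h) le_rfl)

theorem le_fixGen {A₀ : Subgroup G} (h : CycOver A A₀) :
    centralizer (A : Set G) ⊓ ⁅K ⊓ centralizer (A₀ : Set G), A⁆ ≤ fixGen A K :=
  le_iSup (fun B : {A₀ : Subgroup G // CycOver A A₀} =>
    centralizer (A : Set G) ⊓ ⁅K ⊓ centralizer ((B.1 : Subgroup G) : Set G), A⁆) ⟨A₀, h⟩

theorem le_normalizer_inf' {X Y : Subgroup G} (hX : A ≤ normalizer (X : Set G)) (hY : A ≤ normalizer (Y : Set G)) :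
    A ≤ normalizer ((X ⊓ Y : Subgroup G) : Set G) := fun a ha => Subgroup.mem_normalizer_iff.mpr fun z => by
  simp only [Subgroup.mem_inf]
  rw [Subgroup.mem_normalizer_iff.mp (hX ha) z, Subgroup.mem_normalizer_iff.mp (hY ha) z]

theorem le_normalizer_centralizer_of_comm [IsMulCommutative A] {B : Subgroup G} (hB : B ≤ A) :
    A ≤ normalizer (centralizer (B : Set G) : Set G) := by
  refine le_trans ?_ Subgroup.le_normalizer
  intro a ha b hb
  exact congrArg Subtype.val (IsMulCommutative.is_comm.comm (⟨b, hB hb⟩ : A) ⟨a, ha⟩)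

variable [Finite G]

theorem gen_centralizers [IsMulCommutative A] :
    ∀ (n : ℕ) (K : Subgroup G), Nat.card K = n → A ≤ normalizer (K : Set G) →
      (Nat.card A).Coprime (Nat.card K) → K ≤ ⨆ A₀ : {A₀ : Subgroup G // CycOver A A₀}, K ⊓ centralizer ((A₀.1 : Subgroup G) : Set G) := by
  classical
  intro n
  induction n using Nat.strong_induction_on with
  | _ n ih =>
  intro K hn hAK hcop
  subst hn
  set A₀ := A ⊓ centralizer (K : Set G) with hA₀
  by_cases hc : CycOver A A₀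
  · refine le_trans ?_ (le_iSup (fun B : {A₀ : Subgroup G // CycOver A A₀} => K ⊓ centralizer ((B.1 : Subgroup G) : Set G)) ⟨A₀, hc⟩)
    exact le_inf le_rfl fun k hk a ha => (ha.2 k hk).symm
  have hA₀A : A₀ ≤ A := inf_le_left
  set H := K ⊔ A
  have hKH : K ≤ H := le_sup_left
  have hAH : A ≤ H := le_sup_right
  haveI : (A₀.subgroupOf H).Normal := by
    refine (Subgroup.normal_subgroupOf_iff_le_normalizer (hA₀A.trans hAH)).mpr (sup_le ?_ ?_)
    · exact le_trans (show K ≤ centralizer (A₀ : Set G) from fun k hk a ha => (ha.2 k hk).symm)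
        (centralizer_le_normalizer _)
    · exact le_trans (show A ≤ centralizer (A₀ : Set G) from fun a ha b hb =>
        congrArg Subtype.val (IsMulCommutative.is_comm.comm (⟨b, hA₀A hb⟩ : A) ⟨a, ha⟩)) (centralizer_le_normalizer _)
  let f : H →* H ⧸ A₀.subgroupOf H := QuotientGroup.mk' _
  set Kb := (K.subgroupOf H).map f
  set Ab := (A.subgroupOf H).map f
  haveI : IsMulCommutative Ab := ⟨⟨fun ⟨_, a, ha, hae⟩ ⟨_, b, hb, hbe⟩ => Subtype.ext (by
    subst hae hbe
    show f a * f b = f b * f a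
    rw [← map_mul, ← map_mul]
    exact congrArg f (Subtype.ext (congrArg (fun z : A => (z : G))
      (IsMulCommutative.is_comm.comm (⟨(a : G), ha⟩ : A) ⟨(b : G), hb⟩))))⟩⟩
  have hnc : ¬ IsCyclic Ab := by
    rintro ⟨⟨_, a, ha, rfl⟩, hgen⟩
    refine hc ⟨hA₀A, a, ha, fun b hb => ?_⟩
    obtain ⟨k, hk⟩ := Subgroup.mem_zpowers_iff.mp (hgen ⟨f ⟨b, hAH hb⟩, ⟨_, hb, rfl⟩⟩)
    have e : f (a ^ k) = f ⟨b, hAH hb⟩ := by
      rw [map_zpow]; exact congrArg Subtype.val hk
    have hd : ((a ^ k)⁻¹ * ⟨b, hAH hb⟩ : H) ∈ A₀.subgroupOf H := QuotientGroup.eq.mp e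
    have : b = (a : G) ^ k * (((a ^ k)⁻¹ * ⟨b, hAH hb⟩ : H) : G) := by simp
    rw [this, sup_comm]
    exact mul_mem_sup (zpow_mem (mem_zpowers _) k) hd
  have hAbKb : Ab ≤ normalizer (Kb : Set (H ⧸ A₀.subgroupOf H)) := by
    refine le_trans (Subgroup.map_mono fun a ha => Subgroup.mem_normalizer_iff.mpr fun x => ?_) (le_normalizer_map f)
    exact Subgroup.mem_normalizer_iff.mp (hAK ha) x
  have hcopb : (Nat.card Ab).Coprime (Nat.card Kb) :=
    Nat.Coprime.coprime_dvd_left ((card_map_dvd _ _).trans (Nat.card_congr (subgroupOfEquivOfLe hAH).toEquiv).dvd)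
      (Nat.Coprime.coprime_dvd_right ((card_map_dvd _ _).trans (Nat.card_congr (subgroupOfEquivOfLe hKH).toEquiv).dvd) hcop)
  set D := ⨆ A₀ : {A₀ : Subgroup G // CycOver A A₀}, K ⊓ centralizer ((A₀.1 : Subgroup G) : Set G) with hD
  have hdisj : ∀ z ∈ A, z ∈ K → z = 1 := fun z h1 h2 => Subgroup.disjoint_def.mp (disjoint_of_coprime_natCard hcop) h1 h2
  have hle : Kb ≤ (D.subgroupOf H).map f := by
    rw [← coprime_generated_by_centralizers (K := Kb) hnc hAbKb hcopb]
    refine iSup₂_le fun ab hab => ?_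
    obtain ⟨⟨a, ha, rfl⟩, ha1⟩ := hab
    rintro _ ⟨⟨k, hk, rfl⟩, hcomm⟩
    have h1 : a * k * a⁻¹ * k⁻¹ ∈ A₀.subgroupOf H := by
      rw [← QuotientGroup.eq_one_iff]
      show f (a * k * a⁻¹ * k⁻¹) = 1
      have h2 : f k * f a = f a * f k := Subgroup.mem_centralizer_singleton_iff.mp hcomm
      rw [map_mul, map_mul, map_mul, map_inv, map_inv, ← h2]
      group
    have h3 : (a : G) * k * (a : G)⁻¹ * (k : G)⁻¹ = 1 :=
      hdisj _ (hA₀A h1) (K.mul_mem ((Subgroup.mem_normalizer_iff.mp (hAK ha) _).mp hk) (K.inv_mem hk))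
    set K' := K ⊓ centralizer ({(a : G)} : Set G) with hK'
    have hk' : (k : G) ∈ K' := ⟨hk, mem_centralizer_singleton_iff.mpr (by
      rw [mul_inv_eq_one, mul_inv_eq_iff_eq_mul] at h3; exact h3.symm)⟩
    have hlt : K' < K := lt_of_le_of_ne inf_le_left fun e => ha1 (by
      have hmem : (a : G) ∈ A₀ := ⟨ha, fun x hx => mem_centralizer_singleton_iff.mp ((e.ge hx).2)⟩
      exact (QuotientGroup.eq_one_iff a).mpr hmem)
    have hAK' : A ≤ normalizer (K' : Set G) := le_normalizer_inf' hAK (le_trans (fun b hb =>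
      mem_centralizer_singleton_iff.mpr (congrArg Subtype.val (IsMulCommutative.is_comm.comm (⟨b, hb⟩ : A) ⟨a, ha⟩)))
      Subgroup.le_normalizer)
    have := ih _ (Set.Finite.card_lt_card (Set.toFinite _) hlt) K' rfl hAK'
      (hcop.coprime_dvd_right (card_dvd_of_le hlt.le)) hk'
    exact ⟨k, show (k : G) ∈ D from (iSup_mono fun B => inf_le_inf_right _ hlt.le) this, rfl⟩
  intro k hk
  obtain ⟨d, hd, hde⟩ := hle ⟨⟨k, hKH hk⟩, hk, rfl⟩
  have h1 : d⁻¹ * ⟨k, hKH hk⟩ ∈ A₀.subgroupOf H := QuotientGroup.eq.mp hde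
  have hDK : D ≤ K := iSup_le fun _ => inf_le_left
  have h2 : (d : G)⁻¹ * k = 1 := hdisj _ (hA₀A h1) (K.mul_mem (K.inv_mem (hDK hd)) hk)
  rw [← eq_of_inv_mul_eq_one h2]
  exact hd

/-- `[K, A]` is generated by the `[C_K(A₀), A]`. -/
theorem commutator_le_iSup [IsMulCommutative A] (hAK : A ≤ normalizer (K : Set G))
    (hcop : (Nat.card A).Coprime (Nat.card K)) :
    ⁅K, A⁆ ≤ ⨆ A₀ : {A₀ : Subgroup G // CycOver A A₀}, ⁅K ⊓ centralizer ((A₀.1 : Subgroup G) : Set G), A⁆ := by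
  set D := ⨆ A₀ : {A₀ : Subgroup G // CycOver A A₀}, ⁅K ⊓ centralizer ((A₀.1 : Subgroup G) : Set G), A⁆ with hD
  have hsol : Group.IsSolvable A := Group.isSolvable_of_comm fun a b => IsMulCommutative.is_comm.comm a b
  have hKi : ∀ B : {A₀ : Subgroup G // CycOver A A₀},
      A ≤ normalizer ((K ⊓ centralizer ((B.1 : Subgroup G) : Set G) : Subgroup G) : Set G) :=
    fun B => le_normalizer_inf' hAK (le_normalizer_centralizer_of_comm B.2.1)
  have hnorm : ∀ X : Subgroup G, (∀ B : {A₀ : Subgroup G // CycOver A A₀},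
      X ≤ normalizer ((⁅K ⊓ centralizer ((B.1 : Subgroup G) : Set G), A⁆ : Subgroup G) : Set G)) →
      X ≤ normalizer (D : Set G) := fun X hX x hx => Subgroup.mem_normalizer_iff_map_conj_eq.mpr (by
    rw [hD, Subgroup.map_iSup]
    exact iSup_congr fun B => Subgroup.mem_normalizer_iff_map_conj_eq.mp (hX B hx))
  have hAD : A ≤ normalizer (D : Set G) := hnorm A fun B => right_le_normalizer_commutator A _
  have hCD : K ⊓ centralizer (A : Set G) ≤ normalizer (D : Set G) := hnorm _ fun B =>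
    (inf_le_inf_left K (centralizer_le B.2.1)).trans (left_le_normalizer_commutator A _)
  have hK : K ≤ D ⊔ (K ⊓ centralizer (A : Set G)) := (gen_centralizers _ K rfl hAK hcop).trans (iSup_le fun B => by
    rw [← coprime_commutator_sup (hKi B) (hcop.coprime_dvd_right (card_dvd_of_le inf_le_left)) (Or.inl hsol)]
    exact sup_le_sup (le_iSup (fun B : {A₀ : Subgroup G // CycOver A A₀} =>
      ⁅K ⊓ centralizer ((B.1 : Subgroup G) : Set G), A⁆) B) (inf_le_inf_right _ inf_le_left))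
  rw [Subgroup.commutator_le]
  intro k hk a ha
  obtain ⟨d, hd, c, hc, rfl⟩ := mem_sup_of_le_normalizer hCD (hK hk)
  have : ⁅d * c, a⁆ = d * (a * d⁻¹ * a⁻¹) := by
    rw [commutatorElement_def, mul_inv_rev]
    calc d * c * a * (c⁻¹ * d⁻¹) * a⁻¹ = d * (c * a * c⁻¹) * d⁻¹ * a⁻¹ := by group
      _ = _ := by rw [← hc.2 a ha, mul_inv_cancel_right]; group
  rw [this]
  exact D.mul_mem hd ((Subgroup.mem_normalizer_iff.mp (hAD ha) _).mp (D.inv_mem hd))

/-- In an abelian coprime section `[V, A₀]` has no non-trivial fixed point. -/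
theorem fixed_mem_of_mem_commutator_sup {A₀ : Subgroup G} (hWV : W ≤ V) (hVW : ⁅V, V⁆ ≤ W)
    (hAV : A₀ ≤ normalizer (V : Set G)) (hAW : A₀ ≤ normalizer (W : Set G))
    (hcop : (Nat.card A₀).Coprime (Nat.card V)) {c : G} (hc : c ∈ ⁅V, A₀⁆ ⊔ W)
    (hfix : c ∈ centralizer (A₀ : Set G)) : c ∈ W := by
  classical
  haveI : Fintype A₀ := Fintype.ofFinite _
  have hcl : ∀ a ∈ V, ∀ b ∈ W, a * b * a⁻¹ ∈ W := fun a ha b hb => by
    have := W.mul_mem (hVW (commutator_mem_commutator ha (hWV hb))) hb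
    simpa [commutatorElement_def] using this
  haveI : (W.subgroupOf V).Normal := ⟨fun n hn x => hcl x x.2 n hn⟩
  have hcomm : ∀ u v : V ⧸ W.subgroupOf V, u * v = v * u := by
    intro u v
    obtain ⟨u, rfl⟩ := QuotientGroup.mk'_surjective _ u
    obtain ⟨v, rfl⟩ := QuotientGroup.mk'_surjective _ v
    rw [← commutatorElement_eq_one_iff_mul_comm, ← map_commutatorElement, QuotientGroup.mk'_apply,
      QuotientGroup.eq_one_iff]
    exact hVW (commutator_mem_commutator u.2 v.2)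
  letI : CommGroup (V ⧸ W.subgroupOf V) := { (inferInstance : Group (V ⧸ W.subgroupOf V)) with mul_comm := hcomm }
  let cj : A₀ → V →* V := fun a =>
    { toFun := fun z => ⟨(a : G) * z * (a : G)⁻¹, (Subgroup.mem_normalizer_iff.mp (hAV a.2) _).mp z.2⟩
      map_one' := by ext; simp
      map_mul' := fun z w => by ext; simp [mul_assoc] }
  let ψ : V →* V ⧸ W.subgroupOf V := ∏ a : A₀, (QuotientGroup.mk' (W.subgroupOf V)).comp (cj a)
  have hψ : ∀ z, ψ z = ∏ a : A₀, QuotientGroup.mk' (W.subgroupOf V) (cj a z) := fun z => MonoidHom.finsetProd_apply _ _ _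
  have hker : ⁅V, A₀⁆ ⊔ W ≤ ψ.ker.map V.subtype := by
    refine sup_le ?_ fun w hw => ⟨⟨w, hWV hw⟩, ?_, rfl⟩
    · rw [Subgroup.commutator_le]
      intro v hv b hb
      refine ⟨⟨⁅v, b⁆, (commutator_le_of_le_normalizer hAV) (commutator_mem_commutator hv hb)⟩, ?_, rfl⟩
      rw [SetLike.mem_coe, MonoidHom.mem_ker]
      have e : (⟨⁅v, b⁆, (commutator_le_of_le_normalizer hAV) (commutator_mem_commutator hv hb)⟩ : V) =
          ⟨v, hv⟩ * (cj ⟨b, hb⟩ ⟨v, hv⟩)⁻¹ := Subtype.ext (by simp [cj, commutatorElement_def, mul_assoc])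
      rw [e, map_mul, map_inv, mul_inv_eq_one, hψ, hψ]
      refine (Fintype.prod_equiv (Equiv.mulRight (⟨b, hb⟩ : A₀)) _ _ fun a => ?_).symm
      congr 1
      exact Subtype.ext (by simp [cj, mul_assoc])
    · rw [SetLike.mem_coe, MonoidHom.mem_ker, hψ]
      exact Finset.prod_eq_one fun a _ => (QuotientGroup.eq_one_iff _).mpr
        ((Subgroup.mem_normalizer_iff.mp (hAW a.2) w).mp hw)
  obtain ⟨c', hc', rfl⟩ := hker hc
  rw [SetLike.mem_coe, MonoidHom.mem_ker, hψ] at hc'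
  rw [Finset.prod_congr rfl (fun a _ => show QuotientGroup.mk' (W.subgroupOf V) (cj a c') = QuotientGroup.mk' _ c' by
    congr 1; exact Subtype.ext (by
      show (a : G) * c' * (a : G)⁻¹ = c'
      rw [show (a : G) * c' = c' * a from hfix a a.2, mul_inv_cancel_right])),
    Finset.prod_const, Finset.card_univ] at hc'
  have ho : orderOf (QuotientGroup.mk' (W.subgroupOf V) c') = 1 := by
    refine Nat.eq_one_of_dvd_coprimes hcop ?_
      ((_root_.orderOf_dvd_natCard _).trans (Subgroup.card_quotient_dvd_card _))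
    rw [Nat.card_eq_fintype_card]
    exact orderOf_dvd_of_pow_eq_one hc'
  exact (QuotientGroup.eq_one_iff c').mp (orderOf_eq_one_iff.mp ho)

end CfsgLib.AfterFT
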