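import Cfsg.Agent.Lib.AfterFT.CoprimeFixedGen

/-!
For a solvable `Y = [Y, A]` with a coprime abelian operator group `A`, the fixed points are generated by those of
the subgroups `[C_Y(A₀), A]` with `A / A₀` cyclic.
-/

set_option autoImplicit false
set_option linter.unusedSectionVars false
set_option linter.style.haveILetI false
set_option maxHeartbeats 1000000

namespace CfsgLib.AfterFT

open Subgroup CfsgLib
open scoped commutatorElement

universe u
variable {G : Type u} [Group G]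

/-- The derived series of a subgroup, inside the ambient group. -/
def derSer (Y : Subgroup G) : ℕ → Subgroup G
  | 0 => Y
  | n + 1 => ⁅derSer Y n, derSer Y n⁆

theorem derSer_eq (Y : Subgroup G) : ∀ n, derSer Y n = (derivedSeries Y n).map Y.subtype
  | 0 => by rw [derSer, derivedSeries_zero, ← MonoidHom.range_eq_map, Subgroup.range_subtype]
  | n + 1 => by rw [derSer, derSer_eq Y n, derivedSeries_succ, Subgroup.map_commutator]

theorem derSer_succ_le (Y : Subgroup G) (n : ℕ) : derSer Y (n + 1) ≤ derSer Y n := by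
  rw [derSer]; exact Subgroup.commutator_le_self _

theorem derSer_le (Y : Subgroup G) : ∀ n, derSer Y n ≤ Y
  | 0 => le_rfl
  | n + 1 => (derSer_succ_le Y n).trans (derSer_le Y n)

theorem normalizes_derSer {X Y : Subgroup G} (h : X ≤ normalizer (Y : Set G)) :
    ∀ n, X ≤ normalizer (derSer Y n : Set G)
  | 0 => h
  | n + 1 => fun x hx => Subgroup.mem_normalizer_iff_map_conj_eq.mpr (by
      rw [derSer, Subgroup.map_commutator, Subgroup.mem_normalizer_iff_map_conj_eq.mp (normalizes_derSer h n hx)])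

/-- Conjugation-closed version of normalisation. -/
theorem le_normalizer_of_conj_mem {X S : Subgroup G} (h : ∀ x ∈ X, ∀ s ∈ S, x * s * x⁻¹ ∈ S) :
    X ≤ normalizer (S : Set G) := fun x hx => Subgroup.mem_normalizer_iff.mpr fun s =>
  ⟨h x hx s, fun hs => by simpa [mul_assoc] using h x⁻¹ (X.inv_mem hx) _ hs⟩

variable [Finite G] {A : Subgroup G} [IsMulCommutative A]

theorem fixed_le_fixGen : ∀ (n : ℕ) (Y : Subgroup G), Nat.card Y = n → Group.IsSolvable Y →
    A ≤ normalizer (Y : Set G) → (Nat.card A).Coprime (Nat.card Y) → ⁅Y, A⁆ = Y →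
    Y ⊓ centralizer (A : Set G) ≤ fixGen A Y := by
  classical
  intro n
  induction n using Nat.strong_induction_on with
  | _ n ih =>
  intro Y hn hYs hAY hcop hYA
  subst hn
  set J := fixGen A Y with hJ
  have hJC : J ≤ centralizer (A : Set G) := iSup_le fun _ => inf_le_left
  have hJY : J ≤ Y := iSup_le fun B =>
    inf_le_right.trans ((commutator_mono inf_le_left le_rfl).trans (commutator_le_of_le_normalizer hAY))
  obtain ⟨k, hk⟩ := hYs.solvable
  have hbot : derSer Y k = ⊥ := by rw [derSer_eq, hk, Subgroup.map_bot]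
  suffices main : ∀ i, Y ⊓ centralizer (A : Set G) ≤ J ⊔ (derSer Y i ⊓ centralizer (A : Set G)) by
    refine (main k).trans ?_
    rw [hbot, bot_inf_eq, sup_bot_eq]
  have hYY : Y ≤ normalizer (Y : Set G) := Subgroup.le_normalizer
  have hcopY : ∀ X : Subgroup G, X ≤ Y → (Nat.card A).Coprime (Nat.card X) :=
    fun X h => hcop.coprime_dvd_right (card_dvd_of_le h)
  have hsol : Group.IsSolvable A := Group.isSolvable_of_comm fun a b => IsMulCommutative.is_comm.comm a b
  intro i
  induction i with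
  | zero => exact fun c hc => mem_sup_right ⟨hc.1, hc.2⟩
  | succ i hi =>
  refine hi.trans (sup_le le_sup_left ?_)
  by_cases hYne : Y = ⊥
  · intro c hc
    have : c ∈ Y := derSer_le Y _ hc.1
    rw [hYne, Subgroup.mem_bot] at this
    rw [this]; exact one_mem _
  rcases i with _ | i
  · -- `C(A) ≤ Y'`
    intro c hc
    refine mem_sup_right ⟨fixed_mem_of_mem_commutator_sup (V := Y) (W := derSer Y 1) (A₀ := A)
      (derSer_succ_le Y 0) le_rfl hAY (normalizes_derSer hAY 1) hcop ?_ hc.2, hc.2⟩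
    exact mem_sup_left (hYA.ge hc.1)
  set M := derSer Y i with hM
  set L := derSer Y (i + 1) with hL
  set L' := derSer Y (i + 1 + 1) with hL'
  have hLY : L ≤ Y := derSer_le Y _
  have hL'L : L' ≤ L := derSer_succ_le Y _
  have hAL : A ≤ normalizer (L : Set G) := normalizes_derSer hAY _
  have hYL : Y ≤ normalizer (L : Set G) := normalizes_derSer hYY _
  have hAL' : A ≤ normalizer (L' : Set G) := normalizes_derSer hAY _
  let ι := {A₀ : Subgroup G // CycOver A A₀}
  haveI : Fintype ι := Fintype.ofFinite _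
  let X : ι → Subgroup G := fun B => ⁅Y ⊓ centralizer ((B.1 : Subgroup G) : Set G), A⁆
  have hYX : Y ≤ ⨆ B, X B := hYA.ge.trans (commutator_le_iSup hAY hcop)
  have hCB : ∀ B : ι, A ≤ normalizer ((Y ⊓ centralizer ((B.1 : Subgroup G) : Set G) : Subgroup G) : Set G) :=
    fun B => le_normalizer_inf' hAY (le_normalizer_centralizer_of_comm B.2.1)
  have hXC : ∀ B : ι, X B ≤ Y ⊓ centralizer ((B.1 : Subgroup G) : Set G) :=
    fun B => commutator_le_of_le_normalizer (hCB B)
  let S₁ : ι → Subgroup G := fun B => ⁅L, (B.1 : Subgroup G)⁆ ⊔ L'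
  let S₀ : ι → Subgroup G := fun B => S₁ B ⊔ (L ⊓ X B)
  have hAB : ∀ B : ι, A ≤ normalizer ((⁅L, (B.1 : Subgroup G)⁆ : Subgroup G) : Set G) := fun B a ha => by
    refine Subgroup.mem_normalizer_iff_map_conj_eq.mpr ?_
    rw [Subgroup.map_commutator, Subgroup.mem_normalizer_iff_map_conj_eq.mp (hAL ha),
      Subgroup.mem_normalizer_iff_map_conj_eq.mp ((show A ≤ normalizer ((B.1 : Subgroup G) : Set G) from le_trans
          (show A ≤ centralizer ((B.1 : Subgroup G) : Set G) from fun x hx b hb =>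
            congrArg Subtype.val (IsMulCommutative.is_comm.comm (⟨b, B.2.1 hb⟩ : A) ⟨x, hx⟩))
          (centralizer_le_normalizer _)) ha)]
  have hS₁L : ∀ B, S₁ B ≤ L := fun B => sup_le (commutator_le_of_le_normalizer (B.2.1.trans hAL)) hL'L
  have hS₀L : ∀ B, S₀ B ≤ L := fun B => sup_le (hS₁L B) inf_le_left
  have hLn : ∀ T : Subgroup G, L' ≤ T → T ≤ L → L ≤ normalizer (T : Set G) := fun T hT hTL =>
    le_normalizer_of_conj_mem fun l hl s hs => by
      have := T.mul_mem (hT (commutator_mem_commutator hl (hTL hs))) hs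
      simpa [commutatorElement_def] using this
  have hA1 : ∀ B, A ≤ normalizer (S₁ B : Set G) := fun B a ha => Subgroup.mem_normalizer_iff_map_conj_eq.mpr (by
    rw [Subgroup.map_sup, Subgroup.mem_normalizer_iff_map_conj_eq.mp (hAB B ha),
      Subgroup.mem_normalizer_iff_map_conj_eq.mp (hAL' ha)])
  have hAX : ∀ B, A ≤ normalizer ((L ⊓ X B : Subgroup G) : Set G) := fun B =>
    le_normalizer_inf' hAL (right_le_normalizer_commutator A _)
  have hA0 : ∀ B, A ≤ normalizer (S₀ B : Set G) := fun B a ha => Subgroup.mem_normalizer_iff_map_conj_eq.mpr (by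
    rw [Subgroup.map_sup, Subgroup.mem_normalizer_iff_map_conj_eq.mp (hA1 B ha),
      Subgroup.mem_normalizer_iff_map_conj_eq.mp (hAX B ha)])
  set T := J ⊔ (L' ⊓ centralizer (A : Set G)) with hT
  have one : ∀ B, S₀ B ⊓ centralizer (A : Set G) ≤ T := by
    intro B c hc
    obtain ⟨x, hx, y, hy, rfl⟩ := mem_sup_of_le_normalizer
      (inf_le_left.trans (hLn _ le_sup_right (hS₁L B))) hc.1
    obtain ⟨x', hx', y', hy', e⟩ := coprime_factorisation (hcopY L hLY) (Or.inl hsol) (hS₁L B) (hA1 B) (hAX B) hx hy hc.2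
    rw [e]
    refine T.mul_mem (mem_sup_right ⟨?_, hx'.2⟩) (mem_sup_left (le_fixGen B.2 ⟨hy'.2, hy'.1.2⟩))
    exact fixed_mem_of_mem_commutator_sup hL'L le_rfl (B.2.1.trans hAL) (B.2.1.trans hAL')
      ((hcopY L hLY).coprime_dvd_left (card_dvd_of_le B.2.1)) hx'.1 (centralizer_le B.2.1 hx'.2)
  have fin : ∀ s : Finset ι, A ≤ normalizer ((L' ⊔ s.sup S₀ : Subgroup G) : Set G) ∧
      (L' ⊔ s.sup S₀) ⊓ centralizer (A : Set G) ≤ T := by
    intro s
    induction s using Finset.induction with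
    | empty => rw [Finset.sup_empty, sup_bot_eq]; exact ⟨hAL', le_sup_right⟩
    | insert B s hBs ihs =>
      rw [Finset.sup_insert, sup_left_comm]
      have hle : L' ⊔ s.sup S₀ ≤ L := sup_le hL'L (Finset.sup_le fun B _ => hS₀L B)
      refine ⟨fun a ha => Subgroup.mem_normalizer_iff_map_conj_eq.mpr (by
        rw [Subgroup.map_sup, Subgroup.mem_normalizer_iff_map_conj_eq.mp (hA0 B ha),
          Subgroup.mem_normalizer_iff_map_conj_eq.mp (ihs.1 ha)]), fun c hc => ?_⟩
      obtain ⟨x, hx, y, hy, rfl⟩ := mem_sup_of_le_normalizer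
        (hle.trans (hLn _ (le_trans le_sup_right le_sup_left) (hS₀L B))) hc.1
      obtain ⟨x', hx', y', hy', e⟩ := coprime_factorisation (hcopY L hLY) (Or.inl hsol) (hS₀L B) (hA0 B) ihs.1 hx hy hc.2
      rw [e]
      exact T.mul_mem (one B hx') (ihs.2 hy')
  set S := L' ⊔ (Finset.univ : Finset ι).sup S₀ with hS
  obtain ⟨hAS, hST⟩ := fin Finset.univ
  have hSL : S ≤ L := sup_le hL'L (Finset.sup_le fun B _ => hS₀L B)
  have hS₀S : ∀ B, S₀ B ≤ S := fun B => le_trans (Finset.le_sup (Finset.mem_univ B)) le_sup_right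
  have hLS : L ≤ normalizer (S : Set G) := hLn S le_sup_left hSL
  -- `[Y, L] ≤ S`
  have hN : ∀ y ∈ Y, ∀ v ∈ L, y * v * y⁻¹ * v⁻¹ ∈ S := by
    intro y hy
    have hc : ∀ {z : G}, z ∈ Y → ∀ {v : G}, v ∈ L → z * v * z⁻¹ ∈ L := fun {z} hz {v} hv =>
      (Subgroup.mem_normalizer_iff.mp (hYL hz) v).mp hv
    have key : y ∈ Y ∧ ∀ v ∈ L, y * v * y⁻¹ * v⁻¹ ∈ S := by
      refine Subgroup.iSup_induction X (C := fun y => y ∈ Y ∧ ∀ v ∈ L, y * v * y⁻¹ * v⁻¹ ∈ S) (hYX hy)
        (fun B x hx => ⟨(hXC B hx).1, fun v hv => ?_⟩) ⟨Y.one_mem, fun v _ => by simp⟩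
        (fun a b ha hb => ⟨Y.mul_mem ha.1 hb.1, fun v hv => ?_⟩)
      · obtain ⟨u, hu, e, he, rfl⟩ := coprime_decomp (B.2.1.trans hAL)
          ((hcopY L hLY).coprime_dvd_left (card_dvd_of_le B.2.1)) (Or.inl (Group.isSolvable_of_isSolvable_injective
            (f := Subgroup.inclusion B.2.1) (Subgroup.inclusion_injective _))) hv
        have hxC := (hXC B hx)
        have h1 : x * u * x⁻¹ ∈ ⁅L, (B.1 : Subgroup G)⁆ := by
          have hx' : x ∈ normalizer ((⁅L, (B.1 : Subgroup G)⁆ : Subgroup G) : Set G) := by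
            refine Subgroup.mem_normalizer_iff_map_conj_eq.mpr ?_
            rw [Subgroup.map_commutator, Subgroup.mem_normalizer_iff_map_conj_eq.mp (hYL hxC.1),
              Subgroup.mem_normalizer_iff_map_conj_eq.mp (centralizer_le_normalizer _ hxC.2)]
          exact (Subgroup.mem_normalizer_iff.mp hx' u).mp hu
        have h2 : x * e * x⁻¹ * e⁻¹ ∈ L ⊓ X B := ⟨L.mul_mem (hc hxC.1 he.1) (L.inv_mem he.1), by
          have := (Subgroup.mem_normalizer_iff.mp (left_le_normalizer_commutator A _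
            (show e ∈ Y ⊓ centralizer ((B.1 : Subgroup G) : Set G) from ⟨hLY he.1, he.2⟩)) x⁻¹).mp ((X B).inv_mem hx)
          simpa [mul_assoc] using (X B).mul_mem hx this⟩
        rw [show x * (u * e) * x⁻¹ * (u * e)⁻¹ = (x * u * x⁻¹) * (x * e * x⁻¹ * e⁻¹) * u⁻¹ by group]
        exact S.mul_mem (S.mul_mem (hS₀S B (mem_sup_left (mem_sup_left h1))) (hS₀S B (mem_sup_right h2)))
          (S.inv_mem (hS₀S B (mem_sup_left (mem_sup_left hu))))
      · rw [show a * b * v * (a * b)⁻¹ * v⁻¹ =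
          (a * (b * v * b⁻¹) * a⁻¹ * (b * v * b⁻¹)⁻¹) * (b * v * b⁻¹ * v⁻¹) by group]
        exact S.mul_mem (ha.2 _ (hc hb.1 hv)) (hb.2 v hv)
    exact key.2
  have hYS : Y ≤ normalizer (S : Set G) := le_normalizer_of_conj_mem fun y hy s hs => by
    simpa using S.mul_mem (hN y hy s (hSL hs)) hs
  rcases i with _ | i
  · -- `L = Y' ≤ S`
    refine le_trans (inf_le_inf_right _ ?_) hST
    show L ≤ S
    have hconj : ∀ {y : G}, y ∈ Y → ∀ {s : G}, s ∈ S → y * s * y⁻¹ ∈ S := fun {y} hy {s} hs =>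
      (Subgroup.mem_normalizer_iff.mp (hYS hy) s).mp hs
    refine Subgroup.commutator_le.mpr fun y hy z hz => ?_
    have key : y ∈ Y ∧ ∀ z ∈ Y, ⁅y, z⁆ ∈ S := by
      refine Subgroup.iSup_induction X (C := fun y => y ∈ Y ∧ ∀ z ∈ Y, ⁅y, z⁆ ∈ S) (hYX hy)
        (fun B x hx => ⟨(hXC B hx).1, fun z hz => ?_⟩) ⟨Y.one_mem, fun z _ => by simp⟩
        (fun a b ha hb => ⟨Y.mul_mem ha.1 hb.1, fun z hz => ?_⟩)
      · have hxC := hXC B hx
        have hxL : ∀ {w : G}, w ∈ Y → ⁅x, w⁆ ∈ L := fun {w} hw => commutator_mem_commutator hxC.1 hw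
        have hu : ∀ w ∈ ⁅Y, (B.1 : Subgroup G)⁆, w ∈ Y ∧ ⁅x, w⁆ ∈ S := by
          intro w hw
          rw [Subgroup.commutator_def] at hw
          induction hw using Subgroup.closure_induction with
          | mem w hw =>
            obtain ⟨t, ht, b, hb, rfl⟩ := hw
            refine ⟨(commutator_le_of_le_normalizer (B.2.1.trans hAY)) (commutator_mem_commutator ht hb), ?_⟩
            set q' := t⁻¹ * (⁅x, t⁆)⁻¹ * t with hq'
            have hq'L : q' ∈ L := by
              simpa [hq'] using (Subgroup.mem_normalizer_iff.mp (hYL (Y.inv_mem ht)) _).mp (L.inv_mem (hxL ht))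
            have hbq : b * q' * b⁻¹ * q'⁻¹ ∈ S := by
              have := S.inv_mem (hS₀S B (mem_sup_left (mem_sup_left (commutator_mem_commutator hq'L hb))))
              simpa [commutatorElement_def, mul_assoc] using this
            have hbx : b * x = x * b := hxC.2 b hb
            have hbx' : b * x⁻¹ = x⁻¹ * b := ((show Commute b x from hbx).inv_right).eq
            have e : ⁅x, ⁅t, b⁆⁆ = ⁅x, t⁆ * (t * (b * q' * b⁻¹ * q'⁻¹) * t⁻¹) * ⁅x, t⁆⁻¹ := by
              simp only [hq', commutatorElement_def]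
              calc x * (t * b * t⁻¹ * b⁻¹) * x⁻¹ * (t * b * t⁻¹ * b⁻¹)⁻¹
                  = x * t * b * t⁻¹ * (b⁻¹ * x⁻¹) * b * t * b⁻¹ * t⁻¹ := by group
                _ = x * t * b * t⁻¹ * (x⁻¹ * b⁻¹) * b * t * b⁻¹ * t⁻¹ := by
                    rw [show b⁻¹ * x⁻¹ = x⁻¹ * b⁻¹ by rw [← mul_inv_rev, ← mul_inv_rev, hbx]]
                _ = x * t * (x⁻¹ * (x * b)) * t⁻¹ * x⁻¹ * t * b⁻¹ * t⁻¹ := by group
                _ = x * t * (x⁻¹ * (b * x)) * t⁻¹ * x⁻¹ * t * b⁻¹ * t⁻¹ := by rw [hbx]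
                _ = _ := by group
            rw [e]
            exact (Subgroup.mem_normalizer_iff.mp (hLS (hxL ht)) _).mp (hconj ht hbq)
          | one => exact ⟨Y.one_mem, by simp⟩
          | mul p q _ _ hp hq =>
            refine ⟨Y.mul_mem hp.1 hq.1, ?_⟩
            rw [show ⁅x, p * q⁆ = ⁅x, p⁆ * (p * ⁅x, q⁆ * p⁻¹) by simp only [commutatorElement_def]; group]
            exact S.mul_mem hp.2 (hconj hp.1 hq.2)
          | inv p _ hp =>
            refine ⟨Y.inv_mem hp.1, ?_⟩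
            rw [show ⁅x, p⁻¹⁆ = p⁻¹ * ⁅x, p⁆⁻¹ * p⁻¹⁻¹ by simp only [commutatorElement_def]; group]
            exact hconj (Y.inv_mem hp.1) (S.inv_mem hp.2)
        obtain ⟨u, huu, e, he, rfl⟩ := coprime_decomp (B.2.1.trans hAY) (hcop.coprime_dvd_left (card_dvd_of_le B.2.1))
          (Or.inl (Group.isSolvable_of_isSolvable_injective
            (f := Subgroup.inclusion B.2.1) (Subgroup.inclusion_injective _))) hz
        obtain ⟨huY, huS⟩ := hu u huu
        rw [show ⁅x, u * e⁆ = ⁅x, u⁆ * (u * ⁅x, e⁆ * u⁻¹) by simp only [commutatorElement_def]; group]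
        refine S.mul_mem huS (hconj huY (hS₀S B (mem_sup_right ⟨hxL he.1, ?_⟩)))
        have := (Subgroup.mem_normalizer_iff.mp (left_le_normalizer_commutator A _
          (show e ∈ Y ⊓ centralizer ((B.1 : Subgroup G) : Set G) from he)) x⁻¹).mp ((X B).inv_mem hx)
        simpa [commutatorElement_def, mul_assoc] using (X B).mul_mem hx this
      · rw [show ⁅a * b, z⁆ = a * ⁅b, z⁆ * a⁻¹ * ⁅a, z⁆ by simp only [commutatorElement_def]; group]
        exact S.mul_mem (hconj ha.1 (hb.2 z hz)) (ha.2 z hz)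
    exact key.2 z hz
  -- `M < Y`
  have hMY : M < Y := by
    refine lt_of_le_of_ne (derSer_le Y _) fun e => ?_
    have hanti : ∀ m, derSer Y (m + 1) ≤ derSer Y 1 := fun m => by
      induction m with
      | zero => exact le_rfl
      | succ m hm => exact (derSer_succ_le Y (m + 1)).trans hm
    have h1 : derSer Y 1 = Y := le_antisymm (derSer_le Y 1) (e.ge.trans (hanti i))
    have hall : ∀ m, derSer Y m = Y := fun m => by
      induction m with
      | zero => rfl
      | succ m hm => rw [derSer, hm]; exact h1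
    have hb : Y = ⊥ := by rw [← hbot, hall k]
    have h2 : derSer Y (i + 1) = ⊥ := by rw [hall (i + 1), hb]
    exact hYne hb
  have hAM : A ≤ normalizer (M : Set G) := normalizes_derSer hAY _
  have hMY' : M ≤ Y := hMY.le
  have hLM : L ≤ M := derSer_succ_le Y _
  set R := ⁅M, A⁆ ⊔ (J ⊓ M) with hR
  have hRM : R ≤ M := sup_le (commutator_le_of_le_normalizer hAM) inf_le_right
  have hAR : A ≤ normalizer (R : Set G) := fun a ha => Subgroup.mem_normalizer_iff_map_conj_eq.mpr (by
    rw [Subgroup.map_sup, Subgroup.mem_normalizer_iff_map_conj_eq.mp (right_le_normalizer_commutator A M ha),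
      Subgroup.mem_normalizer_iff_map_conj_eq.mp (le_normalizer_inf'
        (show A ≤ normalizer (J : Set G) from le_normalizer_of_conj_mem fun a ha j hj => by
          rw [hJC hj a ha, mul_inv_cancel_right]; exact hj) hAM ha)])
  have hRS : R ≤ normalizer (S : Set G) := (hRM.trans hMY').trans hYS
  have hRL : R ≤ normalizer (L : Set G) := (hRM.trans hMY').trans hYL
  have hMRL : M ≤ L ⊔ R := by
    intro m hm
    obtain ⟨x, hx, c, hc, rfl⟩ := coprime_decomp hAM (hcopY M hMY') (Or.inl hsol) hm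
    refine mul_mem (mem_sup_right (mem_sup_left hx)) ?_
    have hJn : J ≤ normalizer ((L ⊓ centralizer (A : Set G) : Subgroup G) : Set G) := by
      refine le_normalizer_inf' (hJY.trans hYL) (hJC.trans Subgroup.le_normalizer)
    have hc' : c ∈ (L ⊓ centralizer (A : Set G)) ⊔ J := by
      rw [sup_comm]; exact hi ⟨hMY' hc.1, hc.2⟩
    obtain ⟨l, hl, j, hj, rfl⟩ := mem_sup_of_le_normalizer hJn hc'
    refine mul_mem (mem_sup_left hl.1) (mem_sup_right (mem_sup_right ⟨hj, ?_⟩))
    simpa using M.mul_mem (M.inv_mem (hLM hl.1)) hc.1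
  have hLc : ∀ l ∈ L, ∀ w ∈ S ⊔ R, l * w * l⁻¹ ∈ S ⊔ R := by
    intro l hl w hw
    have hwY : w ∈ Y := (sup_le (hSL.trans hLY) (hRM.trans hMY')) hw
    have h1 := S.inv_mem (hN w hwY l hl)
    rw [show l * w * l⁻¹ = (w * l * w⁻¹ * l⁻¹)⁻¹ * w by group]
    exact mul_mem (mem_sup_left h1) hw
  have hLRS : L ≤ S ⊔ R := by
    refine Subgroup.commutator_le.mpr fun m hm m' hm' => ?_
    obtain ⟨l, hl, r, hr, rfl⟩ := mem_sup_of_le_normalizer hRL (hMRL hm)
    obtain ⟨l', hl', r', hr', rfl⟩ := mem_sup_of_le_normalizer hRL (hMRL hm')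
    rw [show ⁅l * r, l' * r'⁆ = l * (⁅r, l'⁆ * (l' * ⁅r, r'⁆ * l'⁻¹)) * l⁻¹ * ⁅l, l' * r'⁆ by
      simp only [commutatorElement_def]; group]
    refine mul_mem (hLc l hl _ (mul_mem (mem_sup_left ?_) (hLc l' hl' _ (mem_sup_right ?_)))) (mem_sup_left ?_)
    · rw [commutatorElement_def]; exact hN r (hMY' (hRM hr)) l' hl'
    · rw [commutatorElement_def]; exact R.mul_mem (R.mul_mem (R.mul_mem hr hr') (R.inv_mem hr)) (R.inv_mem hr')
    · have := S.inv_mem (hN (l' * r') (hMY' hm') l hl)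
      simpa [commutatorElement_def, mul_assoc] using this
  intro c hc
  obtain ⟨s, hs, r, hr, rfl⟩ := mem_sup_of_le_normalizer hRS (hLRS hc.1)
  obtain ⟨s', hs', r', hr', e⟩ := coprime_factorisation (hcopY L hLY) (Or.inl hsol) hSL hAS hAR hs hr hc.2
  rw [e]
  refine T.mul_mem (hST hs') (mem_sup_left ?_)
  obtain ⟨x, hx, y, hy, rfl⟩ := mem_sup_of_le_normalizer (inf_le_right.trans (left_le_normalizer_commutator A M)) hr'.1
  have hxC : x ∈ centralizer (A : Set G) := by
    simpa using (centralizer (A : Set G)).mul_mem hr'.2 ((centralizer (A : Set G)).inv_mem (hJC hy.1))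
  have hM₁ : ⁅M, A⁆ ≤ M := commutator_le_of_le_normalizer hAM
  haveI := hYs
  refine J.mul_mem (fixGen_mono (hM₁.trans hMY') ?_) hy.1
  refine ih _ (lt_of_le_of_lt (Subgroup.card_le_of_le hM₁) (Set.Finite.card_lt_card (Set.toFinite _) hMY)) _ rfl
    (Group.isSolvable_of_isSolvable_injective (f := Subgroup.inclusion (hM₁.trans hMY')) (Subgroup.inclusion_injective _))
    (right_le_normalizer_commutator A M) (hcopY _ (hM₁.trans hMY'))
    (coprime_commutator_commutator hAM (hcopY M hMY') (Or.inl hsol)) ⟨hx, hxC⟩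

end CfsgLib.AfterFT
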