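import Cfsg.Agent.Lib.SuzukiTwo.Order
import Cfsg.Agent.Lib.PComplement
import Cfsg.Agent.Lib.Elementary
import Mathlib.RingTheory.LittleWedderburn

/-!
A perfect group of automorphisms of a 2-group fixing every involution is trivial, given that groups of odd order
are solvable.  The core is that an anisotropic quadratic map invariant under an irreducible perfect linear group
over the field of two elements does not exist (Chevalley-Warning).
-/

set_option autoImplicit false
set_option linter.unusedSectionVars false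
set_option linter.style.haveILetI false

namespace CfsgLib.AfterFT.FixInvolutions

open Subgroup

universe u v

/-- A homomorphic image of a perfect group in a solvable group is trivial. -/
theorem hom_eq_one {A : Type u} {H : Type v} [Group A] [Group H] (hA : commutator A = ⊤) (hH : Group.IsSolvable H)
    (f : A →* H) : f = 1 := by
  have h : ∀ n, f.range ≤ derivedSeries H n := by
    intro n
    induction n with
    | zero => simp
    | succ n ih =>
      rw [derivedSeries_succ, MonoidHom.range_eq_map]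
      conv_lhs => rw [← hA, _root_.commutator_def, Subgroup.map_commutator]
      exact Subgroup.commutator_mono ((MonoidHom.range_eq_map f).ge.trans ih)
        ((MonoidHom.range_eq_map f).ge.trans ih)
  obtain ⟨n, hn⟩ := hH
  refine MonoidHom.ext fun a => ?_
  have h1 := h n ⟨a, rfl⟩
  rw [hn] at h1
  simpa using h1

section Core

variable {V T : Type u} [AddCommGroup V] [AddCommGroup T] [Finite V] [Finite T]
  {A : Type v} [Group A] [Finite A]

theorem card_dual (hT2 : ∀ x : T, x + x = 0) : Nat.card (T →+ ZMod 2) = Nat.card T := by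
  haveI : Fact (Nat.Prime 2) := ⟨Nat.prime_two⟩
  letI : Module (ZMod 2) T := AddCommGroup.zmodModule (n := 2) fun x => by rw [two_nsmul, hT2]
  haveI : Module.Finite (ZMod 2) T := Module.Finite.of_finite
  have e : (T →+ ZMod 2) ≃ Module.Dual (ZMod 2) T :=
    { toFun := fun f => f.toZModLinearMap 2
      invFun := fun f => f.toAddMonoidHom
      left_inv := fun f => rfl
      right_inv := fun f => rfl }
  rw [Nat.card_congr e, Module.natCard_eq_pow_finrank (K := ZMod 2) (V := Module.Dual (ZMod 2) T),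
    Module.natCard_eq_pow_finrank (K := ZMod 2) (V := T), Subspace.dual_finrank_eq]

/-- An invariant anisotropic quadratic map forces the square of the target to have at least the size of the
source. -/
theorem card_le_sq (hV2 : ∀ x : V, x + x = 0) (hT2 : ∀ x : T, x + x = 0) (q : V → T) (B : V →+ V →+ T)
    (hq : ∀ x y, q (x + y) = q x + q y + B x y) (hdiag : ∀ x, B x x = 0) (haniso : ∀ x, q x = 0 → x = 0) :
    Nat.card V ≤ Nat.card T ^ 2 := by
  haveI : Fact (Nat.Prime 2) := ⟨Nat.prime_two⟩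
  letI : Module (ZMod 2) T := AddCommGroup.zmodModule (n := 2) fun x => by rw [two_nsmul, hT2]
  letI : Module (ZMod 2) V := AddCommGroup.zmodModule (n := 2) fun x => by rw [two_nsmul, hV2]
  haveI : Module.Finite (ZMod 2) T := Module.Finite.of_finite
  haveI : Module.Finite (ZMod 2) V := Module.Finite.of_finite
  by_contra hlt
  rw [Module.natCard_eq_pow_finrank (K := ZMod 2) (V := V), Module.natCard_eq_pow_finrank (K := ZMod 2) (V := T),
    Nat.card_zmod, ← pow_mul, not_le, Nat.pow_lt_pow_iff_right (by norm_num), mul_comm] at hlt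
  obtain ⟨x, hx, hx0⟩ := CfsgLib.SuzukiTwo.exists_zero_of_lt q B hq hdiag hlt
  exact hx (haniso x hx0)

/-- No perfect group acts irreducibly and non-trivially preserving an anisotropic quadratic map to a module
with trivial action. -/
theorem core (odd : ∀ (H : Type u) [Group H] [Finite H], Odd (Nat.card H) → Group.IsSolvable H)
    (hA : commutator A = ⊤) (hV2 : ∀ x : V, x + x = 0) (hT2 : ∀ x : T, x + x = 0)
    (ρ : A →* AddMonoid.End V)
    (hirr : ∀ U : AddSubgroup V, (∀ a, ∀ x ∈ U, ρ a x ∈ U) → U = ⊥ ∨ U = ⊤) (hne : ∃ a, ρ a ≠ 1)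
    (q : V → T) (B : V →+ V →+ T) (hq : ∀ x y, q (x + y) = q x + q y + B x y) (hdiag : ∀ x, B x x = 0)
    (hinv : ∀ a x, q (ρ a x) = q x) (haniso : ∀ x, q x = 0 → x = 0)
    (hspan : AddSubgroup.closure (Set.range q) = ⊤) : False := by
  classical
  haveI : Fact (Nat.Prime 2) := ⟨Nat.prime_two⟩
  haveI : Finite (AddMonoid.End V) := Finite.of_injective (fun φ : AddMonoid.End V => (φ : V → V)) DFunLike.coe_injective
  have hz : ∀ M : AddMonoid.End V, M + M = 0 := fun M => DFunLike.ext _ _ fun x => hV2 (M x)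
  have hmul : ∀ (M M' : AddMonoid.End V) (x : V), (M * M') x = M (M' x) := fun _ _ _ => rfl
  have hadd : ∀ (M M' : AddMonoid.End V) (x : V), (M + M') x = M x + M' x := fun _ _ _ => rfl
  have hone : ∀ x : V, (1 : AddMonoid.End V) x = x := fun _ => rfl
  -- the commutant
  let D : Subring (AddMonoid.End V) := Subring.centralizer (Set.range ρ)
  have hD : ∀ d ∈ D, ∀ a x, d (ρ a x) = ρ a (d x) := fun d hd a x => by
    rw [← hmul, ← hmul, Subring.mem_centralizer_iff.mp hd _ ⟨a, rfl⟩]
  have hDinj : ∀ d ∈ D, ∀ x, x ≠ 0 → d x = 0 → d = 0 := by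
    intro d hd x hx h0
    rcases hirr (AddMonoidHom.ker (d : V →+ V)) (fun a y hy => by
      show d (ρ a y) = 0
      rw [hD d hd, show d y = 0 from hy, map_zero]) with h | h
    · exact absurd ((AddSubgroup.mem_bot).mp (h ▸ (h0 : x ∈ AddMonoidHom.ker (d : V →+ V)))) hx
    · exact DFunLike.ext _ _ fun y => (show y ∈ AddMonoidHom.ker (d : V →+ V) from h ▸ AddSubgroup.mem_top y)
  obtain ⟨a₀, ha₀⟩ := hne
  obtain ⟨x₁, hx₁⟩ : ∃ x : V, x ≠ 0 := by
    by_contra h
    push Not at h
    exact ha₀ (DFunLike.ext _ _ fun x => by rw [h (ρ a₀ x), hone, h x])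
  haveI : Nontrivial D := ⟨⟨0, 1, fun e => hx₁ (by
    have := DFunLike.congr_fun (congrArg Subtype.val e) x₁
    exact this.symm)⟩⟩
  haveI : NoZeroDivisors D := by
    refine ⟨fun {d e} hde => ?_⟩
    by_cases hy : (e : AddMonoid.End V) x₁ = 0
    · exact Or.inr (Subtype.ext (hDinj _ e.2 x₁ hx₁ hy))
    · refine Or.inl (Subtype.ext (hDinj _ d.2 _ hy ?_))
      have h := DFunLike.congr_fun (congrArg Subtype.val hde) x₁
      exact h
  haveI : IsDomain D := NoZeroDivisors.to_isDomain D
  have hcomm : ∀ d e : D, d * e = e * d := fun d e => (Finite.isDomain_to_isField D).mul_comm d e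
  have hDcomm : ∀ d ∈ D, ∀ e ∈ D, ∀ x, d (e x) = e (d x) := fun d hd e he x =>
    DFunLike.congr_fun (congrArg Subtype.val (hcomm ⟨d, hd⟩ ⟨e, he⟩)) x
  have hD2 : 2 ≤ Nat.card D := Finite.one_lt_card
  -- the forms
  have hB : ∀ a x y, B (ρ a x) (ρ a y) = B x y := by
    intro a x y
    have h1 := hinv a (x + y)
    rw [map_add, hq, hq, hinv, hinv] at h1
    exact add_left_cancel h1
  have hsymm : ∀ x y, B x y = B y x := by
    intro x y
    have h := hdiag (x + y)
    rw [map_add, map_add, AddMonoidHom.add_apply, AddMonoidHom.add_apply, hdiag, hdiag, zero_add, add_zero] at h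
    calc B x y = B x y + (B y x + B x y) := by rw [h, add_zero]
      _ = B y x + (B x y + B x y) := by abel
      _ = B y x := by rw [hT2, add_zero]
  have hlamne : ∀ lam : T →+ ZMod 2, lam ≠ 0 → ∀ x, (∀ y, lam (B x y) = 0) → x = 0 := by
    intro lam hlam
    let R : AddSubgroup V :=
      { carrier := {x | ∀ y, lam (B x y) = 0}
        zero_mem' := fun y => by simp
        add_mem' := fun {a b} ha hb y => by rw [map_add, AddMonoidHom.add_apply, map_add, ha, hb, add_zero]
        neg_mem' := fun {a} ha y => by rw [map_neg, AddMonoidHom.neg_apply, map_neg, ha, neg_zero] }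
    rcases hirr R (fun a x hx y => by
      have e : ρ a (ρ a⁻¹ y) = y := by rw [← hmul, ← map_mul, mul_inv_cancel, map_one, hone]
      rw [← e, hB]; exact hx _) with h | h
    · intro x hx
      exact (AddSubgroup.mem_bot).mp (h ▸ (hx : x ∈ R))
    · exfalso
      have hl : ∀ x y, lam (B x y) = 0 := fun x => (show x ∈ R from h ▸ AddSubgroup.mem_top x)
      let L : AddSubgroup V :=
        { carrier := {x | lam (q x) = 0}
          zero_mem' := by
            show lam (q 0) = 0
            have h0 := hq 0 0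
            rw [hdiag, add_zero, add_zero] at h0
            rw [add_eq_left.mp h0.symm, map_zero]
          add_mem' := fun {a b} ha hb => by
            show lam (q (a + b)) = 0
            rw [hq, map_add, map_add, ha, hb, hl, add_zero, add_zero]
          neg_mem' := fun {a} ha => by
            show lam (q (-a)) = 0
            rw [show -a = a from neg_eq_of_add_eq_zero_left (hV2 a)]
            exact ha }
      have hL : L = ⊤ := by
        refine (hirr L fun a x hx => by
          show lam (q (ρ a x)) = 0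
          rw [hinv]; exact hx).resolve_left fun hb => ?_
        refine ha₀ (DFunLike.ext _ _ fun x => ?_)
        have hm : ρ a₀ x + x ∈ L := by
          show lam (q (ρ a₀ x + x)) = 0
          rw [hq, map_add, map_add, hinv, hl, add_zero, ← map_add, hT2, map_zero]
        rw [hb, AddSubgroup.mem_bot] at hm
        rw [hone]
        exact (add_eq_zero_iff_eq_neg.mp hm).trans (neg_eq_of_add_eq_zero_left (hV2 x))
      refine hlam (DFunLike.ext _ _ fun t => ?_)
      have ht : t ∈ AddSubgroup.closure (Set.range q) := hspan ▸ AddSubgroup.mem_top t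
      have hle : AddSubgroup.closure (Set.range q) ≤ lam.ker :=
        (AddSubgroup.closure_le _).mpr (by rintro _ ⟨x, rfl⟩; exact (show x ∈ L from hL ▸ AddSubgroup.mem_top x))
      exact hle ht
  obtain ⟨t₀, ht₀⟩ : ∃ t : T, t ≠ 0 := ⟨q x₁, fun h => hx₁ (haniso _ h)⟩
  have hdualcard := card_dual hT2
  obtain ⟨lam₀, hlam₀⟩ : ∃ lam : T →+ ZMod 2, lam ≠ 0 := by
    haveI : Finite (T →+ ZMod 2) := Finite.of_injective (fun f => (f : T → ZMod 2)) DFunLike.coe_injective
    haveI : Nontrivial (T →+ ZMod 2) := Finite.one_lt_card_iff_nontrivial.mp (by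
      rw [hdualcard]; exact Finite.one_lt_card_iff_nontrivial.mpr ⟨⟨t₀, 0, ht₀⟩⟩)
    exact exists_ne 0
  haveI : Finite (V →+ ZMod 2) := Finite.of_injective (fun f => (f : V → ZMod 2)) DFunLike.coe_injective
  let β : V →+ (V →+ ZMod 2) := (AddMonoidHom.compHom lam₀).comp B
  have hβ : ∀ x y, β x y = lam₀ (B x y) := fun _ _ => rfl
  have hβinj : Function.Injective β := (injective_iff_map_eq_zero β).mpr fun x hx =>
    hlamne lam₀ hlam₀ x fun y => (hβ x y).symm.trans (DFunLike.congr_fun hx y)
  have hβbij : Function.Bijective β :=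
    (Nat.bijective_iff_injective_and_card β).mpr ⟨hβinj, (card_dual hV2).symm⟩
  let e := AddEquiv.ofBijective β hβbij
  let φ : (T →+ ZMod 2) → AddMonoid.End V := fun lam =>
    e.symm.toAddMonoidHom.comp ((AddMonoidHom.compHom lam).comp B)
  have hφ : ∀ lam x y, lam₀ (B (φ lam x) y) = lam (B x y) := fun lam x y => by
    rw [← hβ]
    show (β (e.symm _)) y = _
    rw [show β (e.symm (((AddMonoidHom.compHom lam).comp B) x)) = ((AddMonoidHom.compHom lam).comp B) x from
      e.apply_symm_apply _]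
    rfl
  have hφD : ∀ lam, φ lam ∈ D := by
    intro lam
    refine Subring.mem_centralizer_iff.mpr ?_
    rintro _ ⟨a, rfl⟩
    refine DFunLike.ext _ _ fun x => hβinj (DFunLike.ext _ _ fun y => ?_)
    rw [hmul, hmul, hβ, hβ, hφ]
    have e' : ρ a (ρ a⁻¹ y) = y := by rw [← hmul, ← map_mul, mul_inv_cancel, map_one, hone]
    rw [← e', hB, hB, hφ]
  let Φ : (T →+ ZMod 2) → D := fun lam => ⟨φ lam, hφD lam⟩
  have hΦinj : Function.Injective Φ := by
    intro l l' h
    have h' : φ l = φ l' := congrArg Subtype.val h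
    by_contra hne'
    refine hx₁ (hlamne (l - l') (sub_ne_zero.mpr hne') x₁ fun y => ?_)
    rw [AddMonoidHom.sub_apply, ← hφ l, ← hφ l', h', sub_self]
  have hTD : Nat.card T ≤ Nat.card D := hdualcard ▸ Nat.card_le_card_of_injective Φ hΦinj
  have hVD : Nat.card V ≤ Nat.card D ^ 2 :=
    (card_le_sq hV2 hT2 q B hq hdiag haniso).trans (Nat.pow_le_pow_left hTD 2)
  -- kernels of commuting endomorphisms grow by a factor of the commutant
  have step : ∀ (M : AddMonoid.End V), (∀ d ∈ D, ∀ x, d (M x) = M (d x)) →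
      ∀ (U : AddSubgroup V), (AddMonoidHom.ker (M : V →+ V)) ≤ U → (∀ d ∈ D, ∀ x ∈ U, d x ∈ U) →
        ∀ v ∈ U, M v ≠ 0 → Nat.card D * Nat.card (AddMonoidHom.ker (M : V →+ V)) ≤ Nat.card U := by
    intro M hM U hle hU v hv hMv
    rw [← Nat.card_prod]
    refine Nat.card_le_card_of_injective (fun p : D × AddMonoidHom.ker (M : V →+ V) =>
      (⟨(p.1 : AddMonoid.End V) v + p.2.1, add_mem (hU _ p.1.2 v hv) (hle p.2.2)⟩ : U)) ?_
    rintro ⟨d, x⟩ ⟨d', x'⟩ he
    have he' : (d : AddMonoid.End V) v + x.1 = (d' : AddMonoid.End V) v + x'.1 := congrArg Subtype.val he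
    have hd : d = d' := by
      refine sub_eq_zero.mp (Subtype.ext (hDinj _ (d - d').2 (M v) hMv ?_))
      rw [hM _ (d - d').2]
      have hsub : ((d - d' : D) : AddMonoid.End V) v = x'.1 - x.1 := by
        show (d : AddMonoid.End V) v - (d' : AddMonoid.End V) v = _
        rw [sub_eq_sub_iff_add_eq_add, he', add_comm]
      rw [hsub, map_sub, show M x'.1 = 0 from x'.2, show M x.1 = 0 from x.2, sub_zero]
    subst hd
    exact Prod.ext rfl (Subtype.ext (add_left_cancel he'))
  -- the image group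
  let I : Subgroup (AddMonoid.End V)ˣ := ρ.toHomUnits.range
  haveI : Finite I := Finite.of_surjective _ ρ.toHomUnits.rangeRestrict_surjective
  have hIp : _root_.commutator I = ⊤ := by
    have h := congrArg (Subgroup.map ρ.toHomUnits.rangeRestrict) hA
    rw [_root_.commutator_def, Subgroup.map_commutator,
      Subgroup.map_top_of_surjective _ ρ.toHomUnits.rangeRestrict_surjective] at h
    rw [_root_.commutator_def]; exact h
  let el : I → AddMonoid.End V := fun g => ((g : (AddMonoid.End V)ˣ) : AddMonoid.End V)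
  have hImem : ∀ g : I, ∀ d ∈ D, ∀ x, d (el g x) = el g (d x) := by
    rintro ⟨_, a, rfl⟩ d hd x
    exact hD d hd a x
  have hIq : ∀ g : I, ∀ x, q (el g x) = q x := by
    rintro ⟨_, a, rfl⟩ x
    exact hinv a x
  have hIne : ¬ Odd (Nat.card I) := by
    intro ho
    haveI := odd I ho
    have h1 := hom_eq_one hA (inferInstance : Group.IsSolvable I) ρ.toHomUnits.rangeRestrict
    exact ha₀ (congrArg (fun g : I => el g) (DFunLike.congr_fun h1 a₀))
  -- involutions
  have data : ∀ g : I, g ≠ 1 → g * g = 1 → ∀ N : AddMonoid.End V, N = el g + 1 →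
      (∀ d ∈ D, ∀ x, d (N x) = N (d x)) ∧ (∀ x, N (N x) = 0) ∧ ∃ v, N v ≠ 0 ∧
        (∀ l, N l = 0 → ∃ d ∈ D, d (N v) = l) ∧ (∀ w, ∃ d ∈ D, ∃ l, N l = 0 ∧ w = d v + l) ∧
        Nat.card (AddMonoidHom.ker (N : V →+ V)) = Nat.card D ∧ Nat.card T = Nat.card D := by
    intro g hg1 hg2 N hN
    have hgg : ∀ x, el g (el g x) = x := fun x => by
      rw [← hmul, ← Units.val_mul, ← Subgroup.coe_mul, hg2]; rfl
    have hND : ∀ d ∈ D, ∀ x, d (N x) = N (d x) := fun d hd x => by
      rw [hN, hadd, hadd, hone, hone, map_add, hImem g d hd]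
    have hNN : ∀ x, N (N x) = 0 := fun x => by
      rw [hN, hadd, hadd, hone, hone, map_add, hgg]
      calc x + el g x + (el g x + x)
          = (x + x) + (el g x + el g x) := by abel
        _ = 0 := by rw [hV2, hV2, add_zero]
    obtain ⟨v, hv⟩ : ∃ v, N v ≠ 0 := by
      by_contra h
      push Not at h
      refine hg1 (Subtype.ext (Units.ext (DFunLike.ext _ _ fun x => ?_)))
      have h2 := h x
      rw [hN, hadd, hone] at h2
      exact (add_eq_zero_iff_eq_neg.mp h2).trans (neg_eq_of_add_eq_zero_left (hV2 x))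
    have h1 : Nat.card D ≤ Nat.card (AddMonoidHom.ker (N : V →+ V)) :=
      Nat.card_le_card_of_injective (fun d : D => (⟨(d : AddMonoid.End V) (N v), by
        show N _ = 0
        rw [← hND _ d.2, hNN, map_zero]⟩ : AddMonoidHom.ker (N : V →+ V))) (by
        intro d d' he
        refine sub_eq_zero.mp (Subtype.ext (hDinj _ (d - d').2 (N v) hv ?_))
        show (d : AddMonoid.End V) (N v) - (d' : AddMonoid.End V) (N v) = 0
        exact sub_eq_zero.mpr (congrArg Subtype.val he))
    have h2 := step N hND ⊤ le_top (fun d _ x _ => AddSubgroup.mem_top _) v (AddSubgroup.mem_top v) hv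
    rw [AddSubgroup.card_top] at h2
    have h3 := hVD
    have h4 : Nat.card (AddMonoidHom.ker (N : V →+ V)) = Nat.card D := by
      refine le_antisymm ?_ h1
      by_contra hlt
      push Not at hlt
      have : Nat.card D * Nat.card D < Nat.card D * Nat.card (AddMonoidHom.ker (N : V →+ V)) :=
        Nat.mul_lt_mul_of_pos_left hlt (by omega)
      rw [sq] at h3
      omega
    refine ⟨hND, hNN, v, hv, ?_, ?_, h4, ?_⟩
    · intro l hl
      have hbij : Function.Surjective (fun d : D => (⟨(d : AddMonoid.End V) (N v), by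
          show N _ = 0
          rw [← hND _ d.2, hNN, map_zero]⟩ : AddMonoidHom.ker (N : V →+ V))) := by
        refine ((Nat.bijective_iff_injective_and_card _).mpr ⟨?_, h4.symm⟩).2
        intro d d' he
        refine sub_eq_zero.mp (Subtype.ext (hDinj _ (d - d').2 (N v) hv ?_))
        show (d : AddMonoid.End V) (N v) - (d' : AddMonoid.End V) (N v) = 0
        exact sub_eq_zero.mpr (congrArg Subtype.val he)
      obtain ⟨d, hd⟩ := hbij ⟨l, hl⟩
      exact ⟨d, d.2, congrArg Subtype.val hd⟩
    · intro w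
      have hsur : Function.Surjective (fun p : D × AddMonoidHom.ker (N : V →+ V) =>
          (p.1 : AddMonoid.End V) v + p.2.1) := by
        refine ((Nat.bijective_iff_injective_and_card _).mpr ⟨?_, ?_⟩).2
        · rintro ⟨d, x⟩ ⟨d', x'⟩ he
          have he' : (d : AddMonoid.End V) v + x.1 = (d' : AddMonoid.End V) v + x'.1 := he
          have hd : d = d' := by
            refine sub_eq_zero.mp (Subtype.ext (hDinj _ (d - d').2 (N v) hv ?_))
            rw [hND _ (d - d').2]
            have hsub : ((d - d' : D) : AddMonoid.End V) v = x'.1 - x.1 := by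
              show (d : AddMonoid.End V) v - (d' : AddMonoid.End V) v = _
              rw [sub_eq_sub_iff_add_eq_add, he', add_comm]
            rw [hsub, map_sub, show N x'.1 = 0 from x'.2, show N x.1 = 0 from x.2, sub_zero]
          subst hd
          exact Prod.ext rfl (Subtype.ext (add_left_cancel he'))
        · rw [Nat.card_prod, h4]
          exact le_antisymm (h4 ▸ h2) (sq (Nat.card D) ▸ hVD)
      obtain ⟨⟨d, x⟩, hd⟩ := hsur w
      exact ⟨d, d.2, x.1, x.2, hd.symm⟩
    · refine le_antisymm hTD ?_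
      have h5 : Nat.card D ^ 2 ≤ Nat.card T ^ 2 := by
        refine le_trans ?_ (card_le_sq hV2 hT2 q B hq hdiag haniso)
        rw [sq, ← h4]
        exact h4 ▸ h2
      exact (Nat.pow_le_pow_iff_left two_ne_zero).mp h5
  -- commuting involutions coincide
  have uniq : ∀ g h : I, g ≠ 1 → h ≠ 1 → g * g = 1 → h * h = 1 → g * h = h * g → g = h := by
    intro g h hg1 hh1 hg2 hh2 hgh
    obtain ⟨hND, hNN, v, hv, hLD, hsplit, hcardL, hTeq⟩ := data g hg1 hg2 _ rfl
    obtain ⟨hND', hNN', v', -, -, -, hcardL', -⟩ := data h hh1 hh2 _ rfl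
    set N := el g + 1 with hNdef
    set N' := el h + 1 with hN'def
    have hcom : ∀ x, N' (N x) = N (N' x) := fun x => by
      have e' : ∀ y, el h (el g y) = el g (el h y) :=
        fun y => by rw [← hmul, ← hmul, ← Units.val_mul, ← Units.val_mul, ← Subgroup.coe_mul, ← Subgroup.coe_mul, hgh]
      simp only [hNdef, hN'def, hadd, hone, map_add, e']
      abel
    -- a fixed vector of `h` inside the fixed space of `g`
    obtain ⟨l₀, hl₀, hl₀0, hl₀'⟩ : ∃ l₀, l₀ ≠ 0 ∧ N l₀ = 0 ∧ N' l₀ = 0 := by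
      by_cases h0 : N' (N v) = 0
      · exact ⟨N v, hv, hNN v, h0⟩
      · exact ⟨N' (N v), h0, by rw [← hcom, hNN, map_zero], hNN' _⟩
    obtain ⟨d₀, hd₀, hdl⟩ := hLD l₀ hl₀0
    have hd₀0 : d₀ ≠ 0 := fun e0 => hl₀ (by rw [← hdl, e0]; rfl)
    have hkill : ∀ l, N l = 0 → N' l = 0 := by
      intro l hl
      obtain ⟨d, hd, rfl⟩ := hLD l hl
      by_contra hz
      refine hd₀0 (hDinj d₀ hd₀ _ hz ?_)
      rw [hND' d₀ hd₀, hDcomm d₀ hd₀ d hd, hdl, ← hND' d hd, hl₀', map_zero]
    have hsame : AddMonoidHom.ker (N : V →+ V) = AddMonoidHom.ker (N' : V →+ V) := by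
      refine AddSubgroup.eq_of_le_of_card_ge (fun l hl => hkill l hl) ?_
      rw [hcardL, hcardL']
    have hN'v : N (N' v) = 0 := by
      have : N' v ∈ AddMonoidHom.ker (N' : V →+ V) := hNN' v
      rw [← hsame] at this
      exact this
    obtain ⟨c, hc, hcv⟩ := hLD _ hN'v
    have hprop : ∀ w, N' w = c (N w) := by
      intro w
      obtain ⟨d, hd, l, hl, rfl⟩ := hsplit w
      rw [map_add, map_add, hl, hkill l hl, add_zero, add_zero, ← hND' d hd, ← hcv, ← hND d hd,
        hDcomm d hd c hc]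
    have hNv' : N' v ≠ 0 := by
      intro h0
      refine hh1 (Subtype.ext (Units.ext (DFunLike.ext _ _ fun w => ?_)))
      have hc0 : c = 0 := hDinj c hc _ hv (by rw [hcv, h0])
      have h2 := hprop w
      rw [hc0, hN'def, hadd, hone] at h2
      exact (add_eq_zero_iff_eq_neg.mp h2).trans (neg_eq_of_add_eq_zero_left (hV2 w))
    have hfix : ∀ l, N l = 0 → el g l = l := fun l hl => by
      rw [hNdef, hadd, hone] at hl
      exact (add_eq_zero_iff_eq_neg.mp hl).trans (neg_eq_of_add_eq_zero_left (hV2 l))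
    have hBL : ∀ x l, N l = 0 → B (N x) l = 0 := by
      intro x l hl
      have h1 : B (el g x) (el g l) = B x l := by
        obtain ⟨a, ha⟩ := g.2
        show B (((g : (AddMonoid.End V)ˣ) : AddMonoid.End V) x) (((g : (AddMonoid.End V)ˣ) : AddMonoid.End V) l) = B x l
        rw [← ha]
        exact hB a x l
      rw [hfix l hl] at h1
      rw [hNdef, hadd, hone, map_add, AddMonoidHom.add_apply, h1, hT2]
    have hqN : ∀ (k : I) (M : AddMonoid.End V), M = el k + 1 → ∀ x, q (M x) = B x (M x) := by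
      intro k M hM x
      have hx : el k x = x + M x := by
        rw [hM, hadd, hone, add_comm _ x, ← add_assoc, hV2, zero_add]
      have h1 := hIq k x
      rw [hx, hq, add_assoc] at h1
      have h2 := add_eq_left.mp h1
      calc q (M x) = q (M x) + (B x (M x) + B x (M x)) := by rw [hT2, add_zero]
        _ = (q (M x) + B x (M x)) + B x (M x) := by abel
        _ = _ := by rw [h2, zero_add]
    by_cases hc1 : c + 1 = 0
    · refine Subtype.ext (Units.ext (DFunLike.ext _ _ fun w => ?_))
      have hc' : c = 1 := by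
        calc c = c + (1 + 1) := by rw [hz, add_zero]
          _ = (c + 1) + 1 := (add_assoc _ _ _).symm
          _ = 1 := by rw [hc1, zero_add]
      have h2 := hprop w
      rw [hc', hone, hNdef, hN'def, hadd, hadd, hone] at h2
      exact (add_right_cancel h2).symm
    exfalso
    have hsurj : Function.Surjective Φ := by
      haveI : Finite (T →+ ZMod 2) := Finite.of_injective (fun f => (f : T → ZMod 2)) DFunLike.coe_injective
      exact ((Nat.bijective_iff_injective_and_card Φ).mpr ⟨hΦinj, hdualcard.trans hTeq⟩).2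
    set u := c (N v) with hu
    have hu0 : u ≠ 0 := by rwa [hcv]
    have huL : N u = 0 := by rw [hu, ← hND c hc, hNN, map_zero]
    have hkey : ∀ lam : T →+ ZMod 2, lam₀ (B (φ lam ((c + 1) v)) u) = 0 := by
      intro lam
      have e1 : q u = B v u := by
        have := hqN h N' rfl v
        rwa [← hcv] at this
      have e2 : q u = B (c v) u := by
        have := hqN g N rfl (c v)
        rwa [← hND c hc] at this
      rw [hadd, hone, map_add, map_add, AddMonoidHom.add_apply, map_add, hφ, hφ, ← map_add, ← e1, ← e2, hT2,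
        map_zero]
    refine hu0 (hβinj ?_)
    rw [map_zero]
    refine DFunLike.ext _ _ fun w => ?_
    rw [hβ, hsymm]
    obtain ⟨d, hd, l, hl, rfl⟩ := hsplit w
    rw [map_add, AddMonoidHom.add_apply, map_add]
    have hlu : B l u = 0 := by
      obtain ⟨d', hd', hd'l⟩ := hLD l hl
      rw [← hd'l, hND d' hd']
      exact hBL _ _ huL
    rw [hlu, map_zero, add_zero]
    -- write `d` as a multiple of `c + 1`
    have hc1D : c + 1 ∈ D := add_mem hc (one_mem D)
    obtain ⟨e', he'⟩ : ∃ e' : D, e' * (⟨c + 1, hc1D⟩ : D) = ⟨d, hd⟩ := by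
      have hne' : (⟨c + 1, hc1D⟩ : D) ≠ 0 := fun e0 => hc1 (congrArg Subtype.val e0)
      exact ((Nat.bijective_iff_injective_and_card _).mpr ⟨mul_left_injective₀ hne', rfl⟩).2 _
    obtain ⟨lam, hlam⟩ := hsurj e'
    have hdv : d v = φ lam ((c + 1) v) := by
      rw [show φ lam = (e' : AddMonoid.End V) from congrArg Subtype.val hlam]
      exact (DFunLike.congr_fun (congrArg Subtype.val he') v).symm
    rw [hdv, hkey]
    rfl
  -- two-elements square to one
  have hunip : ∀ g : I, ∀ k : ℕ, g ^ 2 ^ k = 1 → g * g = 1 := by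
    intro g k hk
    set G := el g with hG
    set M := G + 1 with hM
    have hpow : ∀ j : ℕ, M ^ 2 ^ j = G ^ 2 ^ j + 1 := by
      intro j
      induction j with
      | zero => rw [pow_zero, pow_one, pow_one]
      | succ j ih =>
        rw [pow_succ, pow_mul, ih, pow_mul, sq, sq, add_mul, mul_add, mul_one, one_mul, add_assoc,
          ← add_assoc (G ^ 2 ^ j) (G ^ 2 ^ j) 1, hz, zero_add]
    have hMk : M ^ 2 ^ k = 0 := by
      rw [hpow, hG, ← Units.val_pow_eq_pow_val, ← SubgroupClass.coe_pow, hk]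
      exact hz 1
    have hMD : ∀ n : ℕ, ∀ d ∈ D, ∀ x, d ((M ^ n) x) = (M ^ n) (d x) := by
      intro n
      induction n with
      | zero => intro d _ x; rfl
      | succ n ih =>
        intro d hd x
        rw [pow_succ', hmul, hmul, ← ih d hd, hM, hadd, hadd, hone, hone, map_add, hImem g d hd]
    suffices hsq : M ^ 2 = 0 by
      refine Subtype.ext (Units.ext ?_)
      have h2 := hpow 1
      rw [pow_one, hsq] at h2
      show G * G = 1
      calc G * G = G ^ 2 + (1 + 1) := by rw [hz, add_zero, sq]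
        _ = (G ^ 2 + 1) + 1 := (add_assoc _ _ _).symm
        _ = 1 := by rw [← h2, zero_add]
    by_contra hsq
    have hex : ∃ n, M ^ n = 0 := ⟨_, hMk⟩
    set n := Nat.find hex with hn
    have hn0 : M ^ n = 0 := Nat.find_spec hex
    have hn3 : 3 ≤ n := by
      by_contra hlt
      exact hsq (by rw [show 2 = n + (2 - n) by omega, pow_add, hn0, zero_mul])
    obtain ⟨w, hw⟩ : ∃ w, (M ^ (n - 1)) w ≠ 0 := by
      by_contra h
      push Not at h
      exact Nat.find_min hex (m := n - 1) (by omega) (DFunLike.ext _ _ h)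
    have hpp : ∀ a b : ℕ, ∀ x, (M ^ a) ((M ^ b) x) = (M ^ (a + b)) x := fun a b x => by rw [← hmul, ← pow_add]
    let K : ℕ → AddSubgroup V := fun i => AddMonoidHom.ker ((M ^ i : AddMonoid.End V) : V →+ V)
    have hKmono : ∀ i, K i ≤ K (i + 1) := fun i x hx => by
      show (M ^ (i + 1)) x = 0
      rw [pow_succ', hmul, show (M ^ i) x = 0 from hx, map_zero]
    have hKD : ∀ i, ∀ d ∈ D, ∀ x ∈ K i, d x ∈ K i := fun i d hd x hx => by
      show (M ^ i) (d x) = 0
      rw [← hMD i d hd, show (M ^ i) x = 0 from hx, map_zero]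
    have hgrow : ∀ i, i + 1 ≤ n → Nat.card D * Nat.card (K i) ≤ Nat.card (K (i + 1)) := by
      intro i hi
      refine step (M ^ i) (hMD i) (K (i + 1)) (hKmono i) (hKD _) ((M ^ (n - (i + 1))) w) ?_ ?_
      · show (M ^ (i + 1)) _ = 0
        rw [hpp, show i + 1 + (n - (i + 1)) = n by omega, hn0]; rfl
      · rw [hpp, show i + (n - (i + 1)) = n - 1 by omega]; exact hw
    have h1 := hgrow 0 (by omega)
    have h2 := hgrow 1 (by omega)
    have h3 := hgrow 2 (by omega)
    have h4 : Nat.card (K 3) ≤ Nat.card V := Nat.card_le_card_of_injective Subtype.val Subtype.val_injective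
    have h0 : 1 ≤ Nat.card (K 0) := Nat.card_pos
    have : Nat.card D ^ 3 ≤ Nat.card V := by
      calc Nat.card D ^ 3 = Nat.card D * (Nat.card D * (Nat.card D * 1)) := by ring
        _ ≤ Nat.card D * (Nat.card D * (Nat.card D * Nat.card (K 0))) := by gcongr
        _ ≤ Nat.card D * (Nat.card D * Nat.card (K 1)) := by gcongr
        _ ≤ Nat.card D * Nat.card (K 2) := by gcongr
        _ ≤ Nat.card (K 3) := h3
        _ ≤ _ := h4
    have h5 : Nat.card D ^ 2 < Nat.card D ^ 3 := Nat.pow_lt_pow_right (by omega) (by norm_num)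
    omega
  -- the Sylow subgroup has order two
  obtain ⟨S⟩ : Nonempty (Sylow 2 I) := inferInstance
  have hSsq : ∀ s ∈ (S : Subgroup I), s * s = 1 := fun s hs => by
    obtain ⟨k, hk⟩ := S.2 ⟨s, hs⟩
    exact hunip s k (congrArg Subtype.val hk)
  have hSsmall : ∀ s ∈ (S : Subgroup I), ∀ t ∈ (S : Subgroup I), s ≠ 1 → t ≠ 1 → s = t := by
    intro s hs t ht hs1 ht1
    refine uniq s t hs1 ht1 (hSsq s hs) (hSsq t ht) ?_
    have := hSsq (s * t) (mul_mem hs ht)
    calc s * t = s * t * ((s * t) * (s * t))⁻¹ := by rw [this, inv_one, mul_one]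
      _ = t⁻¹ * s⁻¹ := by group
      _ = t * s := by rw [inv_eq_of_mul_eq_one_right (hSsq t ht), inv_eq_of_mul_eq_one_right (hSsq s hs)]
  have hNC : normalizer ((S : Subgroup I) : Set I) ≤ centralizer ((S : Subgroup I) : Set I) := by
    intro g hg
    refine mem_centralizer_iff.mpr fun s hs => ?_
    by_cases h1 : s = 1
    · simp [h1]
    have h2 : g * s * g⁻¹ = s := by
      refine hSsmall _ ((mem_normalizer_iff.mp hg s).mp hs) _ hs ?_ h1
      simpa using h1
    calc s * g = g * s * g⁻¹ * g := by rw [h2]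
      _ = g * s := by group
  obtain ⟨P, K, hK, hcompl⟩ := CfsgLib.hasNormalPComplement_of_normalizer_le_centralizer S hNC
  haveI := hK
  have hquot : Group.IsSolvable (I ⧸ K) := by
    haveI : Group.IsNilpotent P := P.2.isNilpotent
    haveI : Group.IsSolvable P := inferInstance
    exact Group.isSolvable_of_surjective (f := (QuotientGroup.mk' K).comp (P : Subgroup I).subtype) fun x => by
      obtain ⟨x, rfl⟩ := QuotientGroup.mk'_surjective K x
      obtain ⟨⟨k, p⟩, hkp⟩ := hcompl.2 x
      refine ⟨p, ?_⟩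
      show QuotientGroup.mk' K (p : I) = _
      rw [← hkp, map_mul, show QuotientGroup.mk' K (k : I) = 1 from (QuotientGroup.eq_one_iff _).mpr k.2, one_mul]
  have htop : K = ⊤ := by
    have h1 := hom_eq_one hIp hquot (QuotientGroup.mk' K)
    refine eq_top_iff.mpr fun x _ => ?_
    exact (QuotientGroup.eq_one_iff x).mp (DFunLike.congr_fun h1 x)
  subst htop
  have hSbot : (P : Subgroup I) = ⊥ := Subgroup.isComplement'_top_left.mp hcompl
  have : ¬ 2 ∣ (P : Subgroup I).index := P.not_dvd_index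
  rw [hSbot, index_bot] at this
  exact hIne (Nat.odd_iff.mpr (Nat.two_dvd_ne_zero.mp this))

end Core

section Groups

variable {P : Type u} [Group P] [Finite P] {A : Type v} [Group A] [Finite A]

set_option maxHeartbeats 800000 in
/-- A perfect group acting on a 2-group and fixing every involution acts trivially. -/
theorem apply_eq_self (odd : ∀ (H : Type u) [Group H] [Finite H], Odd (Nat.card H) → Group.IsSolvable H)
    (hP : IsPGroup 2 P) (hA : _root_.commutator A = ⊤) (f : A →* MulAut P)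
    (hfix : ∀ a, ∀ x : P, x * x = 1 → f a x = x) : ∀ a x, f a x = x := by
  classical
  haveI : Fact (Nat.Prime 2) := ⟨Nat.prime_two⟩
  have hfmul : ∀ a b x, f (a * b) x = f a (f b x) := fun a b x => by rw [map_mul, MulAut.mul_apply]
  by_contra hne
  push Not at hne
  obtain ⟨a₁, x₁, hx₁⟩ := hne
  let Bad : Subgroup P → Prop := fun W => (∀ a, ∀ x ∈ W, f a x ∈ W) ∧ ∃ a, ∃ x ∈ W, f a x ≠ x
  obtain ⟨W, -, ⟨⟨hWinv, a₀, x₀, hx₀W, hx₀⟩, hmin⟩⟩ :=
    Finite.exists_le_minimal (p := Bad) (a := (⊤ : Subgroup P))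
      ⟨fun _ _ _ => mem_top _, a₁, x₁, mem_top _, hx₁⟩
  let F : Subgroup P :=
    { carrier := {x | x ∈ W ∧ ∀ a, f a x = x}
      one_mem' := ⟨one_mem W, fun a => map_one _⟩
      mul_mem' := fun {x y} hx hy => ⟨mul_mem hx.1 hy.1, fun a => by rw [map_mul, hx.2, hy.2]⟩
      inv_mem' := fun {x} hx => ⟨inv_mem hx.1, fun a => by rw [map_inv, hx.2]⟩ }
  have hF : ∀ x, x ∈ F ↔ x ∈ W ∧ ∀ a, f a x = x := fun x => Iff.rfl
  have hmax : ∀ U : Subgroup P, (∀ a, ∀ x ∈ U, f a x ∈ U) → U ≤ W → U ≠ W → U ≤ F := by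
    intro U hU hUW hne' x hx
    refine ⟨hUW hx, fun a => ?_⟩
    by_contra h
    exact hne' (le_antisymm hUW (hmin ⟨hU, a, x, hx, h⟩ hUW))
  have closure_inv : ∀ s : Set P, (∀ a, ∀ x ∈ s, f a x ∈ closure s) → ∀ a, ∀ x ∈ closure s, f a x ∈ closure s := by
    intro s hs a x hx
    exact ((closure_le (K := (closure s).comap (f a).toMonoidHom)).mpr (fun y hy => hs a y hy)) hx
  -- squares and commutators of `W` are fixed
  have hWne : W ≠ ⊥ := by
    rintro rfl
    rw [mem_bot] at hx₀W
    exact hx₀ (by rw [hx₀W, map_one])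
  have hsc : (∀ x ∈ W, x * x ∈ F) ∧ ∀ x ∈ W, ∀ y ∈ W, x * y * x⁻¹ * y⁻¹ ∈ F := by
    let s : Set P := {z | ∃ x ∈ W, x * x = z} ∪ {z | ∃ x ∈ W, ∃ y ∈ W, x * y * x⁻¹ * y⁻¹ = z}
    have hsW : closure s ≤ (frattini W).map W.subtype := by
      rw [closure_le]
      have hPW : IsPGroup 2 W := hP.to_subgroup W
      rintro z (⟨x, hx, rfl⟩ | ⟨x, hx, y, hy, rfl⟩)
      · exact ⟨⟨x, hx⟩ ^ 2, pow_mem_frattini_pGroup hPW _, pow_two _⟩
      · exact ⟨⟨x, hx⟩ * ⟨y, hy⟩ * (⟨x, hx⟩ : W)⁻¹ * (⟨y, hy⟩ : W)⁻¹,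
          commutator_le_frattini_pGroup hPW (commutator_mem_commutator (mem_top _) (mem_top _)), rfl⟩
    have hle : closure s ≤ W := hsW.trans (map_subtype_le _)
    have hneW : closure s ≠ W := by
      intro e
      haveI : Nontrivial W := (Subgroup.nontrivial_iff_ne_bot W).mpr hWne
      obtain ⟨M, hM, -⟩ := (eq_top_or_exists_le_coatom (⊥ : Subgroup W)).resolve_left bot_ne_top
      refine hM.1 (eq_top_iff.mpr fun w _ => ?_)
      have : (w : P) ∈ (frattini W).map W.subtype := hsW (by rw [e]; exact w.2)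
      obtain ⟨w', hw', e'⟩ := this
      exact Subtype.ext e' ▸ frattini_le_coatom hM hw'
    have hsF := hmax _ (closure_inv s (by
      rintro a z (⟨x, hx, rfl⟩ | ⟨x, hx, y, hy, rfl⟩)
      · exact subset_closure (Or.inl ⟨f a x, hWinv a x hx, (map_mul (f a) x x).symm⟩)
      · exact subset_closure (Or.inr ⟨f a x, hWinv a x hx, f a y, hWinv a y hy, by
          simp only [map_mul, map_inv]⟩))) hle hneW
    exact ⟨fun x hx => hsF (subset_closure (Or.inl ⟨x, hx, rfl⟩)),
      fun x hx y hy => hsF (subset_closure (Or.inr ⟨x, hx, y, hy, rfl⟩))⟩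
  have hFW : F ≤ W := fun x hx => hx.1
  have hFn : ∀ w ∈ W, ∀ c ∈ F, w * c * w⁻¹ ∈ F := fun w hw c hc => by
    have := mul_mem (hsc.2 w hw c hc.1) hc
    rwa [inv_mul_cancel_right] at this
  -- `W` is generated by the commutators with `A`
  let W1 : Subgroup P := closure {z | ∃ a, ∃ x ∈ W, x⁻¹ * f a x = z}
  have hW1W : W1 ≤ W := (closure_le _).mpr (by rintro z ⟨a, x, hx, rfl⟩; exact mul_mem (inv_mem hx) (hWinv a x hx))
  have hW1inv : ∀ a, ∀ x ∈ W1, f a x ∈ W1 := closure_inv _ (by
    rintro b z ⟨a, x, hx, rfl⟩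
    refine subset_closure ⟨b * a * b⁻¹, f b x, hWinv b x hx, ?_⟩
    rw [map_mul (f b), map_inv (f b), ← hfmul b a, ← hfmul (b * a * b⁻¹) b, inv_mul_cancel_right])
  haveI hFnil : Group.IsNilpotent F := (hP.to_subgroup F).isNilpotent
  have hW1 : W1 = W := by
    by_contra hne'
    have h1 : W1 ≤ F := hmax W1 hW1inv hW1W hne'
    have hd : ∀ a, x₀⁻¹ * f a x₀ ∈ F := fun a => h1 (subset_closure ⟨a, x₀, hx₀W, rfl⟩)
    let g : A →* F :=
      { toFun := fun a => ⟨x₀⁻¹ * f a x₀, hd a⟩
        map_one' := Subtype.ext (by simp)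
        map_mul' := fun a b => Subtype.ext (by
          show x₀⁻¹ * f (a * b) x₀ = x₀⁻¹ * f a x₀ * (x₀⁻¹ * f b x₀)
          rw [hfmul]
          calc x₀⁻¹ * f a (f b x₀) = x₀⁻¹ * f a (x₀ * (x₀⁻¹ * f b x₀)) := by rw [mul_inv_cancel_left]
            _ = _ := by rw [map_mul, (hd b).2 a, mul_assoc]) }
    have := congrArg Subtype.val (DFunLike.congr_fun (hom_eq_one hA inferInstance g) a₀)
    exact hx₀ (inv_mul_eq_one.mp this).symm
  have hcen : ∀ c ∈ F, ∀ w ∈ W, w * c = c * w := by
    intro c hc w hw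
    have h : W1 ≤ centralizer ({c} : Set P) := (closure_le _).mpr (by
      rintro z ⟨a, x, hx, rfl⟩
      rw [SetLike.mem_coe, mem_centralizer_singleton_iff]
      have h1 := (hsc.2 x hx c hc.1).2 a
      rw [map_mul, map_mul, map_mul, map_inv, map_inv, hc.2 a] at h1
      have h2 : f a x * c * (f a x)⁻¹ = x * c * x⁻¹ := mul_right_cancel h1
      calc x⁻¹ * f a x * c = x⁻¹ * (f a x * c * (f a x)⁻¹) * f a x := by group
        _ = x⁻¹ * (x * c * x⁻¹) * f a x := by rw [h2]
        _ = c * (x⁻¹ * f a x) := by group)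
    exact mem_centralizer_singleton_iff.mp (h (hW1 ▸ hw))
  -- the commutator map
  let k : P → P → P := fun x y => x⁻¹ * y * x * y⁻¹
  have hkF : ∀ x ∈ W, ∀ y ∈ W, k x y ∈ F := fun x hx y hy => by
    have := hsc.2 x⁻¹ (inv_mem hx) y hy
    rwa [inv_inv] at this
  have hsq : ∀ x ∈ W, ∀ y ∈ W, (x * y) * (x * y) = x * x * k x y * (y * y) := fun x _ y _ => by
    simp only [k]; group
  have hk2 : ∀ x ∈ W, ∀ y ∈ W, k x y * k x y = 1 := fun x hx y hy => by
    have h1 : x⁻¹ * k x y * x = k x y := by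
      rw [mul_assoc, ← hcen _ (hkF x hx y hy) x hx, inv_mul_cancel_left]
    have h2 : (x * x) * y = y * (x * x) := (hcen _ (hsc.1 x hx) y hy).symm
    calc k x y * k x y = x⁻¹ * k x y * x * k x y := by rw [h1]
      _ = x⁻¹ * x⁻¹ * (y * (x * x)) * y⁻¹ := by simp only [k]; group
      _ = 1 := by rw [← h2]; group
  have hfour : ∀ x ∈ W, x * x * (x * x) = 1 := by
    let p4 : W →* P :=
      { toFun := fun x => (x : P) * x * ((x : P) * x)
        map_one' := by simp
        map_mul' := fun x y => by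
          have c1 := hcen _ (hsc.1 (y : P) y.2)
          have c2 := hcen _ (hkF (x : P) x.2 (y : P) y.2)
          show (x : P) * y * ((x : P) * y) * ((x : P) * y * ((x : P) * y)) = _
          rw [hsq _ x.2 _ y.2]
          have hxx : (x : P) * x ∈ W := mul_mem x.2 x.2
          have hyy : (y : P) * y ∈ W := mul_mem y.2 y.2
          calc (x : P) * x * k x y * ((y : P) * y) * ((x : P) * x * k x y * ((y : P) * y))
              = (x : P) * x * k x y * (((y : P) * y) * ((x : P) * x)) * k x y * ((y : P) * y) := by group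
            _ = (x : P) * x * k x y * (((x : P) * x) * ((y : P) * y)) * k x y * ((y : P) * y) := by rw [c1 _ hxx]
            _ = (x : P) * x * (k x y * ((x : P) * x)) * (((y : P) * y) * k x y) * ((y : P) * y) := by group
            _ = (x : P) * x * (((x : P) * x) * k x y) * (k x y * ((y : P) * y)) * ((y : P) * y) := by
                rw [c2 _ hxx, c2 _ hyy]
            _ = (x : P) * x * ((x : P) * x) * (k x y * k x y) * (((y : P) * y) * ((y : P) * y)) := by group
            _ = _ := by rw [hk2 _ x.2 _ y.2, mul_one] }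
    intro x hx
    have h : W ≤ p4.ker.map W.subtype := hW1.ge.trans ((closure_le _).mpr (by
      rintro z ⟨a, w, hw, rfl⟩
      refine ⟨⟨w⁻¹ * f a w, mul_mem (inv_mem hw) (hWinv a w hw)⟩, ?_, rfl⟩
      have e : (⟨w⁻¹ * f a w, mul_mem (inv_mem hw) (hWinv a w hw)⟩ : W) = (⟨w, hw⟩ : W)⁻¹ * ⟨f a w, hWinv a w hw⟩ := rfl
      rw [SetLike.mem_coe, MonoidHom.mem_ker, e, map_mul, map_inv, inv_mul_eq_one]
      show w * w * (w * w) = f a w * f a w * (f a w * f a w)
      rw [← map_mul (f a), (hsc.1 w hw).2 a]))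
    obtain ⟨w, hw, rfl⟩ := h hx
    exact hw
  -- the modules
  let Fw : Subgroup W := F.subgroupOf W
  haveI : Fw.Normal := ⟨fun c hc g => hFn g g.2 c hc⟩
  letI : CommGroup F :=
    { (inferInstance : Group F) with mul_comm := fun a b => Subtype.ext (hcen _ b.2 _ a.2.1) }
  let S0 : Subgroup F := (powMonoidHom 2 : F →* F).range
  let π : F →* F ⧸ S0 := QuotientGroup.mk' S0
  have hπ2 : ∀ z : F ⧸ S0, z * z = 1 := fun z => by
    obtain ⟨z, rfl⟩ := QuotientGroup.mk'_surjective S0 z
    rw [← map_mul]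
    exact (QuotientGroup.eq_one_iff _).mpr ⟨z, pow_two z⟩
  let sq' : W → F := fun x => ⟨(x : P) * x, hsc.1 x x.2⟩
  let Kp : W → W → F := fun x y => ⟨k x y, hkF x x.2 y y.2⟩
  have hsq' : ∀ x y, sq' (x * y) = sq' x * Kp x y * sq' y := fun x y => Subtype.ext (hsq _ x.2 _ y.2)
  have hKr : ∀ x y z, Kp x (y * z) = Kp x y * Kp x z := fun x y z => Subtype.ext (by
    show k x (y * z) = k x y * k x z
    have h1 := hcen _ (hkF x x.2 z z.2) _ (inv_mem y.2)
    calc k x ((y : P) * z) = (x : P)⁻¹ * y * x * (k x z * (y : P)⁻¹) := by simp only [k]; group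
      _ = _ := by rw [← h1]; simp only [k]; group)
  have hKl : ∀ x y z, Kp (x * y) z = Kp x z * Kp y z := fun x y z => Subtype.ext (by
    show k (x * y) z = k x z * k y z
    have h1 := hcen _ (hkF x x.2 z z.2) _ (inv_mem y.2)
    calc k ((x : P) * y) z = (y : P)⁻¹ * k x z * z * y * (z : P)⁻¹ := by simp only [k]; group
      _ = k x z * (y : P)⁻¹ * z * y * (z : P)⁻¹ := by rw [h1]
      _ = _ := by simp only [k]; group)
  let T1 : Subgroup (F ⧸ S0) := closure (Set.range fun x => π (sq' x))
  let qW : W → T1 := fun x => ⟨π (sq' x), subset_closure ⟨x, rfl⟩⟩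
  have hqwd : ∀ x : W, ∀ c : Fw, qW (x * c) = qW x := fun x c => Subtype.ext (by
    show π (sq' (x * (c : W))) = π (sq' x)
    have h1 : Kp x c = 1 := Subtype.ext (by
      show k (x : P) ((c : W) : P) = 1
      simp only [k]
      rw [mul_assoc (x : P)⁻¹, ← hcen ((c : W) : P) c.2 (x : P) x.2]; group)
    have h2 : π (sq' (c : W)) = 1 := (QuotientGroup.eq_one_iff _).mpr ⟨⟨((c : W) : P), c.2⟩, Subtype.ext (pow_two _)⟩
    rw [hsq', h1, mul_one, map_mul, h2, mul_one])
  let q0 : W ⧸ Fw → T1 := Quotient.lift qW fun x y hxy => by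
    have hxy' : x⁻¹ * y ∈ Fw := QuotientGroup.leftRel_apply.mp hxy
    have := hqwd x ⟨x⁻¹ * y, hxy'⟩
    rw [show x * (x⁻¹ * y) = y from mul_inv_cancel_left x y] at this
    exact this.symm
  have hq0 : ∀ x : W, q0 (x : W ⧸ Fw) = qW x := fun x => rfl
  letI : CommGroup (W ⧸ Fw) :=
    { (inferInstance : Group (W ⧸ Fw)) with
      mul_comm := fun x y => by
        obtain ⟨x, rfl⟩ := QuotientGroup.mk_surjective x
        obtain ⟨y, rfl⟩ := QuotientGroup.mk_surjective y
        refine (QuotientGroup.eq.mpr ?_)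
        show ((x : P) * y)⁻¹ * (y * x) ∈ F
        have := hsc.2 (y : P)⁻¹ (inv_mem y.2) (x : P)⁻¹ (inv_mem x.2)
        rw [inv_inv, inv_inv] at this
        rwa [show ((x : P) * y)⁻¹ * (y * x) = (y : P)⁻¹ * (x : P)⁻¹ * y * x by group] }
  let B0 : W ⧸ Fw → W ⧸ Fw → T1 := fun x y => q0 (x * y) * (q0 x)⁻¹ * (q0 y)⁻¹
  have hab3 : ∀ a b c : F ⧸ S0, a * b * c * a⁻¹ * c⁻¹ = b := fun a b c => by
    rw [mul_comm a b, mul_assoc b a c, mul_comm a c, ← mul_assoc]; group
  have hB0 : ∀ x y : W, (B0 x y : F ⧸ S0) = π (Kp x y) := fun x y => by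
    show (π (sq' (x * y))) * (π (sq' x))⁻¹ * (π (sq' y))⁻¹ = _
    rw [hsq', map_mul, map_mul]
    exact hab3 _ _ _
  have hB0r : ∀ x y z, B0 x (y * z) = B0 x y * B0 x z := fun x y z => by
    obtain ⟨x, rfl⟩ := QuotientGroup.mk_surjective x
    obtain ⟨y, rfl⟩ := QuotientGroup.mk_surjective y
    obtain ⟨z, rfl⟩ := QuotientGroup.mk_surjective z
    refine Subtype.ext ?_
    exact (hB0 x (y * z)).trans (by rw [hKr, map_mul, Subgroup.coe_mul, hB0, hB0])
  have hB0l : ∀ x y z, B0 (x * y) z = B0 x z * B0 y z := fun x y z => by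
    obtain ⟨x, rfl⟩ := QuotientGroup.mk_surjective x
    obtain ⟨y, rfl⟩ := QuotientGroup.mk_surjective y
    obtain ⟨z, rfl⟩ := QuotientGroup.mk_surjective z
    refine Subtype.ext ?_
    exact (hB0 (x * y) z).trans (by rw [hKl, map_mul, Subgroup.coe_mul, hB0, hB0])
  let B : Additive (W ⧸ Fw) →+ Additive (W ⧸ Fw) →+ Additive T1 :=
    AddMonoidHom.mk' (fun x => AddMonoidHom.mk' (fun y => Additive.ofMul (B0 x.toMul y.toMul))
      fun y z => congrArg Additive.ofMul (hB0r x.toMul y.toMul z.toMul))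
      fun x y => AddMonoidHom.ext fun z => congrArg Additive.ofMul (hB0l x.toMul y.toMul z.toMul)
  let act : A → (W →* W) := fun a =>
    { toFun := fun x => ⟨f a x, hWinv a x x.2⟩
      map_one' := Subtype.ext (map_one _)
      map_mul' := fun x y => Subtype.ext (map_mul (f a) (x : P) y) }
  let actQ : A → (W ⧸ Fw →* W ⧸ Fw) := fun a => QuotientGroup.map Fw Fw (act a) fun c hc => by
    show f a (c : P) ∈ F
    rw [(show (c : P) ∈ F from hc).2 a]; exact hc
  have hactQ : ∀ a (x : W), actQ a x = ((act a x : W) : W ⧸ Fw) := fun a x => rfl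
  let ρ : A →* AddMonoid.End (Additive (W ⧸ Fw)) :=
    { toFun := fun a => (actQ a).toAdditive
      map_one' := DFunLike.ext _ _ fun x => by
        obtain ⟨y, hy⟩ := QuotientGroup.mk_surjective x.toMul
        show Additive.ofMul (actQ 1 x.toMul) = Additive.ofMul x.toMul
        rw [← hy, hactQ]
        exact congrArg (fun w : W => Additive.ofMul (w : W ⧸ Fw)) (Subtype.ext (by simp [act]))
      map_mul' := fun a b => DFunLike.ext _ _ fun x => by
        obtain ⟨y, hy⟩ := QuotientGroup.mk_surjective x.toMul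
        show Additive.ofMul (actQ (a * b) x.toMul) = Additive.ofMul (actQ a (actQ b x.toMul))
        rw [← hy, hactQ, hactQ, hactQ]
        exact congrArg (fun w : W => Additive.ofMul (w : W ⧸ Fw)) (Subtype.ext (hfmul a b y)) }
  have hρ : ∀ a (x : W), ρ a (Additive.ofMul (x : W ⧸ Fw)) = Additive.ofMul ((act a x : W) : W ⧸ Fw) := fun a x => rfl
  have hab5 : ∀ a b c : F ⧸ S0, a * b * (c * a⁻¹ * b⁻¹) = c := fun a b c => by
    rw [← mul_assoc, ← mul_assoc, mul_comm (a * b) c, ← mul_assoc, mul_assoc c a b, mul_comm a b]; group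
  refine core (V := Additive (W ⧸ Fw)) (T := Additive T1) odd hA ?_ ?_ ρ ?_ ?_ (fun x => Additive.ofMul (q0 x.toMul)) B
    ?_ ?_ ?_ ?_ ?_
  · intro x
    obtain ⟨y, hy⟩ := QuotientGroup.mk_surjective x.toMul
    show x.toMul * x.toMul = 1
    rw [← hy, ← QuotientGroup.mk_mul]
    exact (QuotientGroup.eq_one_iff _).mpr (hsc.1 (y : P) y.2)
  · intro z
    exact Subtype.ext (hπ2 _)
  · intro U hU
    let U1 : Subgroup P := ((AddSubgroup.toSubgroup' U).comap (QuotientGroup.mk' Fw)).map W.subtype
    by_cases htop : U1 = W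
    · right
      refine eq_top_iff.mpr fun x _ => ?_
      obtain ⟨y, hy⟩ := QuotientGroup.mk_surjective x.toMul
      have hy1 : (y : P) ∈ U1 := htop.ge y.2
      obtain ⟨y', hy', e⟩ := hy1
      obtain rfl := Subtype.ext e
      have : Additive.ofMul (y' : W ⧸ Fw) ∈ U := hy'
      rwa [hy] at this
    · left
      have hle : U1 ≤ F := hmax U1 (by
        rintro a _ ⟨y, hy, rfl⟩
        exact ⟨act a y, hU a _ hy, rfl⟩) (map_subtype_le _) htop
      refine eq_bot_iff.mpr fun x hx => ?_
      obtain ⟨y, hy⟩ := QuotientGroup.mk_surjective x.toMul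
      have hyF : (y : P) ∈ F := hle ⟨y, by show Additive.ofMul (y : W ⧸ Fw) ∈ U; rw [hy]; exact hx, rfl⟩
      show x.toMul = 1
      rw [← hy]
      exact (QuotientGroup.eq_one_iff y).mpr hyF
  · by_contra hall
    push Not at hall
    refine hx₀ ?_
    have hW1F : W1 ≤ F := (closure_le _).mpr (by
      rintro z ⟨a, x, hx, rfl⟩
      have h1 := DFunLike.congr_fun (hall a) (Additive.ofMul ((⟨x, hx⟩ : W) : W ⧸ Fw))
      rw [hρ] at h1
      exact (QuotientGroup.eq.mp (Additive.ofMul.injective h1).symm : _))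
    exact (hW1F (hW1.symm ▸ hx₀W)).2 a₀
  · intro x y
    show Additive.ofMul (q0 (x.toMul * y.toMul)) = _
    show _ = Additive.ofMul (q0 x.toMul * q0 y.toMul * B0 x.toMul y.toMul)
    refine congrArg Additive.ofMul (Subtype.ext ?_)
    exact (hab5 _ _ _).symm
  · intro x
    obtain ⟨y, hy⟩ := QuotientGroup.mk_surjective x.toMul
    show Additive.ofMul (B0 x.toMul x.toMul) = 0
    rw [← hy]
    refine congrArg Additive.ofMul (Subtype.ext ?_)
    rw [hB0, show Kp y y = 1 from Subtype.ext (show k (y : P) y = 1 by simp only [k]; group), map_one]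
    rfl
  · intro a x
    obtain ⟨y, hy⟩ := QuotientGroup.mk_surjective x.toMul
    have hx' : x = Additive.ofMul (y : W ⧸ Fw) := by rw [hy]; rfl
    subst hx'
    rw [hρ]
    refine congrArg Additive.ofMul (Subtype.ext (congrArg π (Subtype.ext ?_)))
    show f a y * f a y = (y : P) * y
    rw [← map_mul, (hsc.1 (y : P) y.2).2 a]
  · intro x hx
    obtain ⟨y, hy⟩ := QuotientGroup.mk_surjective x.toMul
    show x.toMul = 1
    rw [← hy]
    refine (QuotientGroup.eq_one_iff y).mpr ?_
    have h1 : π (sq' y) = 1 := by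
      have := congrArg Subtype.val (show q0 x.toMul = 1 from hx)
      rw [← hy] at this
      exact this
    obtain ⟨⟨c, hc⟩, hce⟩ := (QuotientGroup.eq_one_iff _).mp h1
    have hc2 : c * c = (y : P) * y := by
      have := congrArg Subtype.val hce
      simpa [pow_two] using this
    have hinv : ((y : P) * c⁻¹) * ((y : P) * c⁻¹) = 1 := by
      calc ((y : P) * c⁻¹) * ((y : P) * c⁻¹) = (y : P) * (c⁻¹ * y) * c⁻¹ := by group
        _ = (y : P) * (y * c⁻¹) * c⁻¹ := by rw [← hcen _ (inv_mem hc) _ y.2]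
        _ = (y : P) * y * (c * c)⁻¹ := by group
        _ = 1 := by rw [hc2, mul_inv_cancel]
    have h3 : (y : P) * c⁻¹ ∈ F := ⟨mul_mem y.2 (inv_mem hc.1), fun a => hfix a _ hinv⟩
    have h4 := mul_mem h3 hc
    rwa [inv_mul_cancel_right] at h4
  · refine eq_top_iff.mpr fun t _ => ?_
    have : ∀ z (hz : z ∈ T1), Additive.ofMul (⟨z, hz⟩ : T1) ∈
        AddSubgroup.closure (Set.range fun x : Additive (W ⧸ Fw) => Additive.ofMul (q0 x.toMul)) := by
      intro z hz
      induction hz using Subgroup.closure_induction with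
      | mem z hz =>
        obtain ⟨x, rfl⟩ := hz
        exact AddSubgroup.subset_closure ⟨Additive.ofMul (x : W ⧸ Fw), rfl⟩
      | one => exact zero_mem _
      | mul z w hz hw h1 h2 => exact add_mem h1 h2
      | inv z hz h1 => exact neg_mem h1
    exact this _ t.toMul.2

end Groups

end CfsgLib.AfterFT.FixInvolutions
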