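import Cfsg.Agent.Lib.LocalFusion
import Cfsg.Agent.Lib.ZStar.Main
import Cfsg.Agent.Lib.ZStar.Isolated
import Mathlib.GroupTheory.SemidirectProduct
import Mathlib.GroupTheory.Transfer

/-!
Automorphisms fixing a Sylow 2-subgroup pointwise, when the odd core is trivial (Glauberman; S0227):
the derived group of their group has odd order.
-/

set_option autoImplicit false
set_option linter.unusedSectionVars false
set_option linter.style.haveILetI false

namespace CfsgLib.AfterFT.FixSylow

open Cfsg Cfsg.FusionSystem Subgroup CfsgLib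
open scoped commutatorElement

universe u

variable {G : Type u} [Group G] [Finite G]

theorem normalizer_le_centralizer_normalizer (Q : Subgroup G) :
    normalizer (Q : Set G) ≤ normalizer ((centralizer (Q : Set G) : Subgroup G) : Set G) := by
  intro g hg
  rw [mem_normalizer_iff]
  have key : ∀ g ∈ normalizer (Q : Set G), ∀ x ∈ centralizer (Q : Set G), g * x * g⁻¹ ∈ centralizer (Q : Set G) :=
    fun g hg x hx => mem_centralizer_iff.mpr fun q hq => by
      have h1 := mem_centralizer_iff.mp hx _ ((mem_normalizer_iff''.mp hg q).mp hq)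
      calc q * (g * x * g⁻¹) = g * ((g⁻¹ * q * g) * x) * g⁻¹ := by group
        _ = g * x * g⁻¹ * q := by rw [h1]; group
  exact fun x => ⟨key g hg x, fun h => by simpa [mul_assoc] using key g⁻¹ (inv_mem hg) _ h⟩

theorem normalizes_of_map_mem {K : Subgroup G} {g : G} (h : ∀ x ∈ K, g * x * g⁻¹ ∈ K) :
    g ∈ normalizer (K : Set G) := by
  haveI : Finite K := inferInstance
  rw [mem_normalizer_iff]
  refine fun x => ⟨h x, fun hx => ?_⟩
  obtain ⟨y, hy⟩ := Finite.surjective_of_injective
    (f := fun a : K => (⟨g * a * g⁻¹, h a a.2⟩ : K))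
    (fun a b e => Subtype.ext (mul_left_cancel (mul_right_cancel (congrArg Subtype.val e)))) ⟨_, hx⟩
  exact (mul_left_cancel (mul_right_cancel (congrArg Subtype.val hy))) ▸ y.2

/-- An involution is isolated if the normalisers of the centric fully normalised subgroups containing it fix it. -/
theorem isolated_of_centric (X : Sylow 2 G) {u : G} (hu : orderOf u = 2) (huX : u ∈ (X : Subgroup G))
    (hcent : ∀ x ∈ (X : Subgroup G), x * u = u * x)
    (h : ∀ P : Subgroup G, P ≤ (X : Subgroup G) → centralizerIn (X : Subgroup G) P ≤ P →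
      IsSylowIn 2 (normalizerIn (X : Subgroup G) P) (normalizer (P : Set G)) →
      ∀ g ∈ normalizer (P : Set G), g * u * g⁻¹ = u) :
    Cfsg.IsIsolated u := by
  haveI : Fact (Nat.Prime 2) := ⟨Nat.prime_two⟩
  refine ZStar.isolated_of_sylow X hu huX fun g hg => ?_
  set F := groupFusionSystem (X : Subgroup G) with hF
  have hfix : ∀ (x g : G), g * u * g⁻¹ = u → (x = u ↔ g * x * g⁻¹ = u) := fun x g e =>
    ⟨fun hx => hx ▸ e, fun hx => mul_left_cancel (mul_right_cancel (hx.trans e.symm))⟩
  let E : FusionSystem (X : Subgroup G) :=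
    { Hom := fun P => {φ | φ ∈ F.Hom P ∧ ∀ y : P, ((y : G) = u ↔ φ y = u)}
      le_of_mem := fun h => F.le_of_mem h.1
      injective_of_mem := fun h => F.injective_of_mem h.1
      conj_mem := fun {P s} hP hs => ⟨F.conj_mem hP hs, fun y => hfix y s (by
        rw [hcent s hs, mul_inv_cancel_right])⟩
      comp_mem := fun {P Q φ ψ} hφ hψ h => ⟨F.comp_mem hφ.1 hψ.1 h, fun y =>
        (hφ.2 y).trans (hψ.2 ⟨φ y, h y⟩)⟩
      inv_mem := fun {P φ} hφ => by
        obtain ⟨ψ, hψ, hl⟩ := F.inv_mem hφ.1
        refine ⟨ψ, ⟨hψ, ?_⟩, hl⟩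
        rintro ⟨_, y, rfl⟩
        rw [hl]
        exact (hφ.2 y).symm }
  have key : F ≤ E := by
    refine (groupFusionSystem_isSaturated X).le_of_autGroup_le X.2 E fun P hP => ?_
    have hPS : P ≤ (X : Subgroup G) := by
      rcases hP with rfl | hP
      exacts [le_rfl, hP.2.1.1]
    have hn : F.IsFullyNormalized P := by
      rcases hP with rfl | hP
      exacts [isFullyNormalized_self, hP.2.1]
    have hcen : centralizerIn (X : Subgroup G) P ≤ P := by
      rcases hP with rfl | hP
      · exact inf_le_left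
      · exact hP.1.2 P (F.isConj_refl hPS)
    intro α hα
    refine (E.mem_autGroup_iff hPS).mpr ⟨(F.mem_autGroup_iff hPS).mp hα, ?_⟩
    rw [show F.autGroup P = _ from autGroup_groupFusionSystem hPS] at hα
    obtain ⟨s, -, hN, he⟩ := mem_autInducedBy_iff.mp hα
    intro y
    show ((y : G) = u ↔ ((α y : P) : G) = u)
    rw [he]
    exact hfix y s (h P hPS hcen ((isFullyNormalized_groupFusionSystem_iff X hPS).mp hn) s hN)
  have hmap : conjHom (zpowers u) g ∈ F.Hom (zpowers u) := by
    refine conjHom_mem_groupFusionSystem (zpowers_le.mpr huX) ?_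
    rintro _ ⟨n, rfl⟩
    show g * u ^ n * g⁻¹ ∈ (X : Subgroup G)
    rw [← conj_zpow]
    exact zpow_mem hg n
  exact ((key _ hmap).2 ⟨u, mem_zpowers u⟩).mp rfl

variable {S : Sylow 2 G} {C : Subgroup (MulAut G)}

/-- The values `(a n) n⁻¹` in the centralizer of `P₀` have trivial projection for `a` in the derived group. -/
theorem pow_eq_one_of_commutator (hC : ∀ a ∈ C, ∀ s ∈ (S : Subgroup G), a s = s) {P₀ : Subgroup G}
    (hP : P₀ ≤ (S : Subgroup G)) {Z₀ : Subgroup G} (hZS : Z₀ ≤ (S : Subgroup G)) (hZP : Z₀ ≤ P₀)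
    (hZ : IsSylowIn 2 Z₀ (centralizer (P₀ : Set G))) {w : MulAut G} (hw : w ∈ (commutator C).map C.subtype)
    {n : G} (hn : n ∈ normalizer (P₀ : Set G)) :
    w n * n⁻¹ ∈ centralizer (P₀ : Set G) ∧
      (w n * n⁻¹) ^ Z₀.relIndex (centralizer (P₀ : Set G)) = 1 := by
  classical
  set C0 := centralizer (P₀ : Set G) with hC0
  have hd : ∀ a ∈ C, a n * n⁻¹ ∈ C0 := by
    intro a ha
    refine mem_centralizer_iff.mpr fun p hp => ?_
    have hq : n⁻¹ * p * n ∈ P₀ := (mem_normalizer_iff''.mp hn p).mp hp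
    have e : a n * (n⁻¹ * p * n) * (a n)⁻¹ = p := by
      calc a n * (n⁻¹ * p * n) * (a n)⁻¹ = a (n * (n⁻¹ * p * n) * n⁻¹) := by
            rw [map_mul (f := a) (n * (n⁻¹ * p * n)) n⁻¹, map_mul (f := a) n, map_inv, hC a ha _ (hP hq)]
        _ = a p := by congr 1; group
        _ = p := hC a ha _ (hP hp)
    calc p * (a n * n⁻¹) = a n * (n⁻¹ * p * n) * (a n)⁻¹ * (a n * n⁻¹) := by rw [e]
      _ = a n * n⁻¹ * p := by group
  have hstab : ∀ a ∈ C, ∀ x ∈ C0, a x ∈ C0 := fun a ha x hx => mem_centralizer_iff.mpr fun p hp => by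
    calc p * a x = a (p * x) := by rw [map_mul, hC a ha p (hP hp)]
      _ = a (x * p) := by rw [mem_centralizer_iff.mp hx p hp]
      _ = a x * p := by rw [map_mul, hC a ha p (hP hp)]
  -- `Z₀` is central in `C0`; the power map `f` to it
  set K := Z₀.relIndex C0 with hK
  have hZc : Z₀.subgroupOf C0 ≤ center C0 := fun z hz => Subgroup.mem_center_iff.mpr fun c =>
    Subtype.ext (mem_centralizer_iff.mp c.2 (z : G) (hZP hz)).symm
  obtain ⟨t, ht⟩ : ∃ t, (center C0).index * t = K := ⟨(Z₀.subgroupOf C0).relIndex (center C0), by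
    rw [mul_comm]; exact relIndex_mul_index hZc⟩
  letI : CommGroup (center C0) :=
    { (inferInstance : Group (center C0)) with
      mul_comm := fun a b => Subtype.ext (Subgroup.mem_center_iff.mp b.2 (a : C0)) }
  let f : C0 →* center C0 := (powMonoidHom t).comp (MonoidHom.transferCenterPow C0)
  have hf : ∀ x : C0, (((f x : center C0) : C0) : G) = (x : G) ^ K := fun x => by
    simp only [f, MonoidHom.comp_apply, powMonoidHom_apply, SubmonoidClass.coe_pow,
      MonoidHom.transferCenterPow_apply, ← pow_mul, ht]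
  have hpow : ∀ x ∈ C0, x ^ K ∈ Z₀ := by
    intro x hx
    have hord : (⟨x, hx⟩ : C0) ^ (K * Nat.card Z₀) = 1 := by
      rw [hK, relIndex, ← Nat.card_congr (subgroupOfEquivOfLe hZ.1).toEquiv, index_mul_card]
      exact pow_card_eq_one'
    obtain ⟨j, hj⟩ := IsPGroup.iff_card.mp hZ.2.1
    have hyp : IsPGroup 2 (zpowers (x ^ K)) := by
      haveI : Fact (Nat.Prime 2) := ⟨Nat.prime_two⟩
      have h1 : (x ^ K) ^ 2 ^ j = 1 := by
        rw [← hj, ← pow_mul]
        exact congrArg Subtype.val hord
      obtain ⟨i, -, hi⟩ := (Nat.dvd_prime_pow Nat.prime_two).mp (orderOf_dvd_of_pow_eq_one h1)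
      exact IsPGroup.of_card (n := i) (by rw [Nat.card_zpowers, hi])
    have hcomm : zpowers (x ^ K) ≤ normalizer (Z₀ : Set G) := zpowers_le.mpr (pow_mem
      (centralizer_le_normalizer _ (centralizer_le (SetLike.coe_subset_coe.mpr hZP) hx)) K)
    have e := hZ.eq_of_le (IsPGroup.to_sup_of_normal_right' hyp hZ.2.1 hcomm)
      (sup_le (zpowers_le.mpr (pow_mem hx K)) hZ.1) le_sup_right
    exact e ▸ mem_sup_left (mem_zpowers _)
  have hfa : ∀ a ∈ C, ∀ (x : C0) (hax : a (x : G) ∈ C0), f ⟨a x, hax⟩ = f x := fun a ha x hax => by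
    refine Subtype.ext (Subtype.ext ?_)
    rw [hf, hf, ← map_pow, hC a ha _ (hZS (hpow x x.2))]
  let φ : C →* center C0 :=
    { toFun := fun a => f ⟨(a : MulAut G) n * n⁻¹, hd a a.2⟩
      map_one' := by
        rw [← map_one f]
        congr 1
        exact Subtype.ext (show (1 : MulAut G) n * n⁻¹ = 1 by simp)
      map_mul' := fun a b => by
        rw [← hfa a a.2 ⟨(b : MulAut G) n * n⁻¹, hd b b.2⟩ (hstab a a.2 _ (hd b b.2)), mul_comm, ← map_mul]
        congr 1
        refine Subtype.ext ?_
        show ((a : MulAut G) * (b : MulAut G)) n * n⁻¹ =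
          (a : MulAut G) ((b : MulAut G) n * n⁻¹) * ((a : MulAut G) n * n⁻¹)
        rw [MulAut.mul_apply, map_mul, map_inv]
        group }
  obtain ⟨a, ha, rfl⟩ := hw
  have h1 : φ a = 1 := Abelianization.commutator_subset_ker φ ha
  refine ⟨hd _ a.2, ?_⟩
  have h2 := congrArg (fun z : center C0 => ((z : C0) : G)) h1
  simp only [φ, MonoidHom.coe_mk, OneHom.coe_mk, hf, OneMemClass.coe_one] at h2
  exact h2

/-- An involution in the derived group fixes everything. -/
theorem eq_one_of_commutator (hO : ∀ N : Subgroup G, N.Normal → Odd (Nat.card N) → N = ⊥)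
    (hC : ∀ a ∈ C, ∀ s ∈ (S : Subgroup G), a s = s) {w : MulAut G} (hw : w ∈ (commutator C).map C.subtype)
    (hw2 : w ^ 2 = 1) : w = 1 := by
  classical
  by_contra hw1
  haveI : Fact (Nat.Prime 2) := ⟨Nat.prime_two⟩
  have hwC : w ∈ C := Subgroup.map_subtype_le _ hw
  have hordw : orderOf w = 2 := orderOf_eq_prime hw2 hw1
  let φ : zpowers w →* MulAut G := (zpowers w).subtype
  let H := G ⋊[φ] zpowers w
  haveI : Finite (zpowers w) := Nat.finite_of_card_ne_zero (by rw [Nat.card_zpowers, hordw]; norm_num)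
  haveI : Finite H := Finite.of_equiv _ SemidirectProduct.equivProd.symm
  let u : H := SemidirectProduct.inr ⟨w, mem_zpowers w⟩
  have hu : orderOf u = 2 := by
    rw [orderOf_injective _ SemidirectProduct.inr_injective, ← hordw, ← Subgroup.orderOf_coe]
  have hconj : ∀ g : G, u * SemidirectProduct.inl g * u⁻¹ = SemidirectProduct.inl (w g) := fun g =>
    by
      rw [← map_inv]
      exact (SemidirectProduct.inl_aut (φ := φ) ⟨w, mem_zpowers w⟩ g).symm
  -- a Sylow subgroup containing `S` and `u`
  set S' := (S : Subgroup G).map (SemidirectProduct.inl : G →* H) with hS'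
  have huS : zpowers u ≤ centralizer (S' : Set H) := zpowers_le.mpr (mem_centralizer_iff.mpr (by
    rintro _ ⟨s, hs, rfl⟩
    have h1 := hconj s
    rw [hC w hwC s hs, mul_inv_eq_iff_eq_mul] at h1
    exact h1.symm))
  obtain ⟨X, hX⟩ := (IsPGroup.to_sup_of_normal_right'
    (IsPGroup.of_card (p := 2) (n := 1) (by rw [Nat.card_zpowers, hu, pow_one]))
    (S.2.map (SemidirectProduct.inl : G →* H))
    (huS.trans (centralizer_le_normalizer _))).exists_le_sylow
  have huX : u ∈ (X : Subgroup H) := hX (mem_sup_left (mem_zpowers u))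
  have hSX : ∀ s : G, s ∈ (S : Subgroup G) ↔ SemidirectProduct.inl s ∈ (X : Subgroup H) := by
    intro s
    refine ⟨fun hs => hX (mem_sup_right ⟨s, hs, rfl⟩), fun hs => ?_⟩
    have hle : (S : Subgroup G) ≤ (X : Subgroup H).comap SemidirectProduct.inl := fun t ht =>
      hX (mem_sup_right ⟨t, ht, rfl⟩)
    have e := S.3 (X.2.comap_of_injective _ SemidirectProduct.inl_injective) hle
    exact e ▸ (mem_comap.mpr hs)
  have hdec : ∀ x : H, ∃ g : G, x = SemidirectProduct.inl g ∨ x = SemidirectProduct.inl g * u := by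
    intro x
    refine ⟨x.left, ?_⟩
    rw [← SemidirectProduct.inl_left_mul_inr_right x, SemidirectProduct.mul_left]
    obtain ⟨k, hk⟩ := mem_zpowers_iff.mp x.right.2
    have hk' : x.right = 1 ∨ x.right = ⟨w, mem_zpowers w⟩ := by
      rcases Int.even_or_odd k with ⟨j, rfl⟩ | ⟨j, rfl⟩
      · left
        refine Subtype.ext ?_
        rw [← hk, ← two_mul, zpow_mul, zpow_two, ← sq, hw2, one_zpow]; rfl
      · right
        refine Subtype.ext ?_
        rw [← hk, zpow_add, zpow_mul, zpow_two, ← sq, hw2, one_zpow, one_mul, zpow_one]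
    rcases hk' with h | h <;> [left; right] <;> simp [h, u]
  have hcent : ∀ x ∈ (X : Subgroup H), x * u = u * x := by
    intro x hx
    obtain ⟨g, rfl | rfl⟩ := hdec x
    · exact mem_centralizer_iff.mp (huS (mem_zpowers u)) _ ⟨g, (hSX g).mpr hx, rfl⟩
    · have hg : g ∈ (S : Subgroup G) := (hSX g).mpr (by
        simpa using (X : Subgroup H).mul_mem hx ((X : Subgroup H).inv_mem huX))
      rw [mem_centralizer_iff.mp (huS (mem_zpowers u)) _ ⟨g, hg, rfl⟩, mul_assoc,
        mem_centralizer_iff.mp (huS (mem_zpowers u)) _ ⟨g, hg, rfl⟩]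
  have hiso : Cfsg.IsIsolated u := by
    refine isolated_of_centric X hu huX hcent fun P hPX hPc hPn => ?_
    have huP : u ∈ P := hPc ⟨huX, mem_centralizer_iff.mpr fun p hp => hcent p (hPX hp)⟩
    set P₀ := P.comap (SemidirectProduct.inl : G →* H) with hP₀
    have hP₀S : P₀ ≤ (S : Subgroup G) := fun p hp => (hSX p).mpr (hPX hp)
    have hPdec : ∀ x ∈ P, ∃ p ∈ P₀, x = SemidirectProduct.inl p ∨ x = SemidirectProduct.inl p * u := by
      intro x hx
      obtain ⟨p, rfl | rfl⟩ := hdec x
      · exact ⟨p, hx, Or.inl rfl⟩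
      · exact ⟨p, mem_comap.mpr (by simpa using P.mul_mem hx (P.inv_mem huP)), Or.inr rfl⟩
    have huC : ∀ p ∈ P₀, u * SemidirectProduct.inl p * u⁻¹ = SemidirectProduct.inl p := fun p hp => by
      rw [hconj, hC w hwC p (hP₀S hp)]
    -- the centralizer of `P₀` in `S`
    set Z₀ : Subgroup G := (S : Subgroup G) ⊓ centralizer (P₀ : Set G) with hZ₀
    have hinlC : ∀ t ∈ Z₀, ∀ x ∈ P, x * SemidirectProduct.inl t = SemidirectProduct.inl t * x := by
      intro t ht x hx
      obtain ⟨p, hp, rfl | rfl⟩ := hPdec x hx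
      · rw [← map_mul, mem_centralizer_iff.mp ht.2 p hp, map_mul]
      · have h1 := mem_centralizer_iff.mp (huS (mem_zpowers u)) _ ⟨t, ht.1, rfl⟩
        rw [mul_assoc, ← h1, ← mul_assoc, ← map_mul, mem_centralizer_iff.mp ht.2 p hp, map_mul, mul_assoc]
    have hZP : Z₀ ≤ P₀ := fun t ht =>
      hPc ⟨(hSX t).mp ht.1, mem_centralizer_iff.mpr fun x hx => hinlC t ht x hx⟩
    set Q₀ : Subgroup H := P₀.map SemidirectProduct.inl with hQ₀
    set CH : Subgroup H := centralizer (Q₀ : Set H) with hCH
    set A : Subgroup H := Z₀.map SemidirectProduct.inl ⊔ zpowers u with hA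
    have hQP : Q₀ ≤ P := map_le_iff_le_comap.mpr le_rfl
    have hAP : A ≤ P := sup_le ((map_mono hZP).trans hQP) (zpowers_le.mpr huP)
    have hAC : A ≤ CH := sup_le
      (by
        rintro _ ⟨t, ht, rfl⟩
        exact mem_centralizer_iff.mpr fun x hx => hinlC t ht x (hQP hx))
      (zpowers_le.mpr (mem_centralizer_iff.mpr (by
        rintro _ ⟨p, hp, rfl⟩
        exact (mul_inv_eq_iff_eq_mul.mp (huC p hp)).symm)))
    have hN : normalizer (P : Set H) ≤ normalizer (Q₀ : Set H) := by
      intro n hn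
      have e : Q₀ = P ⊓ (SemidirectProduct.inl : G →* H).range := by
        rw [hQ₀, hP₀, map_comap_eq, inf_comm]
      haveI : (SemidirectProduct.inl : G →* H).range.Normal := by
        rw [SemidirectProduct.range_inl_eq_ker_rightHom]; infer_instance
      rw [e]
      exact inf_normalizer_le_normalizer_inf ⟨hn, by rw [normalizer_eq_top]; exact mem_top n⟩
    have hDX : (normalizerIn (X : Subgroup H) P ⊓ (CH ⊓ normalizer (P : Set H))) ≤ A := by
      intro x hx
      have hxX := hx.1.1
      have hxC := hx.2.1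
      have hu' : u ∈ A := mem_sup_right (mem_zpowers u)
      obtain ⟨g, rfl | rfl⟩ := hdec x
      · refine mem_sup_left ⟨g, ⟨(hSX g).mpr hxX, mem_centralizer_iff.mpr fun p hp => ?_⟩, rfl⟩
        refine SemidirectProduct.inl_injective (φ := φ) ?_
        rw [map_mul, map_mul]
        exact mem_centralizer_iff.mp hxC _ ⟨p, hp, rfl⟩
      · refine A.mul_mem (mem_sup_left ⟨g, ⟨(hSX g).mpr ?_, mem_centralizer_iff.mpr fun p hp => ?_⟩, rfl⟩) hu'
        · simpa using (X : Subgroup H).mul_mem hxX ((X : Subgroup H).inv_mem huX)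
        · refine SemidirectProduct.inl_injective (φ := φ) ?_
          have h1 := CH.mul_mem hxC (CH.inv_mem (hAC hu'))
          rw [mul_inv_cancel_right] at h1
          rw [map_mul, map_mul]
          exact mem_centralizer_iff.mp h1 _ ⟨p, hp, rfl⟩
    have hDn : normalizer (P : Set H) ≤ normalizer ((CH ⊓ normalizer (P : Set H) : Subgroup H) : Set H) :=
      (le_inf (hN.trans (normalizer_le_centralizer_normalizer Q₀)) Subgroup.le_normalizer).trans
        inf_normalizer_le_normalizer_inf
    have hDsyl := hPn.inf_of_normal inf_le_right hDn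
    have hA2 : IsPGroup 2 A := X.2.to_le (hAP.trans hPX)
    -- `A` is Sylow in the centralizer of `Q₀`
    have hAsyl : IsSylowIn 2 A CH := by
      obtain ⟨T, hT⟩ := exists_isSylowIn 2 CH
      obtain ⟨b, hb, hbA⟩ := hT.exists_conj_le hA2 hAC
      set T' : Subgroup H := T.map (MulAut.conj b⁻¹).toMonoidHom with hT'
      have hAT : A ≤ T' := fun x hx => ⟨_, hbA x hx, by simp [mul_assoc]⟩
      have hT2 : IsPGroup 2 T' := hT.2.1.map _
      have hTC : T' ≤ CH := by
        rintro _ ⟨x, hx, rfl⟩
        simpa using CH.mul_mem (CH.mul_mem (CH.inv_mem hb) (hT.1 hx)) hb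
      have hTsyl : IsSylowIn 2 T' CH := isSylowIn_of_card_eq hT hT2 hTC
        (le_of_eq (card_map_of_injective (MulEquiv.injective _)).symm)
      suffices hAT' : A = T' by rwa [hAT']
      haveI : Group.IsNilpotent T' := hT2.isNilpotent
      by_contra hne
      have hlt : A.subgroupOf T' < ⊤ := lt_top_iff_ne_top.mpr fun e =>
        hne (le_antisymm hAT (subgroupOf_eq_top.mp e))
      obtain ⟨y, hy, hyA⟩ := SetLike.exists_of_lt
        (Group.normalizerCondition_of_isNilpotent _ hlt)
      have hyn : (y : H) ∈ normalizer (P : Set H) := by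
        refine normalizes_of_map_mem fun x hx => ?_
        obtain ⟨p, hp, rfl | rfl⟩ := hPdec x hx
        · rw [← mem_centralizer_iff.mp (hTC y.2) _ ⟨p, hp, rfl⟩, mul_inv_cancel_right]
          exact hp
        · have h1 : (y : H) * u * (y : H)⁻¹ ∈ A := mem_subgroupOf.mp
            ((mem_normalizer_iff.mp hy ⟨u, hAT (mem_sup_right (mem_zpowers u))⟩).mp
              (mem_sup_right (mem_zpowers u)))
          rw [show (y : H) * (SemidirectProduct.inl p * u) * (y : H)⁻¹ =
            (y : H) * SemidirectProduct.inl p * (y : H)⁻¹ * ((y : H) * u * (y : H)⁻¹) by simp only [mul_assoc, inv_mul_cancel_left],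
            ← mem_centralizer_iff.mp (hTC y.2) _ ⟨p, hp, rfl⟩, mul_inv_cancel_right]
          exact P.mul_mem hp (hAP h1)
      have hle : A ⊔ zpowers (y : H) ≤ CH ⊓ normalizer (P : Set H) :=
        sup_le (le_inf hAC (hAP.trans Subgroup.le_normalizer)) (zpowers_le.mpr ⟨hTC y.2, hyn⟩)
      have h2 := hDsyl.card_le (hT2.to_le (sup_le hAT (zpowers_le.mpr y.2))) hle
      have h3 := eq_of_le_of_card_ge (le_sup_left : A ≤ A ⊔ zpowers (y : H))
        (h2.trans (card_le_of_le hDX))
      exact hyA (mem_subgroupOf.mpr (h3 ▸ mem_sup_right (mem_zpowers _)))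
    have hZsyl : IsSylowIn 2 Z₀ (centralizer (P₀ : Set G)) := by
      refine ⟨inf_le_right, S.2.to_le inf_le_left, ?_⟩
      haveI : (SemidirectProduct.inl : G →* H).range.Normal := by
        rw [SemidirectProduct.range_inl_eq_ker_rightHom]; infer_instance
      have hnorm : CH ≤ normalizer ((CH ⊓ (SemidirectProduct.inl : G →* H).range : Subgroup H) : Set H) :=
        (le_inf Subgroup.le_normalizer (by rw [normalizer_eq_top]; exact le_top)).trans
          inf_normalizer_le_normalizer_inf
      have h1 := (hAsyl.inf_of_normal inf_le_left hnorm).2.2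
      have e1 : CH ⊓ (SemidirectProduct.inl : G →* H).range =
          (centralizer (P₀ : Set G)).map SemidirectProduct.inl := by
        ext x
        constructor
        · rintro ⟨hx, g, rfl⟩
          refine ⟨g, mem_centralizer_iff.mpr fun p hp => SemidirectProduct.inl_injective (φ := φ) ?_, rfl⟩
          rw [map_mul, map_mul]
          exact mem_centralizer_iff.mp hx _ ⟨p, hp, rfl⟩
        · rintro ⟨g, hg, rfl⟩
          refine ⟨mem_centralizer_iff.mpr ?_, g, rfl⟩
          rintro _ ⟨p, hp, rfl⟩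
          rw [← map_mul, ← map_mul, mem_centralizer_iff.mp hg p hp]
      have e2 : A ⊓ (CH ⊓ (SemidirectProduct.inl : G →* H).range) = Z₀.map SemidirectProduct.inl := by
        refine le_antisymm ?_ (le_inf le_sup_left (le_inf (le_sup_left.trans hAC) (map_le_range _ _)))
        rintro _ ⟨hx, hxC, g, rfl⟩
        refine ⟨g, ⟨(hSX g).mpr (hPX (hAP hx)), ?_⟩, rfl⟩
        obtain ⟨g', hg', e⟩ := e1.le ⟨hxC, g, rfl⟩
        rwa [← SemidirectProduct.inl_injective e]
      rw [e2, e1] at h1
      rwa [relIndex_map_map_of_injective _ _ SemidirectProduct.inl_injective] at h1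
    -- every normalising element centralises `u`
    intro n hn
    have hfix : ∀ g : G, SemidirectProduct.inl g ∈ normalizer (P : Set H) → w g = g := by
      intro g hg
      have hs : g * (w g)⁻¹ ∈ P₀ := by
        refine mem_comap.mpr ?_
        have h1 := P.mul_mem ((mem_normalizer_iff.mp hg u).mp huP) (P.inv_mem huP)
        rwa [show SemidirectProduct.inl g * u * (SemidirectProduct.inl g)⁻¹ * u⁻¹ =
          SemidirectProduct.inl g * (u * (SemidirectProduct.inl g)⁻¹ * u⁻¹) by group, ← map_inv, hconj,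
          ← map_mul, map_inv] at h1
      have hgN : g ∈ normalizer (P₀ : Set G) := normalizes_of_map_mem fun x hx => by
        show SemidirectProduct.inl (g * x * g⁻¹) ∈ P
        rw [map_mul, map_mul, map_inv]
        exact (mem_normalizer_iff.mp hg _).mp hx
      obtain ⟨hd1, hd2⟩ := pow_eq_one_of_commutator hC hP₀S inf_le_left hZP hZsyl hw hgN
      have hs' : w g * g⁻¹ ∈ P₀ := by simpa using P₀.inv_mem hs
      obtain ⟨i, hi⟩ := IsPGroup.iff_card.mp (S.2.to_le hP₀S)
      have h1 : orderOf (w g * g⁻¹) ∣ 2 ^ i := by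
        rw [← hi, ← Nat.card_zpowers]
        exact card_dvd_of_le (zpowers_le.mpr hs')
      have h2 := orderOf_dvd_of_pow_eq_one hd2
      have hco : Nat.Coprime (2 ^ i) (Z₀.relIndex (centralizer (P₀ : Set G))) :=
        Nat.Coprime.pow_left i (Nat.prime_two.coprime_iff_not_dvd.mpr hZsyl.2.2)
      exact mul_inv_eq_one.mp (orderOf_eq_one_iff.mp (Nat.eq_one_of_dvd_coprimes hco h1 h2))
    have hgu : ∀ g : G, SemidirectProduct.inl g ∈ normalizer (P : Set H) →
        SemidirectProduct.inl g * u * (SemidirectProduct.inl g)⁻¹ = u := fun g hg => by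
      have h1 := hconj g
      rw [hfix g hg, mul_inv_eq_iff_eq_mul] at h1
      rw [← h1, mul_inv_cancel_right]
    obtain ⟨g, rfl | rfl⟩ := hdec n
    · exact hgu g hn
    · have h0 := (normalizer (P : Set H)).mul_mem hn (inv_mem (Subgroup.le_normalizer huP))
      rw [mul_inv_cancel_right] at h0
      have h1 := hgu g h0
      rw [show SemidirectProduct.inl g * u * u * (SemidirectProduct.inl g * u)⁻¹ =
        SemidirectProduct.inl g * u * (SemidirectProduct.inl g)⁻¹ by group]
      exact h1
  -- `Z*`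
  refine hw1 (MulEquiv.ext fun g => ?_)
  have h1 := ZStar.commutator_mem hu hiso (SemidirectProduct.inl g)
  rw [hconj, ← map_inv, ← map_mul] at h1
  have hO' : (pPrimeCore 2 H).comap (SemidirectProduct.inl : G →* H) = ⊥ := by
    refine hO _ inferInstance ?_
    refine (Nat.coprime_two_right.mp (CfsgLib.card_pPrimeCore_coprime (G := H) 2)).of_dvd_nat ?_
    rw [← card_map_of_injective (SemidirectProduct.inl_injective (φ := φ))]
    exact card_dvd_of_le (map_comap_le _ _)
  have h2 := hO'.le (mem_comap.mpr h1)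
  rw [mem_bot, mul_inv_eq_one] at h2
  exact h2

/-- The derived group of the automorphisms fixing a Sylow 2-subgroup has odd order. -/
theorem commutator_odd (hO : ∀ N : Subgroup G, N.Normal → Odd (Nat.card N) → N = ⊥)
    (hC : ∀ a ∈ C, ∀ s ∈ (S : Subgroup G), a s = s) : Odd (Nat.card (commutator C)) := by
  by_contra hev
  rw [Nat.not_odd_iff_even] at hev
  haveI : Fact (Nat.Prime 2) := ⟨Nat.prime_two⟩
  obtain ⟨x, hx⟩ := exists_prime_orderOf_dvd_card' 2 hev.two_dvd
  have h1 : ((x : C) : MulAut G) = 1 := eq_one_of_commutator hO hC ⟨x, x.2, rfl⟩ (by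
    have := congrArg (fun z : commutator C => ((z : C) : MulAut G)) (pow_orderOf_eq_one x)
    rw [hx] at this
    simpa using this)
  rw [show x = 1 from Subtype.ext (Subtype.ext h1), orderOf_one] at hx
  norm_num at hx

/-- **S0227**, given that groups of odd order are solvable. -/
theorem glauberman_fix_sylow (odd : ∀ (H : Type u) [Group H] [Finite H], Odd (Nat.card H) → Group.IsSolvable H)
    (hO : ∀ N : Subgroup G, N.Normal → Odd (Nat.card N) → N = ⊥)
    (hC : ∀ φ : MulAut G, φ ∈ C ↔ ∀ s : G, s ∈ S → φ s = s) :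
    (∀ T : Sylow 2 ↥C, (∀ a b : ↥T, a * b = b * a) ∧
      ∃ N : Subgroup ↥C, N.Normal ∧ Subgroup.IsComplement' N (T : Subgroup ↥C)) ∧ Group.IsSolvable ↥C := by
  haveI : Fact (Nat.Prime 2) := ⟨Nat.prime_two⟩
  have hodd := commutator_odd hO fun a ha => (hC a).mp ha
  refine ⟨fun T => ?_, ?_⟩
  · have hbot : ∀ x ∈ (T : Subgroup C), x ∈ commutator C → x = 1 := by
      intro x hx hx'
      obtain ⟨i, hi⟩ := IsPGroup.iff_card.mp T.2
      refine orderOf_eq_one_iff.mp (Nat.eq_one_of_dvd_coprimes
        (Nat.Coprime.pow_left i (Nat.coprime_two_left.mpr hodd)) ?_ ?_)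
      · rw [← hi, ← Nat.card_zpowers]
        exact card_dvd_of_le (zpowers_le.mpr hx)
      · rw [← Nat.card_zpowers]
        exact card_dvd_of_le (zpowers_le.mpr hx')
    have hcomm : ∀ a b : C, ⁅a, b⁆ ∈ commutator C := fun a b =>
      commutator_mem_commutator (mem_top a) (mem_top b)
    refine ⟨fun a b => Subtype.ext ?_, (MonoidHom.transferSylow T ?_).ker, inferInstance,
      MonoidHom.ker_transferSylow_isComplement' T ?_⟩
    · refine commutatorElement_eq_one_iff_mul_comm.mp (hbot _ ?_ (hcomm _ _))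
      exact mul_mem (mul_mem (mul_mem a.2 b.2) (inv_mem a.2)) (inv_mem b.2)
    all_goals
      intro n hn
      refine mem_centralizer_iff.mpr fun t ht => ?_
      have h1 := (mem_normalizer_iff.mp hn t).mp ht
      have h2 := hbot _ (mul_mem h1 (inv_mem ht)) (by simpa [commutatorElement_def] using hcomm n t)
      exact ((mul_inv_eq_iff_eq_mul.mp (mul_inv_eq_one.mp h2))).symm
  · haveI := odd _ hodd
    haveI : Group.IsSolvable (Abelianization C) :=
      Group.isSolvable_of_comm fun a b => mul_comm a b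
    exact Group.isSolvable_of_ker_le_range (commutator C).subtype Abelianization.of
      (by rw [range_subtype, Abelianization.ker_of])

end CfsgLib.AfterFT.FixSylow
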