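import Cfsg.Agent.Lib.AfterFT.GammaNilQuot

/-!
Row 3900, soluble step: if coprime elements act trivially on every `O_q` then a soluble group is nilpotent, and
under the value condition this applies to `G / F(G)`.
-/

set_option autoImplicit false
set_option linter.style.haveILetI false

namespace CfsgLib.AfterFT

open Cfsg Subgroup

universe u
variable {G : Type u} [Group G] [Finite G]

theorem isNilpotent_of_coprime_centralize [Group.IsSolvable G]
    (h : ∀ (q : ℕ) [Fact q.Prime] (g : G), ¬ q ∣ orderOf g → ∀ v ∈ pCore q G, Commute v g) : Group.IsNilpotent G := by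
  classical
  refine (Group.isNilpotent_of_finite_tfae.out 0 3 rfl rfl).mpr fun q hq Q => ?_
  haveI : Fact q.Prime := hq
  haveI : ∀ p : {p : Nat.Primes // (p : ℕ) ≠ q}, (centralizer (pCore ((p.1 : Nat.Primes) : ℕ) G : Set G)).Normal :=
    fun p => inferInstance
  set K := ⨅ p : {p : Nat.Primes // (p : ℕ) ≠ q}, centralizer (pCore ((p.1 : Nat.Primes) : ℕ) G : Set G) with hK
  haveI hKn : K.Normal := Subgroup.normal_iInf_normal this
  have hQK : (Q : Subgroup G) ≤ K := le_iInf fun p x hx => Subgroup.mem_centralizer_iff.mpr fun v hv => by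
    haveI : Fact (Nat.Prime (p.1 : ℕ)) := ⟨p.1.2⟩
    obtain ⟨i, hi⟩ := IsPGroup.iff_orderOf.mp Q.2 ⟨x, hx⟩
    rw [Subgroup.orderOf_mk] at hi
    exact (h _ x (fun hd => p.2 ((Nat.prime_dvd_prime_iff_eq p.1.2 hq.out).mp (p.1.2.dvd_of_dvd_pow (hi ▸ hd)))) v hv).eq
  set F := fittingSubgroup G
  haveI : F.Normal := inferInstance
  have hF : F ≤ normalizer ((Q : Subgroup G) : Set G) := by
    show fittingSubgroup G ≤ _
    rw [fittingSubgroup_eq_iSup_pCore]
    refine iSup_le fun p => ?_
    by_cases hpq : (p : ℕ) = q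
    · rw [hpq]; exact (CfsgLib.pCore_le_sylow Q).trans le_normalizer
    · refine le_trans ?_ (centralizer_le_normalizer _)
      exact fun g hg => Subgroup.mem_centralizer_iff.mpr fun z hz =>
        (Subgroup.mem_centralizer_iff.mp (Subgroup.mem_iInf.mp (hQK hz) ⟨p, hpq⟩) g hg).symm
  -- `q'`-elements of `K` lie in `F`
  have hKF : ∀ z ∈ K, ¬ q ∣ orderOf z → z ∈ F := fun z hz hzq =>
    CfsgLib.centralizer_fitting_le (by
      have hle : F ≤ centralizer ({z} : Set G) := by
        show fittingSubgroup G ≤ _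
        rw [fittingSubgroup_eq_iSup_pCore]
        refine iSup_le fun p => fun v hv => Subgroup.mem_centralizer_singleton_iff.mpr ?_
        by_cases hpq : (p : ℕ) = q
        · exact (h q z hzq v (hpq ▸ hv)).eq
        · exact Subgroup.mem_centralizer_iff.mp (Subgroup.mem_iInf.mp hz ⟨p, hpq⟩) v hv
      exact Subgroup.mem_centralizer_iff.mpr fun v hv => Subgroup.mem_centralizer_singleton_iff.mp (hle hv))
  let π := QuotientGroup.mk' F
  let Qb : Sylow q (G ⧸ F) := Q.mapSurjective (QuotientGroup.mk'_surjective F)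
  have hQb : (Qb : Subgroup (G ⧸ F)) = (Q : Subgroup G).map π := rfl
  have hKp : IsPGroup q (K.map π) := by
    rw [IsPGroup.iff_orderOf]
    rintro ⟨_, z, hz, rfl⟩
    obtain ⟨i, m, hm, he⟩ := Nat.exists_eq_pow_mul_and_not_dvd (orderOf_pos z).ne' q hq.out.ne_one
    have hzF : z ^ (q ^ i) ∈ F := hKF _ (K.pow_mem hz _) (by
      rw [orderOf_pow, he, Nat.gcd_mul_right_left, Nat.mul_div_cancel_left _ (pow_pos hq.out.pos i)]; exact hm)
    obtain ⟨t, -, ht⟩ := (Nat.dvd_prime_pow hq.out).mp (orderOf_dvd_of_pow_eq_one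
      (show (π z) ^ (q ^ i) = 1 by rw [← map_pow]; exact (QuotientGroup.eq_one_iff _).mpr hzF))
    exact ⟨t, (orderOf_injective (K.map π).subtype Subtype.val_injective _).symm.trans ht⟩
  have hKQ : K ≤ normalizer ((Q : Subgroup G) : Set G) := by
    intro z hz
    have h1 : π z ∈ (Qb : Subgroup (G ⧸ F)) := (Qb.3 hKp (hQb ▸ Subgroup.map_mono hQK)).le ⟨z, hz, rfl⟩
    rw [hQb] at h1
    obtain ⟨x, hx, he⟩ := h1
    have hxz : x⁻¹ * z ∈ F := QuotientGroup.eq.mp he
    rw [show z = x * (x⁻¹ * z) by group]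
    exact Subgroup.mul_mem _ (le_normalizer hx) (hF hxz)
  -- `Q` is the only Sylow subgroup of `K`
  refine Subgroup.normalizer_eq_top_iff.mp (eq_top_iff.mpr fun g _ => ?_)
  refine Subgroup.mem_normalizer_iff_map_conj_eq.mpr ?_
  set Q' := (Q : Subgroup G).map (MulAut.conj g).toMonoidHom
  have hQ'K : Q' ≤ K := by
    rintro _ ⟨x, hx, rfl⟩
    exact hKn.conj_mem x (hQK hx) g
  have hsup : IsPGroup q ↥((Q : Subgroup G) ⊔ Q') := by
    rw [sup_comm]
    exact IsPGroup.to_sup_of_normal_right' (Q.2.map _) Q.2 (hQ'K.trans hKQ)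
  have hle : Q' ≤ (Q : Subgroup G) := le_sup_right.trans (Q.3 hsup le_sup_left).le
  exact Subgroup.eq_of_le_of_card_ge hle
    (Nat.card_congr ((Q : Subgroup G).equivMapOfInjective _ (MulAut.conj g).injective).toEquiv).le

theorem isNilpotent_quotient_fitting [Group.IsSolvable G] (k : ℕ)
    (hcomm : ∀ x : G, GammaValue k x → ∀ (p : ℕ) [Fact p.Prime], ¬ p ∣ orderOf x → ∀ P : Subgroup G, IsPGroup p P →
      (∀ m ∈ P, x * m * x⁻¹ ∈ P) → ∀ m ∈ P, Commute m x)
    [(fittingSubgroup G).Normal] : Group.IsNilpotent (G ⧸ fittingSubgroup G) := by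
  classical
  set F := fittingSubgroup G with hF
  let π := QuotientGroup.mk' F
  have hsurj : Function.Surjective π := QuotientGroup.mk'_surjective F
  refine isNilpotent_of_coprime_centralize fun q _ gb hgb vb hvb => ?_
  set R := (pCore q (G ⧸ F)).comap π with hR
  haveI hRn : R.Normal := Subgroup.Normal.comap inferInstance π
  have hFR : F ≤ R := fun x hx => by
    show π x ∈ pCore q (G ⧸ F)
    rw [show π x = 1 from (QuotientGroup.eq_one_iff x).mpr hx]; exact one_mem _
  obtain ⟨QR⟩ : Nonempty (Sylow q R) := inferInstance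
  set Q := (QR : Subgroup R).map R.subtype with hQ
  have hQR : Q ≤ R := Subgroup.map_subtype_le _
  have hQp : IsPGroup q Q := QR.2.map _
  have hmap : Q.map π = pCore q (G ⧸ F) := by
    let f := π.subgroupComap (pCore q (G ⧸ F))
    have hf : Function.Surjective f := fun y => by
      obtain ⟨x, hx⟩ := hsurj y
      exact ⟨⟨x, show π x ∈ pCore q (G ⧸ F) from hx ▸ y.2⟩, Subtype.ext hx⟩
    have h1 := (QR.mapSurjective hf).3 (IsPGroup.of_equiv (isPGroup_pCore (G := G ⧸ F) q) Subgroup.topEquiv.symm) le_top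
    refine le_antisymm ((Subgroup.map_mono hQR).trans (Subgroup.map_comap_le _ _)) fun y hy => ?_
    obtain ⟨x, hx, he⟩ := h1.le (Subgroup.mem_top (⟨y, hy⟩ : pCore q (G ⧸ F)))
    exact ⟨x, ⟨x, hx, rfl⟩, congrArg Subtype.val he⟩
  have hsup : normalizer (Q : Set G) ⊔ F = ⊤ := by
    have := Sylow.normalizer_sup_eq_top QR
    refine eq_top_iff.mpr (this.ge.trans (sup_le le_sup_left ?_))
    intro x hx
    obtain ⟨y, hy, he⟩ : π x ∈ Q.map π := hmap ▸ hx
    rw [show x = y * (y⁻¹ * x) by group]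
    exact mul_mem_sup (le_normalizer hy) (QuotientGroup.eq.mp he)
  -- a lift of `gb` of order prime to `q` normalising `Q`
  obtain ⟨g, rfl⟩ := hsurj gb
  obtain ⟨n, hn, d, hd, hnd⟩ := Subgroup.mem_sup_of_normal_right.mp (hsup ▸ Subgroup.mem_top g)
  have hπn : π n = π g := by
    rw [← hnd, map_mul, show π d = 1 from (QuotientGroup.eq_one_iff d).mpr hd, mul_one]
  obtain ⟨i, r, hr, he⟩ := Nat.exists_eq_pow_mul_and_not_dvd (orderOf_pos n).ne' q (Fact.out : q.Prime).ne_one
  set b := n ^ (q ^ i) with hb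
  have hbq : ¬ q ∣ orderOf b := by
    rw [hb, orderOf_pow, he, Nat.gcd_mul_right_left, Nat.mul_div_cancel_left _ (pow_pos (Fact.out : q.Prime).pos i)]
    exact hr
  have hbn : ∀ m ∈ Q, b * m * b⁻¹ ∈ Q := fun m hm =>
    (Subgroup.mem_normalizer_iff.mp (Subgroup.pow_mem _ hn _) m).mp hm
  have hit : ∀ j, ∀ m ∈ Q, (stepComm b)^[j] m ∈ Q := by
    intro j
    induction j with
    | zero => exact fun m hm => hm
    | succ j ih =>
      intro m hm
      rw [Function.iterate_succ_apply']
      rw [show stepComm b ((stepComm b)^[j] m) =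
        (stepComm b)^[j] m * (b * ((stepComm b)^[j] m)⁻¹ * b⁻¹) by simp [stepComm, mul_assoc]]
      exact Q.mul_mem (ih m hm) (hbn _ (Q.inv_mem (ih m hm)))
  -- the values in `Q` lie in a normal `q`-subgroup
  haveI : ∀ p : {p : Nat.Primes // (p : ℕ) ≠ q}, (centralizer (pCore ((p.1 : Nat.Primes) : ℕ) G : Set G)).Normal :=
    fun p => inferInstance
  set C := ⨅ p : {p : Nat.Primes // (p : ℕ) ≠ q}, centralizer (pCore ((p.1 : Nat.Primes) : ℕ) G : Set G) with hC
  haveI hCn : C.Normal := Subgroup.normal_iInf_normal this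
  have hQC : normalizer (Q : Set G) ≤ normalizer ((Q ⊓ C : Subgroup G) : Set G) := fun x hx =>
    Subgroup.mem_normalizer_iff.mpr fun z => by
      simp only [Subgroup.mem_inf]
      exact and_congr (Subgroup.mem_normalizer_iff.mp hx z)
        ⟨fun h => hCn.conj_mem z h x, fun h => by simpa [mul_assoc] using hCn.conj_mem _ h x⁻¹⟩
  have hQCn : (Q ⊓ C).Normal := by
    refine Subgroup.normalizer_eq_top_iff.mp (eq_top_iff.mpr (hsup.ge.trans (sup_le hQC ?_)))
    rw [hF, fittingSubgroup_eq_iSup_pCore]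
    refine iSup_le fun p => ?_
    by_cases hpq : (p : ℕ) = q
    · rw [hpq]
      intro x hx
      refine hQC (le_normalizer ?_)
      have hxR : x ∈ R := hFR (CfsgLib.pCore_le_fittingSubgroup (Fact.out : q.Prime) hx)
      haveI : ((pCore q G).subgroupOf R).Normal := Subgroup.Normal.subgroupOf inferInstance R
      have hle : (pCore q G).subgroupOf R ≤ pCore q R :=
        le_sSup ⟨inferInstance, IsPGroup.comap_subtype (isPGroup_pCore (G := G) q)⟩
      exact ⟨⟨x, hxR⟩, CfsgLib.pCore_le_sylow QR (hle hx), rfl⟩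
    · refine le_trans ?_ (centralizer_le_normalizer _)
      exact fun x hx => Subgroup.mem_centralizer_iff.mpr fun z hz =>
        (Subgroup.mem_centralizer_iff.mp (Subgroup.mem_iInf.mp hz.2 ⟨p, hpq⟩) x hx).symm
  have hval : ∀ m ∈ Q, π ((stepComm b)^[k] m) = 1 := fun m hm => by
    refine (QuotientGroup.eq_one_iff _).mpr ?_
    haveI := hQCn
    refine le_fittingSubgroup (hQp.to_le inf_le_left : IsPGroup q (Q ⊓ C : Subgroup G)).isNilpotent ?_
    refine ⟨hit k m hm, Subgroup.mem_iInf.mpr fun p => Subgroup.mem_centralizer_iff.mpr fun v hv => ?_⟩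
    haveI : Fact (Nat.Prime (p.1 : ℕ)) := ⟨p.1.2⟩
    refine (hcomm _ (gammaValue_iterate k b m) _ ?_ _ (isPGroup_pCore (G := G) _) (fun v hv => ?_) v hv).eq
    · obtain ⟨j, hj⟩ := IsPGroup.iff_orderOf.mp hQp ⟨_, hit k m hm⟩
      rw [Subgroup.orderOf_mk] at hj
      rw [hj]
      exact fun h => p.2 ((Nat.prime_dvd_prime_iff_eq p.1.2 Fact.out).mp (p.1.2.dvd_of_dvd_pow h))
    · exact Subgroup.Normal.conj_mem inferInstance v hv _
  -- descend in the quotient
  have hdesc : ∀ j, (∀ m ∈ Q, π ((stepComm b)^[j + 1] m) = 1) → ∀ m ∈ Q, π (stepComm b m) = 1 := by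
    intro j
    induction j with
    | zero => exact fun h => h
    | succ j ih =>
      intro h
      refine ih fun m hm => ?_
      set a := (stepComm b)^[j] m
      have h2 : π (stepComm b (stepComm b a)) = 1 := by
        have := h m hm
        rwa [Function.iterate_succ_apply', Function.iterate_succ_apply'] at this
      rw [Function.iterate_succ_apply']
      have hc : Commute (π (stepComm b a)) (π b) := by
        have h2' : π (stepComm b a) * π b * (π (stepComm b a))⁻¹ * (π b)⁻¹ = 1 := by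
          rw [← map_mul, ← map_inv, ← map_mul, ← map_inv, ← map_mul]; exact h2
        rwa [mul_inv_eq_one, mul_inv_eq_iff_eq_mul] at h2'
      have hcop : (orderOf (π (stepComm b a))).Coprime (orderOf (π b)) := by
        obtain ⟨t, ht⟩ := IsPGroup.iff_orderOf.mp hQp ⟨_, hit (j + 1) m hm⟩
        rw [Subgroup.orderOf_mk, Function.iterate_succ_apply'] at ht
        exact Nat.Coprime.coprime_dvd_left (orderOf_map_dvd π _) (Nat.Coprime.coprime_dvd_right (orderOf_map_dvd π b)
          (ht ▸ Nat.Coprime.pow_left _ ((Fact.out : q.Prime).coprime_iff_not_dvd.mpr hbq)))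
      have ho := hc.orderOf_mul_eq_mul_orderOf_of_coprime hcop
      rw [← map_mul, show stepComm b a * b = a * b * a⁻¹ by simp [stepComm, mul_assoc], map_mul, map_mul, map_inv,
        show π a * π b * (π a)⁻¹ = (MulAut.conj (π a)).toMonoidHom (π b) by simp,
        orderOf_injective _ (MulAut.conj (π a)).injective] at ho
      exact orderOf_eq_one_iff.mp ((Nat.mul_eq_right (orderOf_pos (π b)).ne').mp ho.symm)
  -- conclude
  obtain ⟨m, hm, rfl⟩ : vb ∈ Q.map π := hmap.symm ▸ hvb
  have hmb : Commute (π m) (π b) := by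
    have h3 : π (stepComm b m) = 1 := hdesc k (fun m hm => by
      rw [Function.iterate_succ_apply]
      refine hval _ ?_
      exact hit 1 m hm) m hm
    have h3' : π m * π b * (π m)⁻¹ * (π b)⁻¹ = 1 := by
      rw [← map_mul, ← map_inv, ← map_mul, ← map_inv, ← map_mul]; exact h3
    rwa [mul_inv_eq_one, mul_inv_eq_iff_eq_mul] at h3'
  have hco : (q ^ i).Coprime (orderOf (π g)) :=
    Nat.Coprime.pow_left _ ((Fact.out : q.Prime).coprime_iff_not_dvd.mpr hgb)
  obtain ⟨t, ht⟩ := exists_pow_eq_self_of_coprime hco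
  rw [← ht, show π g ^ q ^ i = π b by rw [← hπn, hb, map_pow]]
  exact hmb.pow_right t

/-- The soluble case of row 3900. -/
theorem gamma_nilpotent_of_solvable [Group.IsSolvable G] (k : ℕ)
    (hcond : ∀ x y : G, GammaValue k x → GammaValue k y → (orderOf x).Coprime (orderOf y) →
      (∀ r : ℕ, r.Prime → r ∣ orderOf x * orderOf y → r ∣ orderOf (x * y)) ∨
        orderOf x * orderOf y ≤ orderOf (x * y)) :
    Group.IsNilpotent ↥((⊤ : Subgroup G).lowerCentralSeries k) := by
  have hcomm : ∀ x : G, GammaValue k x → ∀ (p : ℕ) [Fact p.Prime], ¬ p ∣ orderOf x → ∀ P : Subgroup G, IsPGroup p P →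
      (∀ m ∈ P, x * m * x⁻¹ ∈ P) → ∀ m ∈ P, Commute m x := fun x hx p _ hxp P hP hn m hm =>
    commute_of_value_normalizes k hcond hx hxp hP hn hm
  haveI := isNilpotent_quotient_fitting k hcomm
  have hle := gamma_le_fitting k hcomm
  haveI : Group.IsNilpotent ↥(fittingSubgroup G) := CfsgLib.isNilpotent_fittingSubgroup
  exact Group.nilpotent_of_mulEquiv (Subgroup.subgroupOfEquivOfLe hle)

end CfsgLib.AfterFT
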