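import Cfsg.Agent.S0116
import Cfsg.Agent.Lib.ZStar.Main

/-!
In a non-abelian simple group of even order some element of odd order normalises an elementary abelian 2-group and
moves an element of it (Glauberman `Z*` with Alperin fusion).
-/

set_option autoImplicit false
set_option linter.style.haveILetI false

namespace CfsgLib.AfterFT

open Cfsg Subgroup

universe u
variable {S : Type u} [Group S] [Finite S]

theorem exists_odd_moving_involution [IsSimpleGroup S] (hna : ¬ IsMulCommutative S) (heven : Even (Nat.card S)) :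
    ∃ (E : Subgroup S) (u z : S), (∀ e ∈ E, e * e = 1) ∧ IsPGroup 2 E ∧ (∀ e ∈ E, u * e * u⁻¹ ∈ E) ∧
      Odd (orderOf u) ∧ z ∈ E ∧ ¬ Commute z u := by
  classical
  by_contra hcon
  haveI : Fact (Nat.Prime 2) := ⟨Nat.prime_two⟩
  obtain ⟨P⟩ : Nonempty (Sylow 2 S) := inferInstance
  haveI : Nontrivial (P : Subgroup S) := by
    rw [Subgroup.nontrivial_iff_ne_bot]
    exact P.ne_bot_of_dvd_card heven.two_dvd
  haveI : Nontrivial (Subgroup.center (P : Subgroup S)) := IsPGroup.center_nontrivial P.2
  obtain ⟨z₀, hz₀⟩ := exists_prime_orderOf_dvd_card' (G := Subgroup.center (P : Subgroup S)) 2 (by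
    obtain ⟨n, hn, e⟩ := (P.2.to_subgroup (Subgroup.center (P : Subgroup S))).nontrivial_iff_card.mp inferInstance
    rw [e]; exact dvd_pow_self 2 hn.ne')
  set z : S := ((z₀ : (P : Subgroup S)) : S) with hzdef
  have hzP : z ∈ (P : Subgroup S) := (z₀ : (P : Subgroup S)).2
  have hz : orderOf z = 2 := by rw [hzdef, Subgroup.orderOf_coe, Subgroup.orderOf_coe, hz₀]
  have hzc : ∀ x ∈ (P : Subgroup S), x * z = z * x := fun x hx =>
    congrArg Subtype.val (Subgroup.mem_center_iff.mp z₀.2 ⟨x, hx⟩)
  have hiso : IsIsolated z := by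
    refine CfsgLib.ZStar.isolated_of_sylow P hz hzP fun g hg => ?_
    obtain ⟨n, Q, x, hprod, hx, h0, hstep⟩ := Cfsg.Agent.S0116.result P {z} g⁻¹
      (fun a ha => by subst ha; exact hzP) (by rintro _ ⟨a, ha, rfl⟩; subst ha; simpa using hg)
    -- each step fixes `z`
    have hfix : ∀ i : Fin n, z ∈ ((P : Subgroup S) ⊓ (Q i : Subgroup S)) → Commute z (x i) := by
      intro i hzD
      obtain ⟨hxN, hidx, -⟩ := hx i
      set D := (P : Subgroup S) ⊓ (Q i : Subgroup S) with hD
      set N := normalizer (D : Set S) with hN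
      have hcD : ∀ d ∈ D, d * z = z * d := fun d hd => hzc d hd.1
      let E : Subgroup S :=
        { carrier := {e | e ∈ D ∧ (∀ d ∈ D, d * e = e * d) ∧ e * e = 1}
          one_mem' := ⟨D.one_mem, by simp, by simp⟩
          mul_mem' := fun {a b} ha hb => ⟨D.mul_mem ha.1 hb.1, fun d hd => by
            rw [← mul_assoc, ha.2.1 d hd, mul_assoc, hb.2.1 d hd, mul_assoc], by
            rw [mul_assoc, ← mul_assoc b, hb.2.1 a ha.1 |>.symm, mul_assoc a b, hb.2.2, mul_one, ha.2.2]⟩
          inv_mem' := fun {a} ha => by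
            have : a⁻¹ = a := inv_eq_of_mul_eq_one_right ha.2.2
            exact this.symm ▸ ha }
      have hzE : z ∈ E := ⟨hzD, hcD, by rw [← pow_two, ← hz, pow_orderOf_eq_one]⟩
      have hodd : ∀ u ∈ N, Odd (orderOf u) → Commute z u := fun u hu huo => by
        by_contra hc
        refine hcon ⟨E, u, z, fun e he => he.2.2, (P.2.to_le inf_le_left).to_le (fun e he => he.1), fun e he => ?_,
          huo, hzE, hc⟩
        refine ⟨(Subgroup.mem_normalizer_iff.mp hu e).mp he.1, fun d hd => ?_, ?_⟩
        · have hd' : u⁻¹ * d * u ∈ D := by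
            refine (Subgroup.mem_normalizer_iff.mp hu _).mpr ?_
            simpa [mul_assoc] using hd
          have h1 := he.2.1 _ hd'
          calc d * (u * e * u⁻¹) = u * ((u⁻¹ * d * u) * e) * u⁻¹ := by group
            _ = u * (e * (u⁻¹ * d * u)) * u⁻¹ := by rw [h1]
            _ = u * e * u⁻¹ * d := by group
        · calc u * e * u⁻¹ * (u * e * u⁻¹) = u * (e * e) * u⁻¹ := by group
            _ = 1 := by rw [he.2.2]; group
      -- `N` is generated by odd elements and `P ∩ N`
      have hC : N ≤ centralizer ({z} : Set S) := by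
        set M := (centralizer ({z} : Set S)).subgroupOf N with hM
        have hle : ((P : Subgroup S) ⊓ N) ≤ centralizer ({z} : Set S) := fun y hy =>
          Subgroup.mem_centralizer_singleton_iff.mpr (hzc y hy.1)
        have h1 : ¬ 2 ∣ M.index := fun h => hidx (h.trans (Subgroup.relIndex_dvd_of_le_left N hle))
        have h2 : ∀ r : ℕ, r.Prime → r ≠ 2 → ¬ r ∣ M.index := fun r hr hr2 hdvd => by
          haveI : Fact r.Prime := ⟨hr⟩
          obtain ⟨R⟩ : Nonempty (Sylow r N) := inferInstance
          refine R.not_dvd_index (hdvd.trans (Subgroup.index_dvd_of_le fun y hy => ?_))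
          obtain ⟨j, hj⟩ := IsPGroup.iff_orderOf.mp R.2 ⟨y, hy⟩
          rw [Subgroup.orderOf_mk] at hj
          refine Subgroup.mem_centralizer_singleton_iff.mpr (hodd y y.2 ?_).eq.symm
          rw [Subgroup.orderOf_coe, hj]
          exact (hr.odd_of_ne_two hr2).pow
        have h3 : M.index = 1 := Nat.eq_one_iff_not_exists_prime_dvd.mpr fun r hr => by
          by_cases hr2 : r = 2
          · exact hr2 ▸ h1
          · exact h2 r hr hr2
        exact Subgroup.subgroupOf_eq_top.mp (Subgroup.index_eq_one.mp h3)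
      exact (Subgroup.mem_centralizer_singleton_iff.mp (hC hxN)).symm
    have hpre : ∀ j, j ≤ n → Commute z (((List.ofFn x).take j).prod) := by
      intro j
      induction j with
      | zero => intro _; simp
      | succ j ih =>
        intro hj
        have hc := ih (Nat.le_of_succ_le hj)
        have hzD : z ∈ ((P : Subgroup S) ⊓ (Q ⟨j, hj⟩ : Subgroup S)) := by
          cases j with
          | zero => exact h0 (by omega) rfl
          | succ i =>
            have := hstep ⟨i, by omega⟩ hj ⟨z, rfl, rfl⟩
            simp only at this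
            rwa [show (((List.ofFn x).take (i + 1)).prod)⁻¹ * z * ((List.ofFn x).take (i + 1)).prod = z by
              rw [mul_assoc, hc.eq, inv_mul_cancel_left]] at this
        rw [List.take_succ_eq_append_getElem (by simpa using hj), List.prod_append, List.prod_singleton]
        exact hc.mul_right (by simpa using hfix ⟨j, hj⟩ hzD)
    have h := hpre n le_rfl
    rw [List.take_of_length_le (by simp), hprod] at h
    have h' : Commute z g := by simpa using h.inv_right
    rw [← h'.eq, mul_inv_cancel_right]
  have hz1 : z ≠ 1 := fun e => by rw [e, orderOf_one] at hz; omega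
  have hO : pPrimeCore 2 S = ⊥ := by
    refine sSup_eq_bot.mpr ?_
    rintro N ⟨hN, hc⟩
    refine (hN.eq_bot_or_eq_top).resolve_right fun e => ?_
    rw [e, Subgroup.card_top] at hc
    exact absurd (Nat.coprime_two_right.mp hc) (Nat.not_odd_iff_even.mpr heven)
  have hcen : z ∈ Subgroup.center S := Subgroup.mem_center_iff.mpr fun g => by
    have h := CfsgLib.ZStar.inZStar hz hiso g
    rw [hO, Subgroup.mem_bot, mul_inv_eq_one, mul_inv_eq_iff_eq_mul] at h
    exact h
  rcases (inferInstance : (Subgroup.center S).Normal).eq_bot_or_eq_top with e | e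
  · rw [e, Subgroup.mem_bot] at hcen; exact hz1 hcen
  · exact hna ⟨⟨fun a b => Subgroup.mem_center_iff.mp (e.ge (Subgroup.mem_top b)) a⟩⟩

end CfsgLib.AfterFT
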