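import Cfsg.Agent.Lib.AfterFT.GammaFittingQuot
import Cfsg.Agent.Lib.AfterFT.MovedInvolution
import Cfsg.Agent.Lib.CoprimeGen
import Cfsg.Agent.S0200

/-!
Row 3900 given the odd order theorem: `γ_{k+1}(G)` is nilpotent iff coprime values satisfy the order condition.
-/

set_option autoImplicit false
set_option linter.style.haveILetI false
set_option maxHeartbeats 1000000

namespace CfsgLib.AfterFT

open Cfsg Subgroup CfsgLib

universe u

/-- The order condition of row 3900. -/
def GammaCond (k : ℕ) (G : Type u) [Group G] : Prop :=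
  ∀ x y : G, GammaValue k x → GammaValue k y → (orderOf x).Coprime (orderOf y) →
    (∀ r : ℕ, r.Prime → r ∣ orderOf x * orderOf y → r ∣ orderOf (x * y)) ∨
      orderOf x * orderOf y ≤ orderOf (x * y)

theorem gammaValue_map {G H : Type u} [Group G] [Group H] {k : ℕ} (φ : H →* G) {x : H} (hx : GammaValue k x) :
    GammaValue k (φ x) := by
  obtain ⟨f, rfl⟩ := hx
  refine ⟨fun i => φ (f i), ?_⟩
  rw [show List.ofFn (fun i => φ (f i)) = (List.ofFn f).map φ by rw [List.map_ofFn]; rfl, ← List.map_tail]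
  beta_reduce
  generalize (List.ofFn f).tail = l
  generalize f 0 = a
  induction l generalizing a with
  | nil => rfl
  | cons b l ih => rw [List.map_cons, List.foldl_cons, List.foldl_cons, ih]; simp

theorem gammaCond_subgroup {G : Type u} [Group G] {k : ℕ} (h : GammaCond k G) (H : Subgroup G) :
    GammaCond k H := fun x y hx hy hcop => by
  have := h (H.subtype x) (H.subtype y) (gammaValue_map _ hx) (gammaValue_map _ hy)
    (by rwa [orderOf_injective _ H.subtype_injective, orderOf_injective _ H.subtype_injective])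
  rwa [← map_mul, orderOf_injective _ H.subtype_injective, orderOf_injective _ H.subtype_injective,
    orderOf_injective _ H.subtype_injective] at this

theorem solvable_of_gamma_nilpotent {G : Type u} [Group G] (k : ℕ)
    (h : Group.IsNilpotent ↥((⊤ : Subgroup G).lowerCentralSeries k)) : Group.IsSolvable G := by
  haveI : Group.IsNilpotent (G ⧸ (⊤ : Subgroup G).lowerCentralSeries k) :=
    Subgroup.nilpotent_iff_lowerCentralSeries.mpr ⟨k, by
      rw [← Subgroup.map_top_of_surjective _ (QuotientGroup.mk'_surjective ((⊤ : Subgroup G).lowerCentralSeries k)),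
        ← Subgroup.map_lowerCentralSeries, Subgroup.map_eq_bot_iff, QuotientGroup.ker_mk']⟩
  exact Group.isSolvable_of_ker_le_range (Subgroup.subtype _) (QuotientGroup.mk' ((⊤ : Subgroup G).lowerCentralSeries k))
    (by rw [QuotientGroup.ker_mk', Subgroup.range_subtype])

variable {G : Type u} [Group G] [Finite G]

theorem stepComm_mem_lower (x : G) {a : G} {j : ℕ} (ha : a ∈ (⊤ : Subgroup G).lowerCentralSeries j) :
    stepComm x a ∈ (⊤ : Subgroup G).lowerCentralSeries (j + 1) := by
  rw [Subgroup.lowerCentralSeries_succ]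
  exact Subgroup.commutator_mem_commutator ha (Subgroup.mem_top x)

theorem map_stepComm_iterate {H : Type u} [Group H] (φ : G →* H) (x : G) :
    ∀ (j : ℕ) (a : G), φ ((stepComm x)^[j] a) = (stepComm (φ x))^[j] (φ a)
  | 0, _ => rfl
  | j + 1, a => by
    rw [Function.iterate_succ_apply', Function.iterate_succ_apply', ← map_stepComm_iterate φ x j a]
    simp [stepComm]

/-- Iterated commutators with a coprime element do not vanish unless the first one does. -/
theorem stepComm_iterate_ne_one {E : Subgroup G} {u z : G} (hz : z ∈ E) (hu : ∀ e ∈ E, u * e * u⁻¹ ∈ E)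
    (hcop : ∀ e ∈ E, (orderOf e).Coprime (orderOf u)) (hne : ¬ Commute z u) :
    ∀ j, (stepComm u)^[j] z ∈ E ∧ (stepComm u)^[j] z ≠ 1 ∧ ¬ Commute ((stepComm u)^[j] z) u
  | 0 => ⟨hz, fun e => hne (by rw [show z = 1 from e]; exact Commute.one_left u), hne⟩
  | j + 1 => by
    obtain ⟨hm, -, hn⟩ := stepComm_iterate_ne_one hz hu hcop hne j
    rw [Function.iterate_succ_apply']
    set a := (stepComm u)^[j] z
    have hm' : stepComm u a ∈ E := by
      rw [show stepComm u a = a * (u * a⁻¹ * u⁻¹) by simp [stepComm, mul_assoc]]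
      exact E.mul_mem hm (hu _ (E.inv_mem hm))
    have h1 : stepComm u a ≠ 1 := fun e => hn (by
      have e' : a * u * a⁻¹ * u⁻¹ = 1 := e
      rwa [mul_inv_eq_one, mul_inv_eq_iff_eq_mul] at e')
    refine ⟨hm', h1, fun hc => h1 ?_⟩
    have ho := hc.orderOf_mul_eq_mul_orderOf_of_coprime (hcop _ hm')
    rw [show stepComm u a * u = (MulAut.conj a).toMonoidHom u by simp [stepComm, mul_assoc],
      orderOf_injective _ (MulAut.conj a).injective] at ho
    exact orderOf_eq_one_iff.mp ((Nat.mul_eq_right (orderOf_pos u).ne').mp ho.symm)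

/-- A minimal non-soluble group violates the order condition. -/
theorem false_of_minimal (odd : ∀ (H : Type u) [Group H] [Finite H], Odd (Nat.card H) → Group.IsSolvable H)
    (k : ℕ) (hcond : GammaCond k G) (hns : ¬ Group.IsSolvable G)
    (hmin : ∀ H : Subgroup G, H < ⊤ → Group.IsNilpotent ↥((⊤ : Subgroup H).lowerCentralSeries k)) : False := by
  classical
  haveI : Fact (Nat.Prime 2) := ⟨Nat.prime_two⟩
  have hnt : Nontrivial G := by
    rcases subsingleton_or_nontrivial G with h | h
    · exact (hns inferInstance).elim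
    · exact h
  obtain ⟨R, hR, hRmax⟩ := Set.Finite.exists_maximal (Set.toFinite {N : Subgroup G | N.Normal ∧ N ≠ ⊤})
    ⟨⊥, inferInstance, bot_ne_top⟩
  obtain ⟨hRn, hRt⟩ := hR
  haveI := hRn
  haveI hRs : Group.IsSolvable R := solvable_of_gamma_nilpotent k (hmin R hRt.lt_top)
  let π := QuotientGroup.mk' R
  have hπ : Function.Surjective π := QuotientGroup.mk'_surjective R
  haveI : Nontrivial (G ⧸ R) := QuotientGroup.nontrivial_iff.mpr hRt
  haveI : IsSimpleGroup (G ⧸ R) := ⟨fun N hN => by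
    by_cases h : N.comap π = ⊤
    · right; rw [← Subgroup.map_comap_eq_self_of_surjective hπ N, h, Subgroup.map_top_of_surjective _ hπ]
    · left
      have := hRmax ⟨hN.comap π, h⟩ (fun x hx => show π x ∈ N by
        rw [show π x = 1 from (QuotientGroup.eq_one_iff x).mpr hx]; exact one_mem N)
      rw [← Subgroup.map_comap_eq_self_of_surjective hπ N]
      exact (Subgroup.map_eq_bot_iff _).mpr (this.trans (QuotientGroup.ker_mk' R).ge)⟩
  have hnsq : ¬ Group.IsSolvable (G ⧸ R) := fun h => hns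
    (Group.isSolvable_of_ker_le_range R.subtype π (by rw [QuotientGroup.ker_mk', Subgroup.range_subtype]))
  have hna : ¬ IsMulCommutative (G ⧸ R) := fun h => hnsq (Group.isSolvable_of_comm fun a b => h.is_comm.comm a b)
  have heven : Even (Nat.card (G ⧸ R)) := Nat.not_odd_iff_even.mp fun h => hnsq (odd _ h)
  obtain ⟨E, ub, zb, hE2, hEp, hEu, huo, hzE, hne⟩ := exists_odd_moving_involution hna heven
  -- lift `E` and `ub`
  set M := E.comap π with hM
  obtain ⟨PM⟩ : Nonempty (Sylow 2 M) := inferInstance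
  set P := (PM : Subgroup M).map M.subtype with hP
  have hPM : P ≤ M := Subgroup.map_subtype_le _
  have hmap : P.map π = E := by
    let f := π.subgroupComap E
    have hf : Function.Surjective f := fun y => by
      obtain ⟨x, hx⟩ := hπ y
      exact ⟨⟨x, show π x ∈ E from hx ▸ y.2⟩, Subtype.ext hx⟩
    have h1 := (PM.mapSurjective hf).3 (IsPGroup.of_equiv hEp Subgroup.topEquiv.symm) le_top
    refine le_antisymm ((Subgroup.map_mono hPM).trans (Subgroup.map_comap_le _ _)) fun y hy => ?_
    obtain ⟨x, hx, he⟩ := h1.le (Subgroup.mem_top (⟨y, hy⟩ : E))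
    exact ⟨x, ⟨x, hx, rfl⟩, congrArg Subtype.val he⟩
  have hfrat : normalizer (M : Set G) ≤ normalizer (P : Set G) ⊔ R := by
    intro g hg
    -- the conjugate Sylow subgroup is conjugate inside `M`
    let e : M ≃* M := 
      { toFun := fun x => ⟨g * x * g⁻¹, (Subgroup.mem_normalizer_iff.mp hg _).mp x.2⟩
        invFun := fun x => ⟨g⁻¹ * x * g, (Subgroup.mem_normalizer_iff.mp hg _).mpr (by simpa [mul_assoc] using x.2)⟩
        left_inv := fun x => Subtype.ext (by simp [mul_assoc])
        right_inv := fun x => Subtype.ext (by simp [mul_assoc])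
        map_mul' := fun x y => Subtype.ext (by simp [mul_assoc]) }
    obtain ⟨m, hm⟩ := MulAction.exists_smul_eq M (PM.mapSurjective (f := e.toMonoidHom) e.surjective) PM
    have hmg : (m : G) * g ∈ normalizer (P : Set G) := by
      refine Subgroup.mem_normalizer_iff_map_conj_eq.mpr ?_
      have h1 := congrArg (fun T : Sylow 2 M => (T : Subgroup M).map M.subtype) hm
      simp only [Sylow.coe_subgroup_smul, Sylow.coe_mapSurjective] at h1
      rw [hP]
      refine Eq.trans ?_ h1
      ext x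
      constructor
      · rintro ⟨_, ⟨y, hy, rfl⟩, rfl⟩
        exact ⟨m * e y * m⁻¹, ⟨e y, ⟨y, hy, rfl⟩, rfl⟩, by simp [e, mul_assoc]⟩
      · rintro ⟨_, ⟨_, ⟨y, hy, rfl⟩, rfl⟩, rfl⟩
        exact ⟨y, ⟨y, hy, rfl⟩, by simp [e, mul_assoc]⟩
    obtain ⟨p, hp, he⟩ : π (m : G) ∈ P.map π := hmap.symm ▸ m.2
    have hd : p⁻¹ * (m : G) ∈ R := QuotientGroup.eq.mp he
    set A := p⁻¹ * ((m : G) * g) with hA
    have hAn : A ∈ normalizer (P : Set G) := Subgroup.mul_mem _ (le_normalizer (P.inv_mem hp)) hmg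
    have hAd : g = A * (A⁻¹ * (p⁻¹ * (m : G))⁻¹ * A) := by rw [hA]; group
    rw [hAd]
    refine mul_mem_sup hAn ?_
    simpa using hRn.conj_mem _ (R.inv_mem hd) A⁻¹
  obtain ⟨g, rfl⟩ := hπ ub
  have hgM : g ∈ normalizer (M : Set G) := by
    refine Subgroup.mem_normalizer_iff.mpr fun x => ⟨fun hx => ?_, fun hx => ?_⟩
    · show π (g * x * g⁻¹) ∈ E
      rw [map_mul, map_mul, map_inv]; exact hEu _ hx
    · have h1 : ∀ e ∈ E, ∀ j : ℕ, (π g) ^ j * e * ((π g) ^ j)⁻¹ ∈ E := fun e he j => by
        induction j with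
        | zero => simpa using he
        | succ j ih => rw [pow_succ']; simpa [mul_assoc] using hEu _ ih
      show π x ∈ E
      have h2 := h1 _ (show π (g * x * g⁻¹) ∈ E from hx) (orderOf (π g) - 1)
      rwa [show (π g) ^ (orderOf (π g) - 1) = (π g)⁻¹ from (inv_eq_of_mul_eq_one_left (by
        rw [← pow_succ, Nat.sub_add_cancel (orderOf_pos _), pow_orderOf_eq_one])).symm, map_mul, map_mul, map_inv,
        show (π g)⁻¹ * (π g * π x * (π g)⁻¹) * (π g)⁻¹⁻¹ = π x by group] at h2
  obtain ⟨n, hn, d, hd, hnd⟩ := Subgroup.mem_sup_of_normal_right.mp (hfrat hgM)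
  have hπn : π n = π g := by
    rw [← hnd, map_mul, show π d = 1 from (QuotientGroup.eq_one_iff d).mpr hd, mul_one]
  obtain ⟨i, r, hr, he⟩ := Nat.exists_eq_pow_mul_and_not_dvd (orderOf_pos n).ne' 2 (by norm_num)
  set u := n ^ (2 ^ i) with hu
  obtain ⟨m, hm, rfl⟩ : zb ∈ P.map π := hmap.symm ▸ hzE
  have hne' : ¬ Commute (π m) (π u) := fun h => hne (by
    obtain ⟨t, ht⟩ := exists_pow_eq_self_of_coprime
      (show (2 ^ i).Coprime (orderOf (π g)) from Nat.Coprime.pow_left _ huo.coprime_two_left)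
    rw [← ht, show π g ^ 2 ^ i = π u by rw [← hπn, hu, map_pow]]
    exact h.pow_right t)
  have hu' : ∀ e ∈ E, π u * e * (π u)⁻¹ ∈ E := by
    intro e he
    obtain ⟨x, hx, rfl⟩ : e ∈ P.map π := hmap.symm ▸ he
    rw [← map_inv, ← map_mul, ← map_mul, ← hmap]
    exact ⟨_, (Subgroup.mem_normalizer_iff.mp (Subgroup.pow_mem _ hn _) x).mp hx, rfl⟩
  have huodd : ¬ 2 ∣ orderOf u := by
    rw [hu, orderOf_pow, he, Nat.gcd_mul_right_left, Nat.mul_div_cancel_left _ (Nat.two_pow_pos i)]
    exact hr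
  have hcopE : ∀ e ∈ E, (orderOf e).Coprime (orderOf (π u)) := fun e he => by
    refine Nat.Coprime.coprime_dvd_left (orderOf_dvd_of_pow_eq_one (n := 2) (by rw [pow_two]; exact hE2 e he)) ?_
    exact Nat.Coprime.coprime_dvd_right (orderOf_map_dvd π u) (Nat.prime_two.coprime_iff_not_dvd.mpr huodd)
  set w := (stepComm u)^[k] m with hw
  have hwP : w ∈ P := by
    have : ∀ j, (stepComm u)^[j] m ∈ P := fun j => by
      induction j with
      | zero => exact hm
      | succ j ih =>
        rw [Function.iterate_succ_apply']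
        rw [show stepComm u ((stepComm u)^[j] m) =
          (stepComm u)^[j] m * (u * ((stepComm u)^[j] m)⁻¹ * u⁻¹) by simp [stepComm, mul_assoc]]
        exact P.mul_mem ih ((Subgroup.mem_normalizer_iff.mp (Subgroup.pow_mem _ hn _) _).mp (P.inv_mem ih))
    exact this k
  obtain ⟨hwE, hw1, -⟩ := stepComm_iterate_ne_one (E := E) (z := π m) (u := π u) hzE hu' hcopE hne' k
  rw [← map_stepComm_iterate π u k m, ← hw] at hwE hw1
  obtain ⟨a, hwa⟩ : ∃ a, orderOf w = 2 ^ a := by
    obtain ⟨a, ha⟩ := IsPGroup.iff_orderOf.mp (PM.2.map M.subtype) ⟨w, hwP⟩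
    exact ⟨a, by rwa [Subgroup.orderOf_mk] at ha⟩
  set t := π w with ht
  have ht2 : orderOf t = 2 := orderOf_eq_prime (by rw [pow_two]; exact hE2 t hwE) hw1
  -- an inverted element of odd prime order
  obtain ⟨h0, hh1, hho, hinv0⟩ := Cfsg.Agent.S0200.result t ht2 (fun N hN hNp htN => by
    rcases hN.eq_bot_or_eq_top with e | e
    · rw [e, Subgroup.mem_bot] at htN; exact hw1 htN
    · refine hnsq ?_
      haveI : Group.IsNilpotent (⊤ : Subgroup (G ⧸ R)) := (e ▸ hNp).isNilpotent
      haveI : Group.IsNilpotent (G ⧸ R) := Group.isNilpotent_top.mp this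
      infer_instance)
  obtain ⟨q, hq, hqd⟩ := Nat.exists_prime_and_dvd (fun e => hh1 (orderOf_eq_one_iff.mp e))
  haveI : Fact q.Prime := ⟨hq⟩
  have hq2 : q ≠ 2 := fun e => Nat.not_even_iff_odd.mpr hho (even_iff_two_dvd.mpr (e ▸ hqd))
  set h := h0 ^ (orderOf h0 / q) with hh
  have hhq : orderOf h = q := orderOf_pow_orderOf_div (orderOf_pos h0).ne' hqd
  have hinv : t * h * t⁻¹ = h⁻¹ := by rw [hh, ← conj_pow, hinv0, inv_pow]
  -- the dihedral subgroup
  set D := zpowers h ⊔ zpowers t with hD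
  have htn : zpowers t ≤ normalizer (zpowers h : Set (G ⧸ R)) := zpowers_le.mpr
    (Subgroup.mem_normalizer_iff_map_conj_eq.mpr (by
      rw [MonoidHom.map_zpowers]
      show zpowers (t * h * t⁻¹) = zpowers h
      rw [hinv, Subgroup.zpowers_inv]))
  have hDlt : D ≠ ⊤ := fun e => by
    haveI : (zpowers h).Normal := Subgroup.normalizer_eq_top_iff.mp (eq_top_iff.mpr (e.ge.trans
      (sup_le le_normalizer htn)))
    rcases (inferInstance : (zpowers h).Normal).eq_bot_or_eq_top with e' | e'
    · rw [Subgroup.zpowers_eq_bot] at e'; rw [e', orderOf_one] at hhq; exact hq.one_lt.ne hhq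
    · exact hna ⟨⟨fun a b => by
        obtain ⟨i, rfl⟩ := Subgroup.mem_zpowers_iff.mp (e'.ge (Subgroup.mem_top a))
        obtain ⟨j, rfl⟩ := Subgroup.mem_zpowers_iff.mp (e'.ge (Subgroup.mem_top b))
        exact (Commute.zpow_zpow (Commute.refl h) i j).eq⟩⟩
  set H := D.comap π with hH
  have hHlt : H < ⊤ := lt_top_iff_ne_top.mpr fun e => hDlt (by
    rw [← Subgroup.map_comap_eq_self_of_surjective hπ D, ← hH, e, Subgroup.map_top_of_surjective _ hπ])
  have hnilH := hmin H hHlt
  let φ : H →* G ⧸ R := π.comp H.subtype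
  let wH : H := ⟨w, show π w ∈ D from mem_sup_right (mem_zpowers t)⟩
  obtain ⟨y0, hy0⟩ := hπ h
  let yH : H := ⟨y0, show π y0 ∈ D from hy0 ▸ mem_sup_left (mem_zpowers h)⟩
  set y := (stepComm wH)^[k] yH with hy
  have hyN : y ∈ (⊤ : Subgroup H).lowerCentralSeries k := by
    have : ∀ j, (stepComm wH)^[j] yH ∈ (⊤ : Subgroup H).lowerCentralSeries j := fun j => by
      induction j with
      | zero => simp
      | succ j ih => rw [Function.iterate_succ_apply']; exact stepComm_mem_lower wH ih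
    exact this k
  have hφy : φ y = h ^ (2 ^ k) := by
    rw [hy, map_stepComm_iterate, show φ yH = h from hy0, show φ wH = t from rfl]
    have : ∀ j, (stepComm t)^[j] h = h ^ (2 ^ j) := fun j => by
      induction j with
      | zero => simp
      | succ j ih =>
        rw [Function.iterate_succ_apply', ih, pow_succ, pow_mul]
        show h ^ 2 ^ j * t * (h ^ 2 ^ j)⁻¹ * t⁻¹ = (h ^ 2 ^ j) ^ 2
        rw [show h ^ 2 ^ j * t * (h ^ 2 ^ j)⁻¹ * t⁻¹ = h ^ 2 ^ j * (t * h ^ 2 ^ j * t⁻¹)⁻¹ by group, ← conj_pow, hinv,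
          inv_pow, inv_inv, pow_two]
    exact this k
  -- the `q`-part of `y`
  obtain ⟨i', r', hr', he'⟩ := Nat.exists_eq_pow_mul_and_not_dvd (orderOf_pos y).ne' q hq.ne_one
  set y1 := y ^ r' with hy1
  have hy1q : orderOf y1 = q ^ i' := by
    have hr0 : 0 < r' := Nat.pos_of_ne_zero fun e => hr' (e ▸ dvd_zero q)
    rw [hy1, orderOf_pow, he', Nat.gcd_mul_left_left, Nat.mul_div_cancel _ hr0]
  have hφy1 : φ y1 = h ^ (2 ^ k * r') := by rw [hy1, map_pow, hφy, pow_mul]
  have hy1Q : y1 ∈ pCore q H := by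
    refine CfsgLib.EqualOrder.Solv.le_pCore_of_le_fitting (Q := zpowers y1) (IsPGroup.of_card (n := i') (by rw [Nat.card_zpowers, hy1q])) ?_
      (mem_zpowers y1)
    exact zpowers_le.mpr (le_fittingSubgroup hnilH (Subgroup.pow_mem _ hyN r'))
  set c := wH * wH with hc
  have hφc : φ c = 1 := by rw [hc, map_mul, show φ wH = t from rfl]; exact hE2 t hwE
  have hcn : zpowers c ≤ normalizer ((pCore q H) : Set H) := by
    rw [Subgroup.normalizer_eq_top]; exact le_top
  have hcop : (Nat.card (zpowers c)).Coprime (Nat.card (pCore q H)) := by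
    obtain ⟨j, hj⟩ := IsPGroup.iff_card.mp (isPGroup_pCore (G := H) q)
    rw [hj, Nat.card_zpowers]
    refine Nat.Coprime.pow_right j (Nat.Coprime.coprime_dvd_left (?_ : orderOf c ∣ orderOf wH) ?_)
    · rw [hc, ← pow_two]; exact orderOf_dvd_of_pow_eq_one (by rw [← pow_mul, mul_comm, pow_mul, pow_orderOf_eq_one, one_pow])
    · rw [show orderOf wH = 2 ^ a by rw [← hwa]; exact (orderOf_injective H.subtype H.subtype_injective wH).symm]
      exact Nat.Coprime.pow_left a ((Nat.coprime_primes Nat.prime_two hq).mpr (Ne.symm hq2))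
  have hsolc : Group.IsSolvable (zpowers c) := Group.isSolvable_of_comm fun a b => (mul_comm' a b)
  have hsup := coprime_commutator_sup hcn hcop (Or.inl hsolc)
  have hfn : pCore q H ⊓ centralizer (zpowers c : Set H) ≤ normalizer ((⁅pCore q H, zpowers c⁆ : Subgroup H) : Set H) :=
    inf_le_left.trans (left_le_normalizer_commutator _ _)
  obtain ⟨dd, hdd, f, hf, hdf⟩ := mem_sup_of_le_normalizer hfn (hsup.ge hy1Q)
  have hdd1 : φ dd = 1 := by
    have : (⁅pCore q H, zpowers c⁆ : Subgroup H).map φ = ⊥ := by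
      rw [Subgroup.map_commutator, MonoidHom.map_zpowers, hφc, Subgroup.zpowers_one_eq_bot]
      exact Subgroup.commutator_bot_right _
    exact (Subgroup.map_eq_bot_iff _).mp this hdd
  have hφf : φ f = h ^ (2 ^ k * r') := by rw [← hφy1, ← hdf, map_mul, hdd1, one_mul]
  set z := f * (wH * f⁻¹ * wH⁻¹) with hz
  have hzQ : z ∈ pCore q H :=
    (pCore q H).mul_mem hf.1 (Subgroup.Normal.conj_mem inferInstance _ ((pCore q H).inv_mem hf.1) wH)
  have hzinv : wH * z * wH⁻¹ = z⁻¹ := by
    have h1 : c * f⁻¹ = f⁻¹ * c := (Subgroup.mem_centralizer_iff.mp ((centralizer (zpowers c : Set H)).inv_mem hf.2) c (mem_zpowers c))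
    calc wH * z * wH⁻¹ = wH * f * wH⁻¹ * (c * f⁻¹) * c⁻¹ := by rw [hz, hc]; group
      _ = wH * f * wH⁻¹ * f⁻¹ := by rw [h1]; group
      _ = z⁻¹ := by rw [hz]; group
  have hφz : φ z = (h ^ (2 ^ k * r')) ^ 2 := by
    rw [hz, map_mul, map_mul, map_mul, map_inv, map_inv, hφf, show φ wH = t from rfl, ← inv_pow,
      ← conj_pow, show t * h⁻¹ * t⁻¹ = h by
        rw [show t * h⁻¹ * t⁻¹ = (t * h * t⁻¹)⁻¹ by group, hinv, inv_inv], pow_two]
  have hz1 : z ≠ 1 := fun e => by
    rw [e, map_one, ← pow_mul] at hφz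
    have := hhq ▸ orderOf_dvd_of_pow_eq_one hφz.symm
    rcases (Nat.Prime.dvd_mul hq).mp this with h2 | h2
    · rcases (Nat.Prime.dvd_mul hq).mp h2 with h3 | h3
      · exact hq2 ((Nat.prime_dvd_prime_iff_eq hq Nat.prime_two).mp (hq.dvd_of_dvd_pow h3))
      · exact hr' h3
    · exact hq2 ((Nat.prime_dvd_prime_iff_eq hq Nat.prime_two).mp h2)
  have hzodd : Odd (orderOf z) := by
    obtain ⟨j, hj⟩ := IsPGroup.iff_orderOf.mp (isPGroup_pCore (G := H) q) ⟨z, hzQ⟩
    rw [Subgroup.orderOf_mk] at hj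
    rw [hj]
    exact (hq.odd_of_ne_two hq2).pow
  refine false_of_value_inverts k hcond (w := w) (y := (z : G)) (hw ▸ gammaValue_iterate k u m) hwa ?_ ?_
    (fun e => hz1 (Subtype.ext e))
  · exact congrArg (fun x : H => (x : G)) hzinv
  · rwa [Subgroup.orderOf_coe]

omit [Finite G] in
theorem gamma_nilpotent_of_cond (odd : ∀ (H : Type u) [Group H] [Finite H], Odd (Nat.card H) → Group.IsSolvable H)
    (k : ℕ) : ∀ (n : ℕ) (G : Type u) [Group G] [Finite G], Nat.card G = n → GammaCond k G →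
      Group.IsNilpotent ↥((⊤ : Subgroup G).lowerCentralSeries k) := by
  intro n
  induction n using Nat.strong_induction_on with
  | _ n ih =>
  intro G _ _ hn hcond
  by_cases hs : Group.IsSolvable G
  · exact gamma_nilpotent_of_solvable k hcond
  · refine (false_of_minimal odd k hcond hs fun H hH => ?_).elim
    refine ih _ ?_ H rfl (gammaCond_subgroup hcond H)
    rw [← hn, ← Subgroup.card_top (G := G)]
    exact Set.Finite.card_lt_card (Set.toFinite _) hH

/-- Row 3900 given the odd order theorem. -/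
theorem fg3_lower_central_term_nilpotent_iff_of_odd
    (odd : ∀ (H : Type u) [Group H] [Finite H], Odd (Nat.card H) → Group.IsSolvable H) (k : ℕ) :
    Group.IsNilpotent ↥((⊤ : Subgroup G).lowerCentralSeries k) ↔ GammaCond k G :=
  ⟨fun h x y hx hy hcop => Or.inr (orderOf_mul_of_gamma_nilpotent k h hx hy hcop).ge,
    fun h => gamma_nilpotent_of_cond odd k _ G rfl h⟩

end CfsgLib.AfterFT
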