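import Cfsg.Agent.Lib.AfterFT.GammaValueAction
import Cfsg.Agent.Lib.EqualOrder.Linear
import Cfsg.Prelude.Def_Solvable

/-!
Row 3900, soluble step: if `G / F(G)` is nilpotent and values centralise coprime `p`-subgroups they normalise,
then `γ_{k+1}(G) ≤ F(G)`.
-/

set_option autoImplicit false
set_option linter.style.haveILetI false

namespace CfsgLib.AfterFT

open Cfsg Subgroup
open scoped commutatorElement

universe u
variable {G : Type u} [Group G]

/-- Values with entries in `S`. -/
def valuesIn (S : Subgroup G) : ℕ → Set G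
  | 0 => S
  | n + 1 => {x | ∃ a ∈ valuesIn S n, ∃ b ∈ S, x = a * b * a⁻¹ * b⁻¹}

theorem valuesIn_subset (S : Subgroup G) : ∀ n, valuesIn S n ⊆ S
  | 0 => subset_rfl
  | n + 1 => fun x ⟨a, ha, b, hb, hx⟩ => by
    subst hx
    exact S.mul_mem (S.mul_mem (S.mul_mem (valuesIn_subset S n ha) hb) (S.inv_mem (valuesIn_subset S n ha))) (S.inv_mem hb)

theorem valuesIn_conj {S : Subgroup G} {g : G} (hg : g ∈ S) :
    ∀ n, ∀ x ∈ valuesIn S n, g * x * g⁻¹ ∈ valuesIn S n
  | 0, x, hx => S.mul_mem (S.mul_mem hg hx) (S.inv_mem hg)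
  | n + 1, x, ⟨a, ha, b, hb, hx⟩ => by
    subst hx
    exact ⟨_, valuesIn_conj hg n a ha, g * b * g⁻¹, S.mul_mem (S.mul_mem hg hb) (S.inv_mem hg), by group⟩

theorem lowerCentralSeries_le_closure_values (S : Subgroup G) :
    ∀ n, S.lowerCentralSeries n ≤ Subgroup.closure (valuesIn S n)
  | 0 => by rw [Subgroup.lowerCentralSeries_zero]; exact fun x hx => subset_closure hx
  | n + 1 => by
    set V := Subgroup.closure (valuesIn S (n + 1)) with hV
    have hVS : V ≤ S := (closure_le S).mpr (valuesIn_subset S _)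
    have hnorm : ∀ g ∈ S, ∀ x ∈ V, g * x * g⁻¹ ∈ V := fun g hg x hx => by
      induction hx using Subgroup.closure_induction with
      | mem x hx => exact subset_closure (valuesIn_conj hg _ x hx)
      | one => simp
      | mul x y _ _ hx hy => rw [show g * (x * y) * g⁻¹ = (g * x * g⁻¹) * (g * y * g⁻¹) by group]; exact V.mul_mem hx hy
      | inv x _ hx => rw [show g * x⁻¹ * g⁻¹ = (g * x * g⁻¹)⁻¹ by group]; exact V.inv_mem hx
    rw [Subgroup.lowerCentralSeries_succ]
    refine (Subgroup.commutator_mono (lowerCentralSeries_le_closure_values S n) le_rfl).trans ?_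
    rw [Subgroup.commutator_le]
    intro a ha
    have haS : ∀ a ∈ Subgroup.closure (valuesIn S n), a ∈ S := fun a ha => (closure_le S).mpr (valuesIn_subset S n) ha
    induction ha using Subgroup.closure_induction with
    | mem a ha => exact fun b hb => subset_closure ⟨a, ha, b, hb, rfl⟩
    | one => intro b _; rw [commutatorElement_one_left]; exact V.one_mem
    | mul x y hx hy ihx ihy =>
      intro b hb
      rw [show ⁅x * y, b⁆ = x * ⁅y, b⁆ * x⁻¹ * ⁅x, b⁆ by simp [commutatorElement_def, mul_assoc]]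
      exact V.mul_mem (hnorm x (haS x hx) _ (ihy b hb)) (ihx b hb)
    | inv x hx ihx =>
      intro b hb
      rw [show ⁅x⁻¹, b⁆ = x⁻¹ * ⁅x, b⁆⁻¹ * x⁻¹⁻¹ by simp [commutatorElement_def, mul_assoc]]
      exact hnorm _ (S.inv_mem (haS x hx)) _ (V.inv_mem (ihx b hb))

theorem valuesIn_isValue (S : Subgroup G) : ∀ n, ∀ x ∈ valuesIn S n, ∃ l : List G, ∃ a : G, l.length = n ∧
    x = l.foldl (fun a b => a * b * a⁻¹ * b⁻¹) a
  | 0, x, _ => ⟨[], x, rfl, rfl⟩
  | n + 1, x, ⟨a, ha, b, _, hx⟩ => by
    obtain ⟨l, c, hl, hc⟩ := valuesIn_isValue S n a ha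
    exact ⟨l ++ [b], c, by simp [hl], by rw [List.foldl_append, ← hc]; exact hx⟩

theorem gammaValue_of_valuesIn {S : Subgroup G} {k : ℕ} {x : G} (hx : x ∈ valuesIn S k) : GammaValue k x := by
  obtain ⟨l, a, hl, rfl⟩ := valuesIn_isValue S k x hx
  refine ⟨Fin.cons a (fun i => l.get (i.cast hl.symm)), ?_⟩
  rw [List.ofFn_succ, List.tail_cons]
  simp only [Fin.cons_zero, Fin.cons_succ]
  congr 1
  subst hl
  simp

/-- A finite nilpotent group has `γ_{k+1} = 1` as soon as all its Sylow subgroups do. -/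
theorem lowerCentralSeries_eq_bot_of_sylow {X : Type u} [Group X] [Finite X] [Group.IsNilpotent X] (k : ℕ)
    (h : ∀ (p : ℕ) [Fact p.Prime] (P : Sylow p X), (P : Subgroup X).lowerCentralSeries k = ⊥) :
    (⊤ : Subgroup X).lowerCentralSeries k = ⊥ := by
  classical
  let e := Sylow.directProductOfNormal (G := X) fun {p hp} P =>
    (Group.isNilpotent_of_finite_tfae.out 0 3 rfl rfl).mp ‹_› p hp P
  rw [← Subgroup.map_top_of_surjective e.toMonoidHom e.surjective, ← Subgroup.map_lowerCentralSeries,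
    Subgroup.map_eq_bot_iff_of_injective _ e.injective, Subgroup.top_lowerCentralSeries_pi_of_finite,
    Subgroup.pi_eq_bot_iff]
  intro p
  haveI : Fact (Nat.Prime (p : ℕ)) := ⟨Nat.prime_of_mem_primeFactors p.2⟩
  rw [Subgroup.top_lowerCentralSeries_pi_of_finite, Subgroup.pi_eq_bot_iff]
  intro P
  rw [← Subgroup.map_subtype_inj, Subgroup.map_bot, Subgroup.top_subtype_lowerCentralSeries]
  exact h _ P

variable [Finite G]

theorem gamma_le_fitting (k : ℕ)
    (hcomm : ∀ x : G, GammaValue k x → ∀ (p : ℕ) [Fact p.Prime], ¬ p ∣ orderOf x → ∀ P : Subgroup G, IsPGroup p P →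
      (∀ m ∈ P, x * m * x⁻¹ ∈ P) → ∀ m ∈ P, Commute m x)
    [(fittingSubgroup G).Normal] [Group.IsNilpotent (G ⧸ fittingSubgroup G)] :
    (⊤ : Subgroup G).lowerCentralSeries k ≤ fittingSubgroup G := by
  classical
  set F := fittingSubgroup G with hF
  let f := QuotientGroup.mk' F
  have hsurj : Function.Surjective f := QuotientGroup.mk'_surjective F
  suffices hq : (⊤ : Subgroup (G ⧸ F)).lowerCentralSeries k = ⊥ by
    intro x hx
    rw [← QuotientGroup.ker_mk' F, MonoidHom.mem_ker, ← Subgroup.mem_bot, ← hq,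
      ← Subgroup.map_top_of_surjective f hsurj, ← Subgroup.map_lowerCentralSeries]
    exact ⟨x, hx, rfl⟩
  refine lowerCentralSeries_eq_bot_of_sylow k fun q _ Pb => ?_
  obtain ⟨Q, hQ⟩ := Sylow.mapSurjective_surjective hsurj q Pb
  have hPb : (Pb : Subgroup (G ⧸ F)) = (Q : Subgroup G).map f := by rw [← hQ]; rfl
  rw [hPb, ← Subgroup.map_lowerCentralSeries, Subgroup.map_eq_bot_iff, QuotientGroup.ker_mk']
  refine (lowerCentralSeries_le_closure_values _ k).trans ((closure_le _).mpr fun u hu => ?_)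
  have huQ : u ∈ (Q : Subgroup G) := valuesIn_subset _ k hu
  -- `K` centralises the other primes' cores
  set K := (Q : Subgroup G) ⊓ ⨅ p : {p : Nat.Primes // (p : ℕ) ≠ q}, centralizer (pCore ((p.1 : Nat.Primes) : ℕ) G : Set G) with hK
  have huK : u ∈ K := by
    refine ⟨huQ, Subgroup.mem_iInf.mpr fun p => ?_⟩
    haveI : Fact (Nat.Prime (p.1 : ℕ)) := ⟨p.1.2⟩
    refine Subgroup.mem_centralizer_iff.mpr fun m hm => ?_
    refine (hcomm u (gammaValue_of_valuesIn hu) _ ?_ _ (isPGroup_pCore (G := G) _) (fun m hm => ?_) m hm).eq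
    · obtain ⟨i, hi⟩ := IsPGroup.iff_orderOf.mp Q.2 ⟨u, huQ⟩
      rw [Subgroup.orderOf_mk] at hi
      rw [hi]
      exact fun h => p.2 ((Nat.prime_dvd_prime_iff_eq p.1.2 Fact.out).mp (p.1.2.dvd_of_dvd_pow h))
    · exact Subgroup.Normal.conj_mem inferInstance m hm u
  -- `K` is normal
  have hPbn : (Pb : Subgroup (G ⧸ F)).Normal :=
    (Group.isNilpotent_of_finite_tfae.out 0 3 rfl rfl).mp ‹_› q ‹_› Pb
  have hQn : normalizer ((Q : Subgroup G) : Set G) ⊔ F = ⊤ := by
    set R := (Q : Subgroup G) ⊔ F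
    haveI : R.Normal := by
      have : R = ((Q : Subgroup G).map f).comap f := by rw [Subgroup.comap_map_eq, QuotientGroup.ker_mk']
      rw [this]; rw [← hPb]; exact hPbn.comap f
    have := Sylow.normalizer_sup_eq_top' Q (le_sup_left : (Q : Subgroup G) ≤ R)
    refine eq_top_iff.mpr (this.ge.trans (sup_le le_sup_left (sup_le ?_ le_sup_right)))
    exact le_normalizer.trans le_sup_left
  have hKn : normalizer (K : Set G) = ⊤ := by
    refine eq_top_iff.mpr (hQn.ge.trans (sup_le ?_ ?_))
    · intro g hg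
      haveI : ∀ p : {p : Nat.Primes // (p : ℕ) ≠ q}, (centralizer (pCore ((p.1 : Nat.Primes) : ℕ) G : Set G)).Normal :=
        fun p => inferInstance
      refine Subgroup.mem_normalizer_iff.mpr fun z => ?_
      simp only [hK, Subgroup.mem_inf, Subgroup.mem_iInf]
      refine and_congr (Subgroup.mem_normalizer_iff.mp hg z) (forall_congr' fun p => ?_)
      exact ⟨fun h => (this p).conj_mem z h g, fun h => by
        simpa [mul_assoc] using (this p).conj_mem _ h g⁻¹⟩
    · rw [hF, fittingSubgroup_eq_iSup_pCore]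
      refine iSup_le fun p => ?_
      by_cases hpq : (p : ℕ) = q
      · rw [hpq]
        intro g hg
        have hgQ : g ∈ (Q : Subgroup G) :=
          CfsgLib.pCore_le_sylow Q hg
        haveI : ∀ p : {p : Nat.Primes // (p : ℕ) ≠ q}, (centralizer (pCore ((p.1 : Nat.Primes) : ℕ) G : Set G)).Normal :=
          fun p => inferInstance
        refine Subgroup.mem_normalizer_iff.mpr fun z => ?_
        simp only [hK, Subgroup.mem_inf, Subgroup.mem_iInf]
        refine and_congr (Subgroup.mem_normalizer_iff.mp (le_normalizer hgQ) z) (forall_congr' fun p => ?_)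
        exact ⟨fun h => (this p).conj_mem z h g, fun h => by
          simpa [mul_assoc] using (this p).conj_mem _ h g⁻¹⟩
      · refine le_trans ?_ (centralizer_le_normalizer _)
        intro g hg
        refine Subgroup.mem_centralizer_iff.mpr fun z hz => ?_
        exact (Subgroup.mem_centralizer_iff.mp (Subgroup.mem_iInf.mp hz.2 ⟨p, hpq⟩) g hg).symm
  haveI : K.Normal := Subgroup.normalizer_eq_top_iff.mp hKn
  have hKq : IsPGroup q K := Q.2.to_le inf_le_left
  exact le_fittingSubgroup hKq.isNilpotent huK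

end CfsgLib.AfterFT
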