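import Cfsg.Agent.Lib.AfterFT.GammaValueOrder

/-!
Row 3900: under the order condition, a `γ`-value centralises every `p`-subgroup it normalises when its
order is prime to `p`.
-/

set_option autoImplicit false

namespace CfsgLib.AfterFT

universe u
variable {G : Type u} [Group G]

/-- `[m, x, ..., x]`. -/
def stepComm (x : G) : G → G := fun a => a * x * a⁻¹ * x⁻¹

theorem gammaValue_iterate (k : ℕ) (x a : G) : GammaValue k ((stepComm x)^[k] a) := by
  refine ⟨Fin.cons a (fun _ => x), ?_⟩
  rw [List.ofFn_succ, List.tail_cons]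
  simp only [Fin.cons_zero, Fin.cons_succ, List.ofFn_const]
  induction k generalizing a with
  | zero => simp
  | succ n ih => rw [Function.iterate_succ_apply, List.replicate_succ, List.foldl_cons, ih]; rfl

theorem commute_of_value_normalizes [Finite G] (k : ℕ)
    (hcond : ∀ x y : G, GammaValue k x → GammaValue k y → (orderOf x).Coprime (orderOf y) →
      (∀ r : ℕ, r.Prime → r ∣ orderOf x * orderOf y → r ∣ orderOf (x * y)) ∨
        orderOf x * orderOf y ≤ orderOf (x * y))
    {x : G} (hx : GammaValue k x) {p : ℕ} [Fact p.Prime] (hxp : ¬ p ∣ orderOf x) {P : Subgroup G}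
    (hP : IsPGroup p P) (hn : ∀ m ∈ P, x * m * x⁻¹ ∈ P) {m : G} (hm : m ∈ P) : Commute m x := by
  have hmem : ∀ a ∈ P, stepComm x a ∈ P := fun a ha => by
    rw [show stepComm x a = a * (x * a⁻¹ * x⁻¹) by simp [stepComm, mul_assoc]]
    exact P.mul_mem ha (hn _ (P.inv_mem ha))
  have hit : ∀ j, (stepComm x)^[j] m ∈ P := by
    intro j
    induction j with
    | zero => exact hm
    | succ j ih => rw [Function.iterate_succ_apply']; exact hmem _ ih
  have hpow : ∀ a ∈ P, ∃ i, orderOf a = p ^ i := fun a ha => by
    obtain ⟨i, hi⟩ := IsPGroup.iff_orderOf.mp hP ⟨a, ha⟩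
    exact ⟨i, by rwa [Subgroup.orderOf_mk] at hi⟩
  have hconj : ∀ a : G, orderOf (stepComm x a * x) = orderOf x := fun a => by
    rw [show stepComm x a * x = (MulAut.conj a).toMonoidHom x by simp [stepComm, mul_assoc]]
    exact orderOf_injective _ (MulAut.conj a).injective x
  have hcop : ∀ a ∈ P, (orderOf a).Coprime (orderOf x) := fun a ha => by
    obtain ⟨i, hi⟩ := hpow a ha
    rw [hi]
    exact Nat.Coprime.pow_left _ ((Fact.out : p.Prime).coprime_iff_not_dvd.mpr hxp)
  -- the `(k+1)`-st iterate is trivial
  have h0 : (stepComm x)^[k + 1] m = 1 := by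
    have hval : GammaValue k ((stepComm x)^[k + 1] m) := by
      rw [Function.iterate_succ_apply]; exact gammaValue_iterate k x _
    set y := (stepComm x)^[k + 1] m with hy
    have ho : orderOf (y * x) = orderOf x := by rw [hy, Function.iterate_succ_apply']; exact hconj _
    obtain ⟨i, hi⟩ := hpow y (hit _)
    rcases hcond y x hval hx (hcop y (hit _)) with h | h
    · rw [← orderOf_eq_one_iff, hi]
      rcases Nat.eq_zero_or_pos i with rfl | hpos
      · simp
      · exfalso; refine hxp ?_
        have := h p Fact.out ((dvd_pow_self p hpos.ne').mul_right _ |> (hi ▸ ·))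
        rwa [ho] at this
    · rw [ho] at h
      rw [← orderOf_eq_one_iff]
      have h1 := orderOf_pos x
      have h2 := orderOf_pos y
      nlinarith
  -- descend: a commutator `[b, x]` in `P` commuting with `x` is trivial
  have key : ∀ b : G, stepComm x b ∈ P → stepComm x (stepComm x b) = 1 → stepComm x b = 1 := by
    intro b hb h
    have hc : Commute (stepComm x b) x := by
      have h' : stepComm x b * x * (stepComm x b)⁻¹ * x⁻¹ = 1 := h
      rwa [mul_inv_eq_one, mul_inv_eq_iff_eq_mul] at h'
    have := hc.orderOf_mul_eq_mul_orderOf_of_coprime (hcop _ hb)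
    rw [hconj] at this
    exact orderOf_eq_one_iff.mp ((Nat.mul_eq_right (orderOf_pos x).ne').mp this.symm)
  have hdown : ∀ j, (stepComm x)^[j + 1] m = 1 → stepComm x m = 1 := by
    intro j
    induction j with
    | zero => exact id
    | succ j ih =>
      intro h
      refine ih ?_
      rw [Function.iterate_succ_apply'] at h ⊢
      refine key _ ?_ ?_
      · rw [← Function.iterate_succ_apply' (stepComm x)]; exact hit _
      · rwa [Function.iterate_succ_apply'] at h
  have h' : m * x * m⁻¹ * x⁻¹ = 1 := hdown k h0
  rwa [mul_inv_eq_one, mul_inv_eq_iff_eq_mul] at h'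

end CfsgLib.AfterFT
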