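import Cfsg.Agent.Lib.NilpotentCommute

/-!
Row 3900, non-soluble step: a 2-element that is a `γ`-value cannot invert a non-trivial element of odd order
when products of coprime-order `γ`-values satisfy the order condition; the easy direction of the row.
-/

set_option autoImplicit false

namespace CfsgLib.AfterFT

universe u
variable {G : Type u} [Group G]

/-- The set of left-normed commutator values of weight `k + 1`. -/
def GammaValue (k : ℕ) (x : G) : Prop :=
  ∃ f : Fin (k + 1) → G, x = ((List.ofFn f).tail).foldl (fun a b => a * b * a⁻¹ * b⁻¹) (f 0)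

theorem gammaValue_mem (k : ℕ) {x : G} (h : GammaValue k x) :
    x ∈ (⊤ : Subgroup G).lowerCentralSeries k := by
  obtain ⟨f, rfl⟩ := h
  suffices hs : ∀ (l : List G) (j : ℕ) (a : G), a ∈ (⊤ : Subgroup G).lowerCentralSeries j →
      l.foldl (fun a b => a * b * a⁻¹ * b⁻¹) a ∈ (⊤ : Subgroup G).lowerCentralSeries (j + l.length) by
    simpa using hs (List.ofFn f).tail 0 (f 0) (by simp)
  intro l
  induction l with
  | nil => intro j a ha; simpa using ha
  | cons b l ih =>
    intro j a ha
    rw [List.foldl_cons, List.length_cons, show j + (l.length + 1) = j + 1 + l.length by omega]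
    refine ih _ _ ?_
    exact Subgroup.commutator_mem_commutator ha trivial

theorem gammaValue_pow_of_inverts (k : ℕ) {w y : G} (h : w * y * w⁻¹ = y⁻¹) : GammaValue k (y ^ (2 ^ k)) := by
  refine ⟨Fin.cons y (fun _ => w), ?_⟩
  rw [List.ofFn_succ, List.tail_cons]
  simp only [Fin.cons_zero, Fin.cons_succ, List.ofFn_const]
  suffices hs : ∀ (n j : ℕ), (List.replicate n w).foldl (fun a b => a * b * a⁻¹ * b⁻¹) (y ^ j) = y ^ (j * 2 ^ n) by
    simpa using (hs k 1).symm
  intro n
  induction n with
  | zero => intro j; simp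
  | succ n ih =>
    intro j
    have e : y ^ j * w * (y ^ j)⁻¹ * w⁻¹ = y ^ (j * 2) := by
      rw [show y ^ j * w * (y ^ j)⁻¹ * w⁻¹ = y ^ j * (w * y ^ j * w⁻¹)⁻¹ by group, ← conj_pow, h, inv_pow,
        inv_inv, ← pow_add, mul_two]
    rw [List.replicate_succ, List.foldl_cons, e, ih, pow_succ', mul_assoc]

/-- The hypothesis of the row rules out a 2-value inverting a non-trivial element of odd order. -/
theorem false_of_value_inverts [Finite G] (k : ℕ)
    (hcond : ∀ x y : G, GammaValue k x → GammaValue k y → (orderOf x).Coprime (orderOf y) →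
      (∀ r : ℕ, r.Prime → r ∣ orderOf x * orderOf y → r ∣ orderOf (x * y)) ∨
        orderOf x * orderOf y ≤ orderOf (x * y))
    {w y : G} (hw : GammaValue k w) {m : ℕ} (hm : orderOf w = 2 ^ m) (h : w * y * w⁻¹ = y⁻¹)
    (hodd : Odd (orderOf y)) (hy : y ≠ 1) : False := by
  set z := y ^ (2 ^ k) with hz
  have hoz : orderOf z = orderOf y := Nat.Coprime.orderOf_pow (Nat.Coprime.pow_right k hodd.coprime_two_right)
  have hz1 : 1 < orderOf z := by
    rw [hoz]
    exact lt_of_le_of_ne (orderOf_pos y) fun e => hy (orderOf_eq_one_iff.mp e.symm)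
  have hwz : w * z * w⁻¹ = z⁻¹ := by rw [hz, ← conj_pow, h, inv_pow]
  have hsq : (w * z) ^ 2 = z⁻¹ * w ^ 2 * z⁻¹⁻¹ := by
    rw [pow_two, inv_inv]
    conv_lhs => rw [show w * z = z⁻¹ * w by rw [← hwz]; group]
    rw [show z⁻¹ * w * (z⁻¹ * w) = z⁻¹ * w * (w * z) by rw [show w * z = z⁻¹ * w by rw [← hwz]; group]]
    simp [pow_two, mul_assoc]
  have hm0 : m ≠ 0 := by
    rintro rfl
    rw [pow_zero, orderOf_eq_one_iff] at hm
    subst hm
    have : z ^ 2 = 1 := by
      rw [pow_two]; nth_rw 1 [show z = 1 * z * (1 : G)⁻¹ by simp, hwz]; exact inv_mul_cancel z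
    have h2 : orderOf z ∣ 2 := orderOf_dvd_of_pow_eq_one this
    obtain h1 | h1 := (Nat.dvd_prime Nat.prime_two).mp h2
    · omega
    · rw [hoz] at h1; exact absurd (h1 ▸ hodd) (by decide)
  have hdvd : orderOf (w * z) ∣ 2 ^ m := by
    obtain ⟨j, rfl⟩ := Nat.exists_eq_succ_of_ne_zero hm0
    refine orderOf_dvd_of_pow_eq_one ?_
    rw [pow_succ', pow_mul, hsq, conj_pow, ← pow_mul, ← pow_succ', ← hm, pow_orderOf_eq_one]
    simp
  have hcop : (orderOf w).Coprime (orderOf z) := by
    rw [hm, hoz]; exact Nat.Coprime.pow_left _ hodd.coprime_two_left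
  rcases hcond w z hw (gammaValue_pow_of_inverts k h) hcop with h1 | h1
  · obtain ⟨r, hr, hrz⟩ := Nat.exists_prime_and_dvd hz1.ne'
    have hr2 : r = 2 := (Nat.prime_dvd_prime_iff_eq hr Nat.prime_two).mp
      (hr.dvd_of_dvd_pow ((h1 r hr (hrz.mul_left _)).trans hdvd))
    subst hr2
    rw [hoz] at hrz
    exact (Nat.not_even_iff_odd.mpr hodd) (even_iff_two_dvd.mpr hrz)
  · have hp : 0 < 2 ^ m := Nat.two_pow_pos m
    have := Nat.le_of_dvd hp hdvd
    rw [hm] at h1
    nlinarith

/-- The easy direction of row 3900: in a nilpotent `γ` coprime values commute. -/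
theorem orderOf_mul_of_gamma_nilpotent [Finite G] (k : ℕ)
    (hnil : Group.IsNilpotent ↥((⊤ : Subgroup G).lowerCentralSeries k))
    {x y : G} (hx : GammaValue k x) (hy : GammaValue k y) (hcop : (orderOf x).Coprime (orderOf y)) :
    orderOf (x * y) = orderOf x * orderOf y := by
  set N := (⊤ : Subgroup G).lowerCentralSeries k
  let a : N := ⟨x, gammaValue_mem k hx⟩
  let b : N := ⟨y, gammaValue_mem k hy⟩
  have hab : Commute a b := by
    have := hnil
    exact CfsgLib.commute_of_nilpotent a b (by rwa [Subgroup.orderOf_mk, Subgroup.orderOf_mk])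
  exact (congrArg (fun t : N => (t : G)) hab.eq |> fun h => Commute.orderOf_mul_eq_mul_orderOf_of_coprime h hcop)

end CfsgLib.AfterFT
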