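import Cfsg.Agent.Lib.AfterFT.TransLinear
import Cfsg.Agent.Lib.Chev.Aut.FieldCyclic

/-!
A solvable linear group of odd order with at most two orbits `O`, `-O` on the non-zero vectors is semilinear on
a field (the linear part of Kantor's theorem on 2-homogeneous groups).
-/

set_option autoImplicit false
set_option linter.unusedSectionVars false
set_option linter.style.haveILetI false
set_option maxHeartbeats 1000000

namespace CfsgLib.AfterFT.HalfTrans

open Cfsg

variable {R V : Type*} [Group R] [Finite R] [AddCommGroup V] [Finite V] [Nontrivial V]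
  [DistribMulAction R V] [FaithfulSMul R V]

/-- The Fitting subgroup is cyclic and fixed point free. -/
theorem fitting_cyclic (hodd : Odd (Nat.card R)) {q : ℕ} (hq : q.Prime) (hE : ∀ e : V, q • e = 0)
    (hpm : ∀ a b : V, a ≠ 0 → b ≠ 0 → ∃ r : R, r • a = b ∨ r • a = -b) :
    IsCyclic ↥(fittingSubgroup R) ∧ ∀ g ∈ fittingSubgroup R, g ≠ 1 → ∀ a : V, g • a = a → a = 0 := by
  haveI : Group.IsNilpotent (fittingSubgroup R) := CfsgLib.isNilpotent_fittingSubgroup
  haveI hFn : (fittingSubgroup R).Normal := inferInstance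
  set F := fittingSubgroup R
  have sub : ∀ (p : ℕ) [Fact p.Prime] (P : Subgroup R) [P.Normal], IsPGroup p P →
      IsCyclic P ∧ ∀ g : P, g ≠ 1 → ∀ a : V, g • a = a → a = 0 := by
    intro p _ P _ hP
    by_cases hbot : P = ⊥
    · subst hbot
      exact ⟨inferInstance, fun g hg => absurd (Subsingleton.elim g 1) hg⟩
    have hp2 : p ≠ 2 := by
      rintro rfl
      obtain ⟨k, hk⟩ := hP.exists_card_eq
      have h1 : k ≠ 0 := fun h => hbot ((Subgroup.card_eq_one).mp (by rw [hk, h, pow_zero]))
      exact (Nat.not_even_iff_odd.mpr (hodd.of_dvd_nat P.card_subgroup_dvd_card))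
        (by rw [hk]; exact (even_two.pow_of_ne_zero h1))
    haveI : FaithfulSMul P V := ⟨fun h => Subtype.ext (FaithfulSMul.eq_of_smul_eq_smul (α := V) h)⟩
    refine CfsgLib.ActionStab.constant_stabilizer hp2 hP hq hE ?_
    intro a b ha hb
    obtain ⟨d, hd⟩ := hpm a b ha hb
    have hconj : ∀ x : P, ((d * (x : R) * d⁻¹) • b = b ↔ (x : R) • a = a) := fun x => by
      rcases hd with h | h
      · rw [← h, mul_smul, mul_smul, inv_smul_smul, smul_left_cancel_iff]
      · rw [show b = -(d • a) by rw [h, neg_neg], smul_neg, neg_inj, mul_smul, mul_smul, inv_smul_smul,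
          smul_left_cancel_iff]
    refine Nat.card_congr
      { toFun := fun x => ⟨⟨d * x.1.1 * d⁻¹, Subgroup.Normal.conj_mem inferInstance _ x.1.2 d⟩, ?_⟩
        invFun := fun y => ⟨⟨d⁻¹ * y.1.1 * d, by
          simpa using Subgroup.Normal.conj_mem (H := P) inferInstance _ y.1.2 d⁻¹⟩, ?_⟩
        left_inv := fun x => by apply Subtype.ext; apply Subtype.ext; simp [mul_assoc]
        right_inv := fun y => by apply Subtype.ext; apply Subtype.ext; simp [mul_assoc] }
    · exact (hconj x.1).mpr x.2
    · have := hconj ⟨d⁻¹ * y.1.1 * d, by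
        simpa using Subgroup.Normal.conj_mem (H := P) inferInstance _ y.1.2 d⁻¹⟩
      exact this.mp (by simpa [mul_assoc] using (show (y.1 : R) • b = b from y.2))
  have key : ∀ (p : ℕ) [Fact p.Prime] (P : Sylow p F),
      IsCyclic P ∧ ∀ g : R, g ∈ (P : Subgroup F).map F.subtype → g ≠ 1 → ∀ a : V, g • a = a → a = 0 := by
    intro p _ P
    haveI : (P : Subgroup F).Normal := inferInstance
    haveI : (P : Subgroup F).Characteristic := Sylow.characteristic_of_normal P inferInstance
    haveI : ((P : Subgroup F).map F.subtype).Normal := inferInstance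
    have h := sub p ((P : Subgroup F).map F.subtype) (P.isPGroup'.map _)
    refine ⟨((Subgroup.equivMapOfInjective (P : Subgroup F) F.subtype F.subtype_injective).isCyclic).mpr h.1, ?_⟩
    exact fun g hg h1 a ha => h.2 ⟨g, hg⟩ (fun e => h1 (congrArg Subtype.val e)) a ha
  haveI : IsZGroup F := ⟨fun p hp P => by haveI := Fact.mk hp; exact (key p P).1⟩
  refine ⟨inferInstance, fun g hg h1 a ha => ?_⟩
  by_contra h0
  haveI : Nontrivial (MulAction.stabilizer F a) := by
    refine Subgroup.nontrivial_iff_ne_bot _ |>.mpr fun h => h1 ?_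
    have : (⟨g, hg⟩ : F) ∈ MulAction.stabilizer F a := ha
    rw [h, Subgroup.mem_bot] at this
    exact congrArg Subtype.val this
  obtain ⟨p, hp, hdvd⟩ := Nat.exists_prime_and_dvd (Finite.one_lt_card : 1 < Nat.card (MulAction.stabilizer F a)).ne'
  haveI := Fact.mk hp
  obtain ⟨x, hx⟩ := exists_prime_orderOf_dvd_card' p hdvd
  have hxF : orderOf (x : F) = p := by rw [Subgroup.orderOf_coe, hx]
  obtain ⟨P, hP⟩ := (IsPGroup.iff_card.mpr ⟨1, by rw [Nat.card_zpowers, hxF, pow_one]⟩ :
    IsPGroup p (Subgroup.zpowers (x : F))).exists_le_sylow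
  refine h0 ((key p P).2 ((x : F) : R) ⟨(x : F), hP (Subgroup.mem_zpowers _), rfl⟩ ?_ a x.2)
  intro e
  have : orderOf (x : F) = 1 := orderOf_eq_one_iff.mpr (Subtype.ext e)
  exact hp.ne_one (hxF ▸ this)

theorem add_one_le_two_pow' : ∀ e : ℕ, e + 1 ≤ 2 ^ e
  | 0 => le_rfl
  | e + 1 => by
    have := add_one_le_two_pow' e
    rw [pow_succ]; omega

/-- The semilinear structure. -/
theorem exists_semilinear [Group.IsSolvable R] (hodd : Odd (Nat.card R)) {q : ℕ} [hqf : Fact q.Prime] (hq2 : q ≠ 2)
    (hE : ∀ e : V, q • e = 0)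
    (hpm : ∀ a b : V, a ≠ 0 → b ≠ 0 → ∃ r : R, r • a = b ∨ r • a = -b) :
    ∃ f : ℕ, f ≠ 0 ∧ ∃ θ : V ≃+ GaloisField q f, ∀ r : R, ∃ a : (GaloisField q f)ˣ,
      ∃ φ : GaloisField q f ≃+* GaloisField q f, ∀ v : V, θ (r • v) = (a : GaloisField q f) * φ (θ v) := by
  classical
  obtain ⟨hcyc, hfpf⟩ := fitting_cyclic hodd hqf.out hE hpm
  haveI := hcyc
  set F := fittingSubgroup R with hF
  have hab : ∀ f ∈ F, ∀ f' ∈ F, f * f' = f' * f := fun f hf f' hf' => by
    letI := IsCyclic.commGroup (α := F)
    exact congrArg Subtype.val (mul_comm (⟨f, hf⟩ : F) ⟨f', hf'⟩)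
  have hC : Subgroup.centralizer (F : Set R) ≤ F := CfsgLib.centralizer_fitting_le
  let ρ : R →* AddMonoid.End V := DistribMulAction.toAddMonoidEnd R V
  have hρ : ∀ (r : R) (x : V), ρ r x = r • x := fun _ _ => rfl
  let S : Set (AddMonoid.End V) := ρ '' (F : Set R)
  let L : Subring (AddMonoid.End V) := Subring.closure S
  have hSc : ∀ a ∈ S, ∀ b ∈ S, a * b = b * a := by
    rintro _ ⟨f, hf, rfl⟩ _ ⟨f', hf', rfl⟩
    rw [← map_mul, ← map_mul, hab f hf f' hf']
  haveI hLi : IsMulCommutative L := Subring.isMulCommutative_closure hSc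
  letI hLc : CommRing L := { (inferInstance : Ring L) with mul_comm := fun a b => hLi.is_comm.comm a b }
  haveI : Finite (AddMonoid.End V) := Finite.of_injective (fun φ : AddMonoid.End V => (φ : V → V)) DFunLike.coe_injective
  have hLcomm : ∀ (x y : L) (v : V), (x : AddMonoid.End V) ((y : AddMonoid.End V) v) = (y : AddMonoid.End V) ((x : AddMonoid.End V) v) :=
    fun x y v => DFunLike.congr_fun (congrArg Subtype.val (mul_comm x y)) v
  let c : R → (AddMonoid.End V →+* AddMonoid.End V) := fun r =>
    { toFun := fun y => ρ r * y * ρ r⁻¹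
      map_one' := by rw [mul_one, ← map_mul, mul_inv_cancel, map_one]
      map_mul' := fun y z => by
        calc ρ r * (y * z) * ρ r⁻¹ = ρ r * y * (ρ r⁻¹ * ρ r) * z * ρ r⁻¹ := by
              rw [← map_mul, inv_mul_cancel, map_one, mul_one]; simp only [mul_assoc]
          _ = _ := by simp only [mul_assoc]
      map_zero' := by rw [mul_zero, zero_mul]
      map_add' := fun y z => by rw [mul_add, add_mul] }
  have hcval : ∀ (r : R) (y : AddMonoid.End V), c r y = ρ r * y * ρ r⁻¹ := fun _ _ => rfl
  have hcL : ∀ (r : R), ∀ y ∈ L, c r y ∈ L := by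
    intro r y hy
    have : L ≤ L.comap (c r) := by
      refine Subring.closure_le.mpr ?_
      rintro _ ⟨f, hf, rfl⟩
      show c r (ρ f) ∈ L
      rw [hcval, ← map_mul, ← map_mul]
      exact Subring.subset_closure ⟨_, Subgroup.Normal.conj_mem inferInstance f hf r, rfl⟩
    exact this hy
  let e : R → L ≃+* L := fun r =>
    { toFun := fun (y : L) => ⟨c r y.1, hcL r _ y.2⟩
      invFun := fun (y : L) => ⟨c r⁻¹ y.1, hcL r⁻¹ _ y.2⟩
      left_inv := fun y => Subtype.ext (by
        show c r⁻¹ (c r y) = y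
        rw [hcval, hcval, inv_inv, ← mul_assoc, ← mul_assoc, ← map_mul, inv_mul_cancel, map_one, one_mul,
          mul_assoc, ← map_mul, inv_mul_cancel, map_one, mul_one])
      right_inv := fun y => Subtype.ext (by
        show c r (c r⁻¹ y) = y
        rw [hcval, hcval, inv_inv, ← mul_assoc, ← mul_assoc, ← map_mul, mul_inv_cancel, map_one, one_mul,
          mul_assoc, ← map_mul, mul_inv_cancel, map_one, mul_one])
      map_mul' := fun y z => Subtype.ext (map_mul (c r) y.1 z.1)
      map_add' := fun y z => Subtype.ext (map_add (c r) y.1 z.1) }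
  have he : ∀ (r : R) (x : L) (v : V), ((e r x : L) : AddMonoid.End V) (r • v) = r • ((x : AddMonoid.End V) v) := by
    intro r x v
    show r • ((x : AddMonoid.End V) (r⁻¹ • r • v)) = _
    rw [inv_smul_smul]
  -- the annihilators all have the same size
  let Ann : V → Set L := fun v => {x | (x : AddMonoid.End V) v = 0}
  have hAnn : ∀ a b : V, a ≠ 0 → b ≠ 0 → Nat.card (Ann a) = Nat.card (Ann b) := by
    intro a b ha hb
    obtain ⟨r, hr⟩ := hpm a b ha hb
    have hiff : ∀ x : L, (x : AddMonoid.End V) a = 0 ↔ ((e r x : L) : AddMonoid.End V) b = 0 := by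
      intro x
      have h1 : (x : AddMonoid.End V) a = 0 ↔ ((e r x : L) : AddMonoid.End V) (r • a) = 0 := by
        rw [he, smul_eq_zero_iff_eq]
      rw [h1]
      rcases hr with h | h
      · rw [h]
      · rw [h, map_neg, neg_eq_zero]
    exact Nat.card_congr ((e r).toEquiv.subtypeEquiv hiff)
  have hfree : ∀ (x : L) (v : V), v ≠ 0 → (x : AddMonoid.End V) v = 0 → x = 0 := by
    intro x v hv hxv
    refine Subtype.ext (DFunLike.ext _ _ fun w => ?_)
    show (x : AddMonoid.End V) w = 0
    by_contra hw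
    have hw0 : w ≠ 0 := fun e0 => hw (by rw [e0, map_zero])
    have hvw : v + w ≠ 0 := fun e0 => hw (by
      rw [show w = -v from eq_neg_of_add_eq_zero_right e0, map_neg, hxv, neg_zero])
    have hxw : Ann ((x : AddMonoid.End V) w) = Ann w := by
      refine (Set.eq_of_subset_of_ncard_le (s := Ann w) (t := Ann ((x : AddMonoid.End V) w))
        (fun y (hy : (y : AddMonoid.End V) w = 0) => ?_) ?_ (Set.toFinite _)).symm
      · show (y : AddMonoid.End V) ((x : AddMonoid.End V) w) = 0
        rw [hLcomm, hy, map_zero]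
      · rw [← Nat.card_coe_set_eq, ← Nat.card_coe_set_eq]
        exact (hAnn _ _ hw hw0).le
    have hlt : Ann (v + w) ⊂ Ann v := by
      refine ⟨fun y (hy : (y : AddMonoid.End V) (v + w) = 0) => ?_, fun hsub => hw ?_⟩
      · rw [map_add] at hy
        have h2 : (x : AddMonoid.End V) ((y : AddMonoid.End V) v) + (x : AddMonoid.End V) ((y : AddMonoid.End V) w) = 0 := by
          rw [← map_add, hy, map_zero]
        rw [hLcomm x y v, hxv, map_zero, zero_add, hLcomm x y w] at h2
        have hyw : y ∈ Ann w := hxw ▸ h2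
        show (y : AddMonoid.End V) v = 0
        rwa [show (y : AddMonoid.End V) w = 0 from hyw, add_zero] at hy
      · have h1 : (x : AddMonoid.End V) (v + w) = 0 := hsub hxv
        rwa [map_add, hxv, zero_add] at h1
    have hc1 := Set.ncard_lt_ncard hlt (Set.toFinite _)
    rw [← Nat.card_coe_set_eq, ← Nat.card_coe_set_eq, hAnn _ _ hvw hv] at hc1
    exact lt_irrefl _ hc1
  obtain ⟨s, hs⟩ := exists_ne (0 : V)
  haveI : Nontrivial L := by
    refine ⟨⟨0, 1, fun h => hs ?_⟩⟩
    have := DFunLike.congr_fun (congrArg Subtype.val h) s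
    exact this.symm
  haveI : NoZeroDivisors L := by
    refine ⟨fun {x y} hxy => ?_⟩
    by_cases hy : (y : AddMonoid.End V) s = 0
    · exact Or.inr (hfree y s hs hy)
    · exact Or.inl (hfree x _ hy (DFunLike.congr_fun (congrArg Subtype.val hxy) s))
  haveI : IsDomain L := NoZeroDivisors.to_isDomain L
  haveI : Fintype L := Fintype.ofFinite L
  letI fld : Field L := Fintype.fieldOfDomain L
  -- characteristic
  have hqL : (q : L) = 0 := by
    refine hfree _ s hs ?_
    have : ∀ n : ℕ, ((n : L) : AddMonoid.End V) s = n • s := fun n => by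
      induction n with
      | zero => simp
      | succ n ih =>
        rw [Nat.cast_succ, Subring.coe_add]
        show ((n : L) : AddMonoid.End V) s + s = _
        rw [ih, succ_nsmul]
    rw [this, hE]
  haveI : CharP L q := (CharP.charP_iff_prime_eq_zero hqf.out).mpr hqL
  obtain ⟨f, -, hcard⟩ := FiniteField.card L q
  have hcardL : Nat.card L = q ^ (f : ℕ) := by rw [Nat.card_eq_fintype_card, hcard]
  have hRA : Nat.card (RingAut L) = (f : ℕ) := (CfsgLib.Chev.ringAut_cyclic_card q hcardL).2
  let Φ : R →* RingAut L :=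
    { toFun := e
      map_one' := RingEquiv.ext fun y => Subtype.ext (by
        show c 1 y = y
        rw [hcval, inv_one, map_one, one_mul, mul_one])
      map_mul' := fun v w => RingEquiv.ext fun y => Subtype.ext (by
        show c (v * w) y = c v (c w y)
        rw [hcval, hcval, hcval, mul_inv_rev, map_mul, map_mul]
        simp only [mul_assoc]) }
  have hker : Φ.ker ≤ F := by
    intro v hv
    refine hC (Subgroup.mem_centralizer_iff.mpr fun g hg => ?_)
    have h := congrArg Subtype.val (RingEquiv.congr_fun (MonoidHom.mem_ker.mp hv) ⟨ρ g, Subring.subset_closure ⟨g, hg, rfl⟩⟩)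
    change c v (ρ g) = ρ g at h
    rw [hcval, ← map_mul, ← map_mul] at h
    have h' : v * g * v⁻¹ = g := FaithfulSMul.eq_of_smul_eq_smul (α := V) fun x => by
      rw [← hρ, ← hρ, h]
    calc g * v = v * g * v⁻¹ * v := by rw [h']
      _ = v * g := by group
  -- `|F| ≤ (|L| - 1) / 2`
  have hFc : 2 * Nat.card F + 1 ≤ q ^ (f : ℕ) := by
    let ι₀ : F →* L :=
      { toFun := fun g => ⟨ρ (g : R), Subring.subset_closure ⟨g, g.2, rfl⟩⟩
        map_one' := Subtype.ext (map_one ρ)
        map_mul' := fun a b => Subtype.ext (map_mul ρ (a : R) (b : R)) }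
    let ι : F →* Lˣ := ι₀.toHomUnits
    have hι : Function.Injective ι := fun a b h => Subtype.ext (FaithfulSMul.eq_of_smul_eq_smul (α := V) fun x =>
      DFunLike.congr_fun (congrArg (fun u : Lˣ => ((u : L) : AddMonoid.End V)) h) x)
    have hdvd : Nat.card F ∣ q ^ (f : ℕ) - 1 := by
      rw [← hcardL, ← Nat.card_units]
      exact Subgroup.card_dvd_of_injective ι hι
    have ho : Odd (Nat.card F) := hodd.of_dvd_nat F.card_subgroup_dvd_card
    have he2 : Odd (q ^ (f : ℕ)) := (hqf.out.odd_of_ne_two hq2).pow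
    obtain ⟨k, hk⟩ := hdvd
    have hk0 : k ≠ 0 := fun e0 => by
      rw [e0, mul_zero] at hk
      have := Nat.one_lt_pow f.pos.ne' hqf.out.one_lt
      omega
    have hk1 : k ≠ 1 := fun e0 => by
      rw [e0, mul_one] at hk
      obtain ⟨a, ha⟩ := ho; obtain ⟨b, hb⟩ := he2; omega
    have : Nat.card F * 2 ≤ Nat.card F * k := Nat.mul_le_mul_left _ (by omega)
    have := he2.pos
    omega
  have hR : Nat.card R ≤ Nat.card F * (f : ℕ) := by
    have h1 := Φ.ker.card_mul_index
    rw [Subgroup.index_ker] at h1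
    rw [← h1, ← hRA]
    refine Nat.mul_le_mul (Subgroup.card_le_of_le hker) ?_
    haveI : Finite (RingAut L) := Finite.of_injective (fun σ : RingAut L => (σ : L → L)) DFunLike.coe_injective
    exact Subgroup.card_le_card_group _
  have hV : Nat.card V ≤ 2 * Nat.card R + 1 := by
    let g : Option (R × Bool) → V := fun o => o.elim 0 fun p => if p.2 then p.1 • s else -(p.1 • s)
    have hg : Function.Surjective g := fun v => by
      by_cases hv : v = 0
      · exact ⟨none, hv.symm⟩
      obtain ⟨r, hr | hr⟩ := hpm s v hs hv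
      · exact ⟨some (r, true), hr⟩
      · exact ⟨some (r, false), by show -(r • s) = v; rw [hr, neg_neg]⟩
    have h2 : Nat.card (Option (R × Bool)) = 2 * Nat.card R + 1 := by
      haveI : Fintype R := Fintype.ofFinite R
      simp [Nat.card_eq_fintype_card, mul_comm]
    exact h2 ▸ Nat.card_le_card_of_surjective g hg
  -- evaluation at `s`
  let ev : L →+ V := AddMonoidHom.mk' (fun x => (x : AddMonoid.End V) s) fun x y => rfl
  have hinj : Function.Injective ev := (injective_iff_map_eq_zero ev).mpr fun x hx => hfree x s hs hx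
  have hsur : Function.Surjective ev := by
    by_contra hns
    simp only [Function.Surjective, not_forall, not_exists] at hns
    obtain ⟨w, hw⟩ := hns
    let pr : L × L → V := fun p => (p.1 : AddMonoid.End V) s + (p.2 : AddMonoid.End V) w
    have hpr : Function.Injective pr := by
      rintro ⟨a, b⟩ ⟨a', b'⟩ h
      have h' : (b : AddMonoid.End V) w - (b' : AddMonoid.End V) w = (a' : AddMonoid.End V) s - (a : AddMonoid.End V) s := by
        have h0 : (a : AddMonoid.End V) s + (b : AddMonoid.End V) w = (a' : AddMonoid.End V) s + (b' : AddMonoid.End V) w := h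
        rw [sub_eq_sub_iff_add_eq_add, add_comm, h0]
      by_cases hb : b = b'
      · subst hb
        rw [sub_self] at h'
        exact Prod.ext (hinj (sub_eq_zero.mp h'.symm).symm) rfl
      · exfalso
        refine hw ((b - b')⁻¹ * (a' - a)) ?_
        show ((b - b')⁻¹ : L).1 ((a' : AddMonoid.End V) s - (a : AddMonoid.End V) s) = w
        rw [← h']
        exact DFunLike.congr_fun (congrArg Subtype.val (inv_mul_cancel₀ (sub_ne_zero.mpr hb))) w
    have h1 := Nat.card_le_card_of_injective pr hpr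
    rw [Nat.card_prod, hcardL] at h1
    have h3 : q ^ (f : ℕ) * q ^ (f : ℕ) ≤ (q ^ (f : ℕ) - 1) * (f : ℕ) + 1 := by
      calc q ^ (f : ℕ) * q ^ (f : ℕ) ≤ Nat.card V := h1
        _ ≤ 2 * Nat.card R + 1 := hV
        _ ≤ 2 * (Nat.card F * (f : ℕ)) + 1 := by omega
        _ ≤ _ := by
          rw [← mul_assoc]
          exact Nat.add_le_add_right (Nat.mul_le_mul_right _ (by omega)) 1
    have h4 : (f : ℕ) + 1 ≤ q ^ (f : ℕ) := (add_one_le_two_pow' f).trans (Nat.pow_le_pow_left hqf.out.two_le _)
    obtain ⟨t, ht⟩ : ∃ t, q ^ (f : ℕ) = t + 1 := ⟨q ^ (f : ℕ) - 1, by omega⟩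
    rw [ht] at h3 h4
    simp only [Nat.add_sub_cancel] at h3
    nlinarith [f.pos]
  let κ : L ≃+* GaloisField q (f : ℕ) :=
    haveI : Fintype (GaloisField q (f : ℕ)) := Fintype.ofFinite _
    FiniteField.ringEquivOfCardEq (by
      rw [← Nat.card_eq_fintype_card, ← Nat.card_eq_fintype_card, hcardL, GaloisField.card q _ f.pos.ne'])
  let evE : L ≃+ V := AddEquiv.ofBijective ev ⟨hinj, hsur⟩
  refine ⟨f, f.pos.ne', evE.symm.trans κ.toAddEquiv, fun r => ?_⟩
  obtain ⟨d, hd⟩ := hsur (r • s)
  have hd0 : d ≠ 0 := fun e0 => hs (by rw [e0, map_zero] at hd; exact (smul_eq_zero_iff_eq r).mp hd.symm)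
  refine ⟨Units.mk0 (κ d) (fun e0 => hd0 (κ.injective (by rw [e0, map_zero]))), (κ.symm.trans (e r)).trans κ, fun v => ?_⟩
  obtain ⟨x, rfl⟩ := hsur v
  have h1 : r • ev x = ev (d * e r x) := by
    show r • (x : AddMonoid.End V) s = (d : AddMonoid.End V) ((e r x : L).1 s)
    rw [← he r x s, ← hLcomm]
    exact congrArg _ hd.symm
  have hsymm : ∀ y, evE.symm (ev y) = y := fun y => evE.symm_apply_apply y
  show κ (evE.symm (r • ev x)) = κ d * κ (e r (κ.symm (κ (evE.symm (ev x)))))
  rw [h1, hsymm, hsymm, κ.symm_apply_apply, map_mul]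

end CfsgLib.AfterFT.HalfTrans
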