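import Cfsg.Agent.Lib.Coprime
import Cfsg.Agent.Lib.ZJ.Complement
import Cfsg.Agent.Lib.NilpotentCommute
import Cfsg.Agent.Lib.Transfer

/-!
Row 4240: coprime action with all maximal invariant subgroups nilpotent, given that groups of odd order are soluble.
The solubility step is Glauberman–Thompson.
-/

set_option autoImplicit false
set_option linter.unusedSectionVars false
set_option linter.style.haveILetI false

namespace CfsgLib.AfterFT.InvMaxNilpotent

open Subgroup Cfsg
open scoped Pointwise

universe w u v

variable {Γ : Type w} [Group Γ] [Finite Γ]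

theorem normal_of_normalized {A K N : Subgroup Γ} (hAK : A ⊔ K = ⊤) (h1 : A ≤ normalizer (N : Set Γ))
    (h2 : K ≤ normalizer (N : Set Γ)) : N.Normal :=
  normalizer_eq_top_iff.mp (top_le_iff.mp (hAK ▸ sup_le h1 h2))

theorem le_normalizer_of_conj_le {A N : Subgroup Γ} (h : ∀ a ∈ A, ∀ x ∈ N, a * x * a⁻¹ ∈ N) :
    A ≤ normalizer (N : Set Γ) := fun a ha => mem_normalizer_iff.mpr fun x =>
  ⟨h a ha x, fun hx => by simpa [mul_assoc] using h a⁻¹ (A.inv_mem ha) _ hx⟩

theorem conj_smul_eq_of_mem_normalizer {a : Γ} {N : Subgroup Γ} (ha : a ∈ normalizer (N : Set Γ)) :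
    MulAut.conj a • N = N := by
  ext x
  rw [mem_pointwise_smul_iff_inv_smul_mem, ← map_inv, MulAut.smul_def, MulAut.conj_apply, inv_inv]
  simpa [mul_assoc] using mem_normalizer_iff.mp ha (a⁻¹ * x * a)

theorem solvable_core
    (odd : ∀ (H : Type w) [Group H] [Finite H], Odd (Nat.card H) → Group.IsSolvable H) :
    ∀ (n : ℕ) (Γ : Type w) [Group Γ] [Finite Γ] (A K : Subgroup Γ) [K.Normal], Nat.card K = n → A ⊔ K = ⊤ →
      (Nat.card A).Coprime (Nat.card K) →
      (∀ H : Subgroup Γ, H < K → A ≤ normalizer (H : Set Γ) → Group.IsNilpotent H) → Group.IsSolvable K := by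
  intro n
  induction n using Nat.strong_induction_on with
  | _ n ih =>
    intro Γ _ _ A K _ hn htop hcop hnil
    by_cases hNex : ∃ N : Subgroup Γ, N.Normal ∧ N ≠ ⊥ ∧ N < K
    · obtain ⟨N, hN, hN1, hNK⟩ := hNex
      haveI := hN
      haveI : Group.IsNilpotent N := hnil N hNK (by rw [normalizer_eq_top_iff.mpr hN]; exact le_top)
      set π := QuotientGroup.mk' N with hπdef
      have hπ : Function.Surjective π := QuotientGroup.mk'_surjective N
      set K' := K.map π with hK'
      haveI : K'.Normal := ‹K.Normal›.map π hπ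
      have hcK : Nat.card K = Nat.card N * Nat.card K' := by
        rw [hK', ← relIndex_ker, QuotientGroup.ker_mk', ← relIndex_bot_left, ← relIndex_bot_left,
          relIndex_mul_relIndex _ _ _ bot_le hNK.le]
      have hlt : Nat.card K' < n := by
        rw [← hn, hcK]
        exact lt_mul_of_one_lt_left Nat.card_pos (one_lt_card_iff_ne_bot N |>.mpr hN1)
      have htop' : A.map π ⊔ K' = ⊤ := by rw [hK', ← Subgroup.map_sup, htop, map_top_of_surjective π hπ]
      have hcop' : (Nat.card (A.map π)).Coprime (Nat.card K') :=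
        (hcop.coprime_dvd_left (card_map_dvd _ _)).coprime_dvd_right (card_map_dvd _ _)
      have hKc : K'.comap π = K := by
        rw [hK', comap_map_eq, QuotientGroup.ker_mk', sup_eq_left.mpr hNK.le]
      have hs := ih _ hlt (Γ ⧸ N) (A.map π) K' rfl htop' hcop' fun H hH hA => by
        have h1 : H.comap π < K := by
          rw [← hKc]
          exact lt_of_le_of_ne (comap_mono hH.le) fun e => hH.ne (comap_injective hπ e)
        have h2 : A ≤ normalizer ((H.comap π : Subgroup Γ) : Set Γ) := le_normalizer_of_conj_le fun a ha x hx => by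
          simp only [mem_comap, map_mul, map_inv] at hx ⊢
          exact (mem_normalizer_iff.mp (hA (mem_map_of_mem π ha)) _).mp hx
        haveI := hnil _ h1 h2
        exact Group.nilpotent_of_surjective (π.subgroupComap H) (π.subgroupComap_surjective_of_surjective H hπ)
      set f := π.subgroupMap K
      have hker : f.ker ≤ N.subgroupOf K := fun x hx => by
        have : π (x : Γ) = 1 := congrArg Subtype.val hx
        exact mem_subgroupOf.mpr ((QuotientGroup.eq_one_iff _).mp this)
      haveI := hs
      haveI : Group.IsSolvable (N.subgroupOf K) :=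
        Group.isSolvable_of_isSolvable_injective (f := (subgroupOfEquivOfLe hNK.le).toMonoidHom)
          (subgroupOfEquivOfLe hNK.le).injective
      exact Group.isSolvable_of_ker_le_range (N.subgroupOf K).subtype f (by rwa [range_subtype])
    push Not at hNex
    rcases Nat.even_or_odd (Nat.card K) with heven | hodd
    swap
    · exact odd K hodd
    have hAodd : Odd (Nat.card A) := (Nat.coprime_two_right).mp (hcop.coprime_dvd_right heven.two_dvd)
    by_cases hp : ∃ p, p.Prime ∧ p ≠ 2 ∧ p ∣ Nat.card K
    · obtain ⟨p, hpp, hp2, hpd⟩ := hp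
      haveI : Fact p.Prime := ⟨hpp⟩
      have hAK : A ≤ normalizer (K : Set Γ) := by rw [normalizer_eq_top_iff.mpr inferInstance]; exact le_top
      obtain ⟨R, hR⟩ := coprime_exists_invariant_sylow hAK hcop (Or.inl (odd A hAodd)) p
      set Z := ZJ.zj 0 (R : Subgroup K) with hZ
      set Z' := Z.map K.subtype with hZ'
      have hZeq : ZJ.zj 0 ((R : Subgroup K).map K.subtype) = Z' := ZJ.zj_map 0 K.subtype_injective _
      have hAZ : A ≤ normalizer (Z' : Set Γ) := le_normalizer_of_conj_le fun a ha x hx => by
        have e : MulAut.conj a • Z' = Z' := by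
          rw [← hZeq, ← ZJ.zj_conj, conj_smul_eq_of_mem_normalizer (hR ha)]
        rw [← e]
        exact smul_mem_pointwise_smul x _ Z' hx
      have hRne : (R : Subgroup K) ≠ ⊥ := R.ne_bot_of_dvd_card hpd
      have hZne : Z' ≠ ⊥ := by
        rw [hZ', ne_eq, map_eq_bot_iff_of_injective _ K.subtype_injective]
        exact ZJ.zj_ne_bot (Or.inl rfl) R.2 hRne
      have hZK : Z' ≤ K := map_subtype_le _
      by_cases hNK : K ≤ normalizer (Z' : Set Γ)
      · have hn' : Z'.Normal := normal_of_normalized htop hAZ hNK
        have hZtop : Z' = K := by_contra fun e => hNex Z' hn' hZne (lt_of_le_of_ne hZK e)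
        have hRtop : (R : Subgroup K) = ⊤ := by
          refine top_le_iff.mp ?_
          have : Z ≤ (R : Subgroup K) := ZJ.zj_le _ _
          refine le_trans (le_of_eq ?_) this
          exact (map_injective K.subtype_injective (by rw [← hZ', hZtop, ← MonoidHom.range_eq_map, range_subtype]))
        haveI : IsPGroup p K := (hRtop ▸ R.2 : IsPGroup p (⊤ : Subgroup K)).of_equiv Subgroup.topEquiv
        haveI := IsPGroup.isNilpotent this
        exact inferInstance
      · set L := K ⊓ normalizer (Z' : Set Γ) with hL
        have hLK : L < K := lt_of_le_of_ne inf_le_left fun e => hNK (e ▸ inf_le_right)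
        have hAL : A ≤ normalizer (L : Set Γ) := le_normalizer_of_conj_le fun a ha x hx =>
          mem_inf.mpr ⟨‹K.Normal›.conj_mem _ (mem_inf.mp hx).1 a,
            mul_mem (mul_mem (hAZ ha) (mem_inf.mp hx).2) (inv_mem (hAZ ha))⟩
        have hnL := hnil L hLK hAL
        have hNn : Group.IsNilpotent (normalizer (Z : Set K)) := by
          let g : normalizer (Z : Set K) →* L :=
            (K.subtype.comp (normalizer (Z : Set K)).subtype).codRestrict L fun z => mem_inf.mpr ⟨(z : K).2,
              le_normalizer_map K.subtype (mem_map_of_mem K.subtype z.2)⟩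
          haveI := hnL
          exact Subgroup.isNilpotent_of_ker_le_center g (by
            intro z hz
            have : (((z : K) : Γ)) = 1 := congrArg Subtype.val hz
            have hz1 : z = 1 := Subtype.ext (Subtype.ext this)
            rw [hz1]; exact one_mem _)
        have hc := ZJ.hasNormalPComplement_of_normalizer_zj hp2 (Or.inl rfl) R
          (hasNormalPComplement_of_isNilpotent hNn)
        have hb := (Transfer.hasNormalPComplement_iff_inf_pResidual R).mp hc
        set N := (pResidual p K).map K.subtype with hN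
        haveI : N.Normal := ConjAct.normal_of_characteristic_of_normal
        have hNK' : N < K := by
          refine lt_of_le_of_ne (map_subtype_le _) fun e => hRne ?_
          have : pResidual p K = ⊤ := map_injective K.subtype_injective (by
            rw [← hN, e, ← MonoidHom.range_eq_map, range_subtype])
          rwa [this, inf_top_eq] at hb
        have hNb : pResidual p K = ⊥ := by
          rw [← map_eq_bot_iff_of_injective _ K.subtype_injective]
          exact by_contra fun e => hNex N inferInstance e hNK'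
        have hKp : IsPGroup p K :=
          (Transfer.isPGroup_quotient_pResidual (p := p) (G := K)).of_equiv
            ((QuotientGroup.quotientMulEquivOfEq hNb).trans QuotientGroup.quotientBot)
        haveI := hKp.isNilpotent
        exact inferInstance
    · push Not at hp
      obtain ⟨k, hk⟩ : ∃ k, Nat.card K = 2 ^ k := ⟨_, Nat.eq_prime_pow_of_unique_prime_dvd Nat.card_pos.ne'
        fun {q} hq hd => by_contra fun h => hp q hq h hd⟩
      haveI : Fact (Nat.Prime 2) := ⟨Nat.prime_two⟩
      haveI := (IsPGroup.of_card hk).isNilpotent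
      exact inferInstance

/-- The structure of a soluble group, not nilpotent, with all proper invariant subgroups nilpotent. -/
theorem structure_core {A K : Subgroup Γ} [K.Normal] (hcop : (Nat.card A).Coprime (Nat.card K))
    (hnil : ∀ H : Subgroup Γ, H < K → A ≤ normalizer (H : Set Γ) → Group.IsNilpotent H)
    (hs : Group.IsSolvable K) (hK : ¬ Group.IsNilpotent K) :
    ∃ (p q a b : ℕ) (T : Sylow q K), p.Prime ∧ q.Prime ∧ p ≠ q ∧ Nat.card K = p ^ a * q ^ b ∧
      q ∣ Nat.card K ∧ (T : Subgroup K).Normal := by
  haveI := hs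
  haveI : Nontrivial K := not_subsingleton_iff_nontrivial.mp fun h => hK inferInstance
  have hAK : A ≤ normalizer (K : Set Γ) := by rw [normalizer_eq_top_iff.mpr inferInstance]; exact le_top
  -- a prime with `O^p(K) < K`
  obtain ⟨p, hp, hres⟩ : ∃ p, p.Prime ∧ pResidual p K ≠ ⊤ := by
    have hne : commutator K ≠ ⊤ := (Group.IsSolvable.commutator_lt_top_of_nontrivial K).ne
    have h1 : 1 < Nat.card (K ⧸ commutator K) := by
      rw [← index_eq_card]
      exact one_lt_index_of_ne_top hne
    obtain ⟨p, hp, hd⟩ := Nat.exists_prime_and_dvd h1.ne'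
    haveI : Fact p.Prime := ⟨hp⟩
    haveI : Group.IsNilpotent (K ⧸ commutator K) :=
      letI : CommGroup (K ⧸ commutator K) := inferInstanceAs (CommGroup (Abelianization K))
      inferInstance
    obtain ⟨P, N, hN, hc⟩ := hasNormalPComplement_of_isNilpotent (p := p) ‹Group.IsNilpotent (K ⧸ commutator K)›
    haveI := hN
    refine ⟨p, hp, fun e => P.ne_bot_of_dvd_card hd ?_⟩
    have h2 := Transfer.le_ker_of_isPGroup (P.2.of_equiv hc.symm.QuotientMulEquiv.symm)
      ((QuotientGroup.mk' N).comp (QuotientGroup.mk' (commutator K)))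
    rw [e, top_le_iff, MonoidHom.ker_eq_top_iff] at h2
    have hNtop : N = ⊤ := by
      refine eq_top_iff.mpr fun x _ => ?_
      obtain ⟨y, rfl⟩ := QuotientGroup.mk'_surjective _ x
      exact (QuotientGroup.eq_one_iff _).mp (DFunLike.congr_fun h2 y)
    subst hNtop
    exact isComplement'_top_left.mp hc
  haveI : Fact p.Prime := ⟨hp⟩
  set M := pResidual p K with hM
  have hMn : Group.IsNilpotent M := by
    haveI : (M.map K.subtype).Normal := ConjAct.normal_of_characteristic_of_normal
    have h := hnil (M.map K.subtype) (lt_of_le_of_ne (map_subtype_le _) fun e => hres (map_injective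
      K.subtype_injective (by rw [e, ← MonoidHom.range_eq_map, range_subtype])))
      (by rw [normalizer_eq_top_iff.mpr inferInstance]; exact le_top)
    haveI := h
    exact Group.nilpotent_of_surjective (M.equivMapOfInjective _ K.subtype_injective).symm.toMonoidHom
      (M.equivMapOfInjective _ K.subtype_injective).symm.surjective
  obtain ⟨R, hR⟩ := coprime_exists_invariant_sylow hAK hcop (Or.inr hs) p
  -- the other Sylow subgroups are normal
  have hnorm : ∀ q : ℕ, q.Prime → q ≠ p → ∀ T : Sylow q K, (T : Subgroup K).Normal := by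
    intro q hq hqp T
    haveI : Fact q.Prime := ⟨hq⟩
    have hTM : (T : Subgroup K) ≤ M := fun x hx => by
      obtain ⟨k, hk⟩ := T.2 ⟨x, hx⟩
      refine Transfer.mem_pResidual_of_coprime ?_
      exact (((Nat.coprime_primes hq hp).mpr hqp).pow_left k).coprime_dvd_left
        (orderOf_dvd_of_pow_eq_one (congrArg Subtype.val hk))
    haveI := hMn
    set T₀ := T.subtype hTM with hT₀
    haveI : (T₀ : Subgroup M).Normal :=
      (Group.isNilpotent_of_finite_tfae (G := M)).out 0 3 rfl rfl |>.mp hMn q ⟨hq⟩ T₀
    haveI : (T₀ : Subgroup M).Characteristic := T₀.characteristic_of_normal inferInstance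
    have e : (T₀ : Subgroup M).map M.subtype = (T : Subgroup K) := by
      rw [hT₀, Sylow.coe_subtype, subgroupOf_map_subtype, inf_eq_left.mpr hTM]
    rw [← e]
    exact ConjAct.normal_of_characteristic_of_normal
  by_cases hex : ∃ (q : ℕ) (T : Sylow q K), q.Prime ∧ q ≠ p ∧ q ∣ Nat.card K ∧ (T : Subgroup K) ⊔ R = ⊤
  · obtain ⟨q, T, hq, hqp, hqd, htop⟩ := hex
    haveI : Fact q.Prime := ⟨hq⟩
    haveI := hnorm q hq hqp T
    obtain ⟨a, ha⟩ := R.2.exists_card_eq
    obtain ⟨b, hb⟩ := T.2.exists_card_eq
    refine ⟨p, q, a, b, T, hp, hq, hqp.symm, ?_, hqd, inferInstance⟩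
    have hdisj : Disjoint (T : Subgroup K) (R : Subgroup K) := IsPGroup.disjoint_of_ne q p hqp _ _ T.2 R.2
    have hc := isComplement'_of_disjoint_and_mul_eq_univ hdisj (by
      rw [← normal_mul, htop, coe_top])
    rw [← hc.card_mul_card, ha, hb, mul_comm]
  · exfalso
    push Not at hex
    have hcomm : ∀ (q : ℕ) (T : Sylow q K), q.Prime → q ≠ p → q ∣ Nat.card K →
        (T : Subgroup K) ≤ normalizer ((R : Subgroup K) : Set K) := by
      intro q T hq hqp hqd
      haveI : Fact q.Prime := ⟨hq⟩
      haveI := hnorm q hq hqp T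
      haveI : (T : Subgroup K).Characteristic := T.characteristic_of_normal inferInstance
      haveI : ((T : Subgroup K).map K.subtype).Normal := ConjAct.normal_of_characteristic_of_normal
      set S := ((T : Subgroup K) ⊔ R).map K.subtype with hS
      have hSK : S < K := lt_of_le_of_ne (map_subtype_le _) fun e => hex q T hq hqp hqd (map_injective
        K.subtype_injective (by rw [← hS, e, ← MonoidHom.range_eq_map, range_subtype]))
      have hAS : A ≤ normalizer (S : Set Γ) := le_normalizer_of_conj_le fun a ha x hx => by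
        have e : MulAut.conj a • S = S := by
          rw [hS, Subgroup.map_sup, smul_sup, conj_smul_eq_of_mem_normalizer (hR ha), conj_smul_eq_of_mem_normalizer
            (by rw [normalizer_eq_top_iff.mpr inferInstance]; exact mem_top a)]
        rw [← e]
        exact smul_mem_pointwise_smul x _ S hx
      haveI := hnil S hSK hAS
      intro t ht
      rw [mem_normalizer_iff]
      have hc : ∀ r ∈ (R : Subgroup K), t * r = r * t := by
        intro r hr
        have h1 : ((t : K) : Γ) ∈ S := mem_map_of_mem K.subtype (mem_sup_left ht)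
        have h2 : ((r : K) : Γ) ∈ S := mem_map_of_mem K.subtype (mem_sup_right hr)
        obtain ⟨i, hi⟩ := T.2 ⟨t, ht⟩
        obtain ⟨j, hj⟩ := R.2 ⟨r, hr⟩
        have hi' : (⟨_, h1⟩ : S) ^ q ^ i = 1 := Subtype.ext (congrArg (fun z : (T : Subgroup K) => ((z : K) : Γ)) hi)
        have hj' : (⟨_, h2⟩ : S) ^ p ^ j = 1 := Subtype.ext (congrArg (fun z : (R : Subgroup K) => ((z : K) : Γ)) hj)
        have := commute_of_nilpotent (⟨_, h1⟩ : S) ⟨_, h2⟩
          (((((Nat.coprime_primes hq hp).mpr hqp).pow i j).coprime_dvd_left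
            (orderOf_dvd_of_pow_eq_one hi')).coprime_dvd_right (orderOf_dvd_of_pow_eq_one hj'))
        exact Subtype.ext (congrArg (fun z : S => (z : Γ)) this.eq)
      intro r
      constructor
      · intro hr; rw [hc r hr, mul_inv_cancel_right]; exact hr
      · intro hr
        have h3 := hc _ hr
        have : t * r * t⁻¹ = r := mul_left_cancel (h3.trans (by group))
        rwa [this] at hr
    have hN : normalizer ((R : Subgroup K) : Set K) = ⊤ := by
      by_contra hne
      obtain ⟨q, hq, hd⟩ := Nat.exists_prime_and_dvd (one_lt_index_of_ne_top hne).ne'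
      haveI : Fact q.Prime := ⟨hq⟩
      rcases eq_or_ne q p with rfl | hqp
      · exact R.not_dvd_index (hd.trans (index_dvd_of_le le_normalizer))
      · obtain ⟨T⟩ : Nonempty (Sylow q K) := inferInstance
        exact T.not_dvd_index (hd.trans (index_dvd_of_le (hcomm q T hq hqp
          (hd.trans (index_dvd_card _)))))
    refine hK (((Group.isNilpotent_of_finite_tfae (G := K)).out 0 3 rfl rfl).mpr fun q hq P => ?_)
    haveI := hq
    rcases eq_or_ne q p with rfl | hqp
    · obtain ⟨g, rfl⟩ := MulAction.exists_smul_eq K R P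
      haveI : (R : Subgroup K).Normal := normalizer_eq_top_iff.mp hN
      rwa [Sylow.smul_eq_of_normal]
    · exact hnorm q hq.out hqp P

/-- Row 4240, given the odd order theorem. -/
theorem invariant_max_nilpotent
    (odd : ∀ (H : Type (max u v)) [Group H] [Finite H], Odd (Nat.card H) → Group.IsSolvable H)
    {A : Type u} {G : Type v} [Group A] [Group G] [Finite A] [Finite G] [MulDistribMulAction A G]
    (hcop : (Nat.card A).Coprime (Nat.card G))
    (hmax : ∀ H : Subgroup G, H ≠ ⊤ → (∀ a : A, ∀ x ∈ H, a • x ∈ H) →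
      (∀ K : Subgroup G, H < K → (∀ a : A, ∀ x ∈ K, a • x ∈ K) → K = ⊤) → Group.IsNilpotent H)
    (hG : ¬ Group.IsNilpotent G) :
    Group.IsSolvable G ∧
      (∃ p q a b : ℕ, p.Prime ∧ q.Prime ∧ p ≠ q ∧ Nat.card G = p ^ a * q ^ b) ∧
      ∃ (p : ℕ) (P : Sylow p G), p.Prime ∧ p ∣ Nat.card G ∧ (P : Subgroup G).Normal ∧
        (∀ a : A, ∀ x ∈ (P : Subgroup G), a • x ∈ (P : Subgroup G)) := by
  have hall : ∀ H : Subgroup G, H ≠ ⊤ → (∀ a : A, ∀ x ∈ H, a • x ∈ H) → Group.IsNilpotent H := by
    intro H hH hinv
    obtain ⟨M, hHM, hM⟩ := Finite.exists_le_maximal (α := Subgroup G)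
      (p := fun M => M ≠ ⊤ ∧ ∀ a : A, ∀ x ∈ M, a • x ∈ M) ⟨hH, hinv⟩
    haveI := hmax M hM.1.1 hM.1.2 fun K hK hKinv => by_contra fun hne => hK.not_ge (hM.2 ⟨hne, hKinv⟩ hK.le)
    exact Subgroup.isNilpotent_of_ker_le_center (Subgroup.inclusion hHM)
      (by intro x hx; rw [(MonoidHom.ker_eq_bot_iff _).mpr (Subgroup.inclusion_injective hHM), mem_bot] at hx
          rw [hx]; exact one_mem _)
  set φ := MulDistribMulAction.toMulAut A G with hφ
  let Γ := G ⋊[φ] A
  haveI : Finite Γ := Finite.of_equiv (G × A) SemidirectProduct.equivProd.symm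
  set K : Subgroup Γ := (SemidirectProduct.inl : G →* Γ).range with hKd
  set A' : Subgroup Γ := (SemidirectProduct.inr : A →* Γ).range with hAd
  haveI : K.Normal := by rw [hKd, SemidirectProduct.range_inl_eq_ker_rightHom]; infer_instance
  let e : G ≃* K := MonoidHom.ofInjective SemidirectProduct.inl_injective
  have hcK : Nat.card K = Nat.card G := (Nat.card_congr e.toEquiv).symm
  have hcA : Nat.card A' = Nat.card A :=
    (Nat.card_congr (MonoidHom.ofInjective SemidirectProduct.inr_injective).toEquiv).symm
  have htop : A' ⊔ K = ⊤ := by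
    refine eq_top_iff.mpr fun x _ => ?_
    rw [← SemidirectProduct.inl_left_mul_inr_right x]
    exact mul_mem (mem_sup_right ⟨_, rfl⟩) (mem_sup_left ⟨_, rfl⟩)
  have hcop' : (Nat.card A').Coprime (Nat.card K) := by rwa [hcK, hcA]
  have hnil : ∀ H : Subgroup Γ, H < K → A' ≤ normalizer (H : Set Γ) → Group.IsNilpotent H := by
    intro H hH hA
    set H₀ := H.comap (SemidirectProduct.inl : G →* Γ)
    have hm : H₀.map (SemidirectProduct.inl : G →* Γ) = H := map_comap_eq_self hH.le
    haveI := hall H₀ (fun h => hH.ne (by rw [← hm, h, hKd, MonoidHom.range_eq_map])) fun a x hx => by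
      have h1 := (mem_normalizer_iff.mp (hA ⟨a, rfl⟩) _).mp (mem_comap.mp hx)
      rw [← map_inv, ← SemidirectProduct.inl_aut] at h1
      exact mem_comap.mpr h1
    exact hm ▸ Group.nilpotent_of_surjective
      (H₀.equivMapOfInjective _ SemidirectProduct.inl_injective).toMonoidHom
      (H₀.equivMapOfInjective _ SemidirectProduct.inl_injective).surjective
  have hs := solvable_core odd _ Γ A' K rfl htop hcop' hnil
  haveI := hs
  have hGs : Group.IsSolvable G := Group.isSolvable_of_surjective (f := e.symm.toMonoidHom) e.symm.surjective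
  obtain ⟨p, q, a, b, T, hp, hq, hpq, hc, hqd, hTn⟩ := structure_core hcop' hnil hs fun h =>
    hG (haveI := h; Group.nilpotent_of_surjective e.symm.toMonoidHom e.symm.surjective)
  haveI : Fact q.Prime := ⟨hq⟩
  refine ⟨hGs, ⟨p, q, a, b, hp, hq, hpq, hcK ▸ hc⟩, q, T.mapSurjective (f := e.symm.toMonoidHom) e.symm.surjective,
    hq, hcK ▸ hqd, ?_, ?_⟩
  · exact hTn.map _ e.symm.surjective
  · set P := T.mapSurjective (f := e.symm.toMonoidHom) e.symm.surjective
    haveI : (P : Subgroup G).Normal := hTn.map _ e.symm.surjective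
    intro a x hx
    exact (characteristic_iff_map_le.mp (P.characteristic_of_normal inferInstance) (φ a))
      (mem_map_of_mem (φ a).toMonoidHom hx)

end CfsgLib.AfterFT.InvMaxNilpotent
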