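import Cfsg.Agent.Lib.AfterFT.ClassTwoControl
import Cfsg.Agent.Lib.ZJ.Complement
import Cfsg.Agent.Lib.NilpotentCommute

/-!
A coprime action with a maximal invariant subgroup that is nilpotent, its Sylow 2-subgroup of class at most two.
-/

set_option autoImplicit false
set_option linter.unusedSectionVars false
set_option linter.style.haveILetI false

namespace CfsgLib.AfterFT.MaxNil

open Cfsg Subgroup CfsgLib
open scoped commutatorElement

universe u v

section Aux

variable {G : Type u} [Group G] [Finite G] {A : Type v} [Group A] [Finite A] (φ : A →* MulAut G)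

/-- The subgroup is invariant under the action. -/
def Inv (X : Subgroup G) : Prop := ∀ a : A, X.map (φ a).toMonoidHom = X

theorem inv_of_mem {X : Subgroup G} (h : ∀ a : A, ∀ x ∈ X, φ a x ∈ X) : Inv φ X := fun a =>
  eq_of_le_of_card_ge (by rintro _ ⟨x, hx, rfl⟩; exact h a x hx) (card_map_of_injective (φ a).injective).ge

theorem Inv.apply_mem {X : Subgroup G} (h : Inv φ X) (a : A) {x : G} (hx : x ∈ X) : φ a x ∈ X :=
  (h a).le ⟨x, hx, rfl⟩

theorem Inv.sup {X Y : Subgroup G} (hX : Inv φ X) (hY : Inv φ Y) : Inv φ (X ⊔ Y) := fun a => by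
  rw [Subgroup.map_sup, hX a, hY a]

theorem Inv.normalizer {X : Subgroup G} (h : Inv φ X) : Inv φ (normalizer (X : Set G)) := fun a => by
  rw [Subgroup.map_normalizer_eq_of_bijective _ (φ a).bijective, h a]

/-- An invariant Sylow subgroup for a coprime action of a solvable group. -/
theorem exists_inv_sylow (hcop : (Nat.card A).Coprime (Nat.card G)) (hA : Group.IsSolvable A) (p : ℕ)
    [Fact p.Prime] : ∃ P : Sylow p G, Inv φ (P : Subgroup G) := by
  haveI : Finite (G ⋊[φ] A) := Finite.of_equiv _ SemidirectProduct.equivProd.symm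
  set K : Subgroup (G ⋊[φ] A) := (SemidirectProduct.inl : G →* G ⋊[φ] A).range with hK
  set B : Subgroup (G ⋊[φ] A) := (SemidirectProduct.inr : A →* G ⋊[φ] A).range with hB
  haveI : K.Normal := by rw [hK, SemidirectProduct.range_inl_eq_ker_rightHom]; infer_instance
  let eK : G ≃* K := MonoidHom.ofInjective SemidirectProduct.inl_injective
  have hB' : Group.IsSolvable B := Group.isSolvable_of_surjective
    (f := (MonoidHom.ofInjective (SemidirectProduct.inr_injective (φ := φ))).toMonoidHom) (MulEquiv.surjective _)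
  have hc : (Nat.card B).Coprime (Nat.card K) := by
    rw [← Nat.card_congr eK.toEquiv, ← Nat.card_congr (MonoidHom.ofInjective
      (SemidirectProduct.inr_injective (φ := φ))).toEquiv]
    exact hcop
  obtain ⟨P, hP⟩ := coprime_exists_invariant_sylow (A := B) (K := K)
    ((normalizer_eq_top K).symm ▸ le_top) hc (Or.inl hB') p
  refine ⟨P.comapOfInjective eK.toMonoidHom eK.injective (fun x _ => eK.surjective x), inv_of_mem φ fun a x hx => ?_⟩
  have h1 : SemidirectProduct.inr a * SemidirectProduct.inl x * (SemidirectProduct.inr a)⁻¹ ∈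
      (P : Subgroup K).map K.subtype :=
    (mem_normalizer_iff.mp (hP ⟨a, rfl⟩) _).mp ⟨eK x, hx, rfl⟩
  obtain ⟨y, hy, e⟩ := h1
  rw [← map_inv, ← SemidirectProduct.inl_aut] at e
  have : eK (φ a x) = y := Subtype.ext e.symm
  show eK (φ a x) ∈ (P : Subgroup K)
  rw [this]
  exact hy

end Aux

variable (A : Type v) [Group A] [Finite A]

theorem main (odd : ∀ (H : Type u) [Group H] [Finite H], Odd (Nat.card H) → Group.IsSolvable H)
    (hAs : Group.IsSolvable A) :
    ∀ (n : ℕ) (G : Type u) [Group G] [Finite G], Nat.card G = n → ∀ φ : A →* MulAut G,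
      (Nat.card A).Coprime (Nat.card G) → ∀ M : Subgroup G, M ≠ ⊤ → Inv φ M →
      (∀ H : Subgroup G, M ≤ H → H ≠ ⊤ → Inv φ H → H = M) → Group.IsNilpotent M →
      (∀ P : Subgroup G, P ≤ M → IsPGroup 2 P → ∀ a ∈ P, ∀ b ∈ P, ∀ c ∈ P, Commute ⁅a, b⁆ c) →
      Group.IsSolvable G := by
  intro n
  induction n using Nat.strong_induction_on with
  | _ n IH =>
  intro G _ _ hn φ hcop M hMtop hMinv hMmax hnil hcl
  subst hn
  classical
  by_contra hG
  have h2G : 2 ∣ Nat.card G := even_iff_two_dvd.mp (Nat.not_odd_iff_even.mp fun h => hG (odd G h))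
  have hAodd : Odd (Nat.card A) := Nat.coprime_two_left.mp (hcop.coprime_dvd_right h2G).symm
  have hsolM : ∀ X : Subgroup G, X ≤ M → Group.IsSolvable X := fun X hX => by
    haveI : Group.IsNilpotent (X.subgroupOf M) := Subgroup.isNilpotent _
    haveI := (Group.isNilpotent_congr (Subgroup.subgroupOfEquivOfLe hX)).mp this
    infer_instance
  -- no soluble invariant normal subgroup
  have hcore : ∀ N : Subgroup G, N.Normal → Inv φ N → Group.IsSolvable N → N = ⊥ := by
    intro N hN hNi hNs
    by_contra hN1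
    refine hG (haveI : Group.IsSolvable (G ⧸ N) := ?_
      Group.isSolvable_of_ker_le_range N.subtype (QuotientGroup.mk' N)
        (by rw [QuotientGroup.ker_mk', Subgroup.range_subtype]))
    set f := QuotientGroup.mk' N with hf
    have hs : Function.Surjective f := QuotientGroup.mk'_surjective N
    by_cases hNM : N ≤ M
    · let ψ : A →* MulAut (G ⧸ N) :=
        { toFun := fun a => QuotientGroup.congr N N (φ a) (hNi a)
          map_one' := MulEquiv.ext fun q => by
            obtain ⟨g, rfl⟩ := hs q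
            show f (φ 1 g) = f g
            rw [map_one, MulAut.one_apply]
          map_mul' := fun a b => MulEquiv.ext fun q => by
            obtain ⟨g, rfl⟩ := hs q
            show f (φ (a * b) g) = f (φ a (φ b g))
            rw [map_mul, MulAut.mul_apply] }
      have hψ : ∀ a g, ψ a (f g) = f (φ a g) := fun a g => rfl
      have hcm : (M.map f).comap f = M := comap_map_eq_self (by rwa [hf, QuotientGroup.ker_mk'])
      refine IH _ ?_ (G ⧸ N) rfl ψ (hcop.coprime_dvd_right (Subgroup.card_quotient_dvd_card N)) (M.map f) ?_ ?_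
        ?_ ?_ ?_
      · rw [Subgroup.card_eq_card_quotient_mul_card_subgroup N]
        exact lt_mul_of_one_lt_right Nat.card_pos (N.one_lt_card_iff_ne_bot.mpr hN1)
      · intro e
        exact hMtop (by rw [← hcm, e, comap_top])
      · refine inv_of_mem ψ ?_
        rintro a _ ⟨m, hm, rfl⟩
        exact ⟨φ a m, hMinv.apply_mem φ a hm, (hψ a m).symm⟩
      · intro L hL hLtop hLinv
        have := hMmax (L.comap f) (hcm.symm.le.trans (comap_mono hL))
          (fun e => hLtop (by rw [← map_comap_eq_self_of_surjective hs L, e, map_top_of_surjective f hs]))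
          (inv_of_mem φ fun a g hg => by
            show f (φ a g) ∈ L
            rw [← hψ]
            exact hLinv.apply_mem ψ a hg)
        rw [← map_comap_eq_self_of_surjective hs L, this]
      · exact Group.nilpotent_of_surjective (f.subgroupMap M) (f.subgroupMap_surjective M)
      · intro P hP hP2 x hx y hy z hz
        haveI : Fact (Nat.Prime 2) := ⟨Nat.prime_two⟩
        obtain ⟨S⟩ : Nonempty (Sylow 2 M) := inferInstance
        let g := f.subgroupMap M
        have hg : Function.Surjective g := f.subgroupMap_surjective M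
        let T := S.mapSurjective hg
        have hSn : (S : Subgroup M).Normal :=
          Sylow.normal_of_normalizerCondition Group.normalizerCondition_of_isNilpotent S
        haveI hTn : (T : Subgroup (M.map f)).Normal := hSn.map g hg
        haveI : Subsingleton (Sylow 2 (M.map f)) := (Sylow.unique_of_normal T hTn).instSubsingleton
        obtain ⟨T', hT'⟩ := (hP2.comap_of_injective (M.map f).subtype (M.map f).subtype_injective :
          IsPGroup 2 (P.subgroupOf (M.map f))).exists_le_sylow
        rw [Subsingleton.elim T' T] at hT'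
        have key : ∀ w ∈ P, ∃ m ∈ (S : Subgroup M).map M.subtype, f m = w := fun w hw => by
          obtain ⟨m, hm, e⟩ := hT' (show (⟨w, hP hw⟩ : M.map f) ∈ P.subgroupOf (M.map f) from hw)
          exact ⟨(m : G), ⟨m, hm, rfl⟩, congrArg Subtype.val e⟩
        obtain ⟨a, ha, rfl⟩ := key x hx
        obtain ⟨b, hb, rfl⟩ := key y hy
        obtain ⟨c, hc, rfl⟩ := key z hz
        rw [← map_commutatorElement]
        exact (hcl _ (map_subtype_le _) (S.2.map _) a ha b hb c hc).map f
    · have htop : M ⊔ N = ⊤ := by_contra fun h =>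
        hNM (le_sup_right.trans (hMmax _ le_sup_left h (hMinv.sup φ hNi)).le)
      haveI := hnil
      refine Group.isSolvable_of_surjective (f := f.comp M.subtype) fun q => ?_
      obtain ⟨g, rfl⟩ := hs q
      obtain ⟨m, hm, z, hz, rfl⟩ := Subgroup.mem_sup_of_normal_right.mp (htop ▸ Subgroup.mem_top g)
      exact ⟨⟨m, hm⟩, by simp [hf, map_mul, (QuotientGroup.eq_one_iff z).mpr hz]⟩
  have hMne : M ≠ ⊥ := by
    intro e
    haveI : Fact (Nat.Prime 2) := ⟨Nat.prime_two⟩
    obtain ⟨P, hP⟩ := exists_inv_sylow φ hcop hAs 2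
    have hPtop : (P : Subgroup G) = ⊤ := by_contra fun h =>
      P.ne_bot_of_dvd_card h2G ((hMmax _ (e ▸ bot_le) h hP).trans e)
    have hGp : IsPGroup 2 G := (hPtop ▸ P.2).of_equiv Subgroup.topEquiv
    haveI := hGp.isNilpotent
    exact hG inferInstance
  have hself : ∀ X : Subgroup G, X ≠ ⊥ → X ≤ M → Inv φ X → M ≤ normalizer (X : Set G) →
      normalizer (X : Set G) = M := by
    intro X hX hXM hXi hle
    refine hMmax _ hle (fun e => hX ?_) (hXi.normalizer φ)
    exact hcore X (normalizer_eq_top_iff.mp e) hXi (hsolM X hXM)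
  have hpn : ∀ p : ℕ, ∀ [Fact p.Prime], p ∣ Nat.card M → HasNormalPComplement p G := by
    intro p _ hpM
    obtain ⟨S⟩ : Nonempty (Sylow p M) := inferInstance
    have hSn : (S : Subgroup M).Normal :=
      Sylow.normal_of_normalizerCondition Group.normalizerCondition_of_isNilpotent S
    haveI : Subsingleton (Sylow p M) := (Sylow.unique_of_normal S hSn).instSubsingleton
    set P := (S : Subgroup M).map M.subtype with hPdef
    have hPM : P ≤ M := map_subtype_le _
    have hmax : ∀ Q : Subgroup G, Q ≤ M → IsPGroup p Q → Q ≤ P := fun Q hQM hQ z hz => by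
      obtain ⟨T, hT⟩ := (hQ.comap_of_injective M.subtype M.subtype_injective :
        IsPGroup p (Q.subgroupOf M)).exists_le_sylow
      rw [Subsingleton.elim T S] at hT
      exact ⟨⟨z, hQM hz⟩, hT (show (⟨z, hQM hz⟩ : M) ∈ Q.subgroupOf M from hz), rfl⟩
    have hPp : IsPGroup p P := S.2.map _
    have hPne : P ≠ ⊥ := fun e =>
      S.ne_bot_of_dvd_card hpM ((Subgroup.map_eq_bot_iff_of_injective _ M.subtype_injective).mp e)
    have hPi : Inv φ P := fun a => eq_of_le_of_card_ge
      (hmax _ ((Subgroup.map_mono hPM).trans (hMinv a).le) (hPp.map _))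
      (card_map_of_injective (φ a).injective).ge
    have hMP : M ≤ normalizer (P : Set G) := fun m hm => CfsgLib.Local.mem_normalizer_of_map_conj_eq
      (eq_of_le_of_card_ge (hmax _ (by
          rintro _ ⟨z, hz, rfl⟩
          exact mul_mem (mul_mem hm (hPM hz)) (inv_mem hm)) (hPp.map _))
        (card_map_of_injective (MulAut.conj m).injective).ge)
    have hNP := hself P hPne hPM hPi hMP
    obtain ⟨T, hT⟩ := hPp.exists_le_sylow
    have hPT : P = (T : Subgroup G) := by
      by_contra hne
      haveI := T.2.isNilpotent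
      have hlt := Group.normalizerCondition_of_isNilpotent (P.subgroupOf (T : Subgroup G))
        (lt_top_iff_ne_top.mpr fun e => hne (le_antisymm hT (Subgroup.subgroupOf_eq_top.mp e)))
      obtain ⟨x, hx, hxP⟩ := SetLike.exists_of_lt hlt
      have hxN : (x : G) ∈ normalizer (P : Set G) := by
        rw [mem_normalizer_iff]
        intro z
        rw [mem_normalizer_iff] at hx
        constructor
        · intro hz
          exact (hx ⟨z, hT hz⟩).mp hz
        · intro hz
          have hzT : z ∈ (T : Subgroup G) := by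
            simpa [mul_assoc] using mul_mem (mul_mem (inv_mem x.2) (hT hz)) x.2
          exact (hx ⟨z, hzT⟩).mpr hz
      rw [hNP] at hxN
      exact hxP (show (x : G) ∈ P from
        hmax (M ⊓ T) inf_le_left (T.2.to_le inf_le_right) ⟨hxN, x.2⟩)
    by_cases hp2 : p = 2
    · subst hp2
      refine ClassTwo.hasNormalPComplement (φ := φ) (S := T) ⟨hAodd, ?_, ?_, ?_⟩
      · exact fun a s hs => hPT ▸ hPi.apply_mem φ a (hPT.symm ▸ hs)
      · exact hcl _ (hPT ▸ hPM) T.2
      · intro X hX hXS hXn hXA g hg
        have hXM : X ≤ M := hXS.trans (hPT ▸ hPM)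
        -- `M` is `P` times the centraliser of `P`
        have hdec : ∀ m ∈ M, ∃ s ∈ P, ∃ c ∈ centralizer (P : Set G), m = s * c := by
          intro m hm
          set μ : M := ⟨m, hm⟩
          obtain ⟨a, k, hk, hak⟩ := Nat.exists_eq_pow_mul_and_not_dvd (orderOf_pos μ).ne' 2 (by norm_num)
          obtain ⟨u, v, huv⟩ : IsCoprime (k : ℤ) ((2 : ℤ) ^ a) :=
            IsCoprime.pow_right (((Nat.prime_iff_prime_int.mp Nat.prime_two).coprime_iff_not_dvd.mpr
              (by exact_mod_cast hk)).symm)
          have h1 : μ ^ k ∈ (S : Subgroup M) := by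
            have hp' : IsPGroup 2 (zpowers (μ ^ k)) := by
              refine IsPGroup.of_card (n := a) ?_
              rw [Nat.card_zpowers, orderOf_pow μ, hak, Nat.gcd_eq_right (dvd_mul_left k _),
                Nat.mul_div_cancel _ (Nat.pos_of_ne_zero fun (h0 : k = 0) => hk (h0 ▸ dvd_zero _))]
            exact (S.3 (hp'.to_sup_of_normal_right S.2) le_sup_right).le (mem_sup_left (mem_zpowers _))
          refine ⟨(((μ ^ k) ^ u : M) : G), ⟨_, zpow_mem h1 u, rfl⟩, (((μ ^ 2 ^ a) ^ v : M) : G), ?_, ?_⟩
          · rw [mem_centralizer_iff]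
            rintro _ ⟨w, hw, rfl⟩
            have hc : Commute w (μ ^ 2 ^ a) := by
              refine CfsgLib.commute_of_nilpotent _ _ ?_
              obtain ⟨j, hj⟩ := IsPGroup.iff_orderOf.mp S.2 ⟨w, hw⟩
              rw [Subgroup.orderOf_mk] at hj
              rw [hj, orderOf_pow μ, hak, Nat.gcd_eq_right (dvd_mul_right _ k),
                Nat.mul_div_cancel_left _ (pow_pos (by norm_num) _)]
              exact (Nat.prime_two.coprime_iff_not_dvd.mpr hk).pow_left j
            exact congrArg Subtype.val (hc.zpow_right v).eq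
          · have e : μ = (μ ^ k) ^ u * (μ ^ 2 ^ a) ^ v := by
              rw [← zpow_natCast μ k, ← zpow_natCast μ (2 ^ a), ← zpow_mul, ← zpow_mul, ← zpow_add,
                mul_comm _ u, mul_comm _ v]
              push_cast
              rw [huv, zpow_one]
            exact congrArg Subtype.val e
        have hMX : M ≤ normalizer (X : Set G) := fun m hm => CfsgLib.Local.mem_normalizer_of_map_conj_eq
          (eq_of_le_of_card_ge (by
              rintro _ ⟨z, hz, rfl⟩
              obtain ⟨s, hs, c, hc, rfl⟩ := hdec m hm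
              show s * c * z * (s * c)⁻¹ ∈ X
              rw [mul_inv_rev, show s * c * z * (c⁻¹ * s⁻¹) = s * (c * z * c⁻¹) * s⁻¹ by group,
                ← mem_centralizer_iff.mp hc z (hPT ▸ hXS hz), mul_inv_cancel_right]
              exact hXn s (hPT ▸ hs) z hz)
            (card_map_of_injective (MulAut.conj m).injective).ge)
        rw [hself X hX hXM (inv_of_mem φ hXA) hMX] at hg
        obtain ⟨s, hs, c, hc, rfl⟩ := hdec g hg
        refine ⟨s, hPT ▸ hs, fun y hy => ?_⟩
        rw [mul_inv_rev, show s * c * y * (c⁻¹ * s⁻¹) = s * (c * y * c⁻¹) * s⁻¹ by group,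
          ← mem_centralizer_iff.mp hc y (hPT ▸ hy), mul_inv_cancel_right]
    · refine CfsgLib.ZJ.hasNormalPComplement_of_normalizer_zj hp2 (e := 0) (Or.inl rfl) T ?_
      have hz := CfsgLib.ZJ.zj_ne_bot (e := 0) (Or.inl rfl) T.2 (hPT ▸ hPne)
      have hzi : Inv φ (ZJ.zj 0 (T : Subgroup G)) := fun a => by
        rw [← ZJ.zj_map 0 (φ a).injective, ← hPT, hPi a]
      have hzN : M ≤ normalizer (ZJ.zj 0 (T : Subgroup G) : Set G) :=
        (hPT ▸ hMP).trans (ZJ.normalizer_le_normalizer_zj 0 _)
      rw [hself _ hz ((CfsgLib.ZJ.zj_le 0 _).trans (hPT ▸ hPM)) hzi hzN]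
      exact CfsgLib.hasNormalPComplement_of_isNilpotent hnil
  -- the stable term of the derived series
  obtain ⟨_, ⟨⟨k, rfl⟩, hmin⟩⟩ := (Set.toFinite (Set.range (derivedSeries G))).exists_minimal
    (Set.range_nonempty _)
  set D := derivedSeries G k with hD
  have hperf : ⁅D, D⁆ = D := by
    refine le_antisymm (derivedSeries_antitone G k.le_succ) (hmin ⟨k + 1, rfl⟩ ?_)
    exact derivedSeries_antitone G k.le_succ
  have hDne : D ≠ ⊥ := fun e => hG ⟨⟨k, e⟩⟩
  have hDn : D.Normal := derivedSeries_normal G k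
  have hDi : Inv φ D := fun a => map_derivedSeries_eq (φ a).surjective k
  have hcopD : (Nat.card M).Coprime (Nat.card D) := by
    refine Nat.coprime_of_dvd fun p hp hpM hpD => ?_
    have : Fact p.Prime := ⟨hp⟩
    have h := CfsgLib.isPGroup_quotient_of_hasNormalPComplement (hpn p hpM)
    have hs : Group.IsSolvable (G ⧸ Cfsg.pPrimeCore p G) := by
      haveI := h.isNilpotent
      infer_instance
    obtain ⟨j, hj⟩ := hs.solvable
    have hDle : D ≤ Cfsg.pPrimeCore p G := by
      have h1 : derivedSeries G j ≤ Cfsg.pPrimeCore p G := by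
        have := map_derivedSeries_le_derivedSeries (QuotientGroup.mk' (Cfsg.pPrimeCore p G)) j
        rw [hj, le_bot_iff, Subgroup.map_eq_bot_iff, QuotientGroup.ker_mk'] at this
        exact this
      refine le_trans ?_ h1
      rcases le_total j k with hjk | hkj
      · exact derivedSeries_antitone G hjk
      · exact hmin ⟨j, rfl⟩ (derivedSeries_antitone G hkj)
    exact hp.coprime_iff_not_dvd.mp (CfsgLib.card_pPrimeCore_coprime p).symm
      (hpD.trans (Subgroup.card_dvd_of_le hDle))
  have hdisj : ∀ x ∈ M, x ∈ D → x = 1 := fun x hx hx' =>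
    Subgroup.disjoint_def.mp (Subgroup.disjoint_of_coprime_natCard hcopD) hx hx'
  have hMD : M ≤ normalizer (D : Set G) := (normalizer_eq_top D).symm ▸ le_top
  -- the centraliser of `M` in `D` is trivial
  have hC : ∀ c ∈ D, c ∈ centralizer (M : Set G) → c = 1 := by
    by_contra hne
    push Not at hne
    obtain ⟨c, hcD, hcM, hc1⟩ := hne
    set C := D ⊓ centralizer (M : Set G) with hCdef
    have hCi : Inv φ C := inv_of_mem φ fun a x hx => by
      refine ⟨hDi.apply_mem φ a hx.1, mem_centralizer_iff.mpr fun m hm => ?_⟩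
      obtain ⟨m', hm', rfl⟩ := (hMinv a).ge hm
      show φ a m' * φ a x = φ a x * φ a m'
      rw [← map_mul, ← map_mul, mem_centralizer_iff.mp hx.2 m' hm']
    have htop : M ⊔ C = ⊤ := by_contra fun h => hc1 (hdisj c
      ((hMmax _ le_sup_left h (hMinv.sup φ hCi)).le (mem_sup_right (⟨hcD, hcM⟩ : c ∈ C))) hcD)
    have hMn : normalizer (M : Set G) = ⊤ := eq_top_iff.mpr (htop.symm.le.trans (sup_le le_normalizer
      (inf_le_right.trans (centralizer_le_normalizer _))))
    exact hMne (hcore M (normalizer_eq_top_iff.mp hMn) hMinv (hsolM M le_rfl))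
  obtain ⟨q, hq, hqD⟩ := Nat.exists_prime_and_dvd (n := Nat.card D)
    (fun e => hDne (Subgroup.card_eq_one.mp e))
  have : Fact q.Prime := ⟨hq⟩
  obtain ⟨Q, hQ⟩ := CfsgLib.coprime_exists_invariant_sylow (A := M) (K := D) hMD hcopD (Or.inl (hsolM M le_rfl)) q
  set Q' := (Q : Subgroup D).map D.subtype with hQ'
  have hQD : Q' ≤ D := Subgroup.map_subtype_le _
  have hQi : Inv φ Q' := by
    refine inv_of_mem φ fun a x hx => ?_
    let e : D ≃* D := ((φ a).subgroupMap D).trans (MulEquiv.subgroupCongr (hDi a))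
    let R : Sylow q D := Q.mapSurjective (f := e.toMonoidHom) e.surjective
    have hR : (R : Subgroup D).map D.subtype = Q'.map (φ a).toMonoidHom := by
      ext z
      constructor
      · rintro ⟨_, ⟨w, hw, rfl⟩, rfl⟩; exact ⟨w, ⟨w, hw, rfl⟩, rfl⟩
      · rintro ⟨_, ⟨w, hw, rfl⟩, rfl⟩; exact ⟨e w, ⟨w, hw, rfl⟩, rfl⟩
    have hRM : M ≤ normalizer ((R : Subgroup D).map D.subtype : Set G) := by
      rw [hR, ← Subgroup.map_normalizer_eq_of_bijective _ (φ a).bijective, ← hMinv a]
      exact Subgroup.map_mono hQ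
    obtain ⟨c, hcM, hc⟩ := coprime_invariant_sylow_conj hMD hcopD (Or.inl (hsolM M le_rfl)) Q R hQ hRM
    rw [show c = 1 from Subtype.ext (hC c c.2 hcM), map_one, one_smul] at hc
    rw [hQ', hc, hR]
    exact ⟨x, hx, rfl⟩
  have htop : Q' ⊔ M = ⊤ := by_contra fun h => by
    have hQM : Q' ≤ M := le_sup_left.trans (hMmax _ le_sup_right h (hQi.sup φ hMinv)).le
    exact Q.ne_bot_of_dvd_card hqD ((Subgroup.map_eq_bot_iff_of_injective _ D.subtype_injective).mp
      (eq_bot_iff.mpr fun x hx => mem_bot.mpr (hdisj x (hQM hx) (hQD hx))))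
  have hDQ : D ≤ Q' := by
    intro d hd
    obtain ⟨w, hw, m, hm, rfl⟩ := CfsgLib.mem_sup_of_le_normalizer hQ (htop ▸ Subgroup.mem_top d)
    have hmD : m ∈ D := by simpa using D.mul_mem (D.inv_mem (hQD hw)) hd
    rw [hdisj m hm hmD, mul_one]
    exact hw
  haveI := ((Q.2.map D.subtype).to_le hDQ).isNilpotent
  exact hDne (hcore D hDn hDi inferInstance)

/-- A coprime action with a maximal invariant subgroup that is nilpotent, its Sylow 2-subgroup of class at
most two, with solvability of groups of odd order as a hypothesis (applied to the acting and acted groups). -/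
theorem solvable_of_invariant_maximal_nilpotent {G : Type u} [Group G] [Finite G] {A : Type v} [Group A] [Finite A]
    (odd : ∀ (H : Type u) [Group H] [Finite H], Odd (Nat.card H) → Group.IsSolvable H)
    (odd' : ∀ (H : Type v) [Group H] [Finite H], Odd (Nat.card H) → Group.IsSolvable H)
    (φ : A →* MulAut G) (hcop : (Nat.card A).Coprime (Nat.card G))
    (M : Subgroup G) (hMtop : M ≠ ⊤) (hMinv : ∀ a : A, ∀ m : G, m ∈ M → φ a m ∈ M)
    (hMmax : ∀ H : Subgroup G, M ≤ H → H ≠ ⊤ → (∀ a : A, ∀ h : G, h ∈ H → φ a h ∈ H) → H = M)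
    (hnil : Group.IsNilpotent M) (h2 : ∀ S : Sylow 2 ↥M, Group.nilpotencyClass ↥(S : Subgroup ↥M) ≤ 2) :
    Group.IsSolvable G := by
  by_cases hGo : Odd (Nat.card G)
  · exact odd G hGo
  have hAo : Odd (Nat.card A) := Nat.coprime_two_left.mp
    (hcop.coprime_dvd_right (even_iff_two_dvd.mp (Nat.not_odd_iff_even.mp hGo))).symm
  refine main A odd (odd' A hAo) _ G rfl φ hcop M hMtop (inv_of_mem φ hMinv)
    (fun H h1 h2 h3 => hMmax H h1 h2 fun a h hh => h3.apply_mem φ a hh) hnil fun P hPM hP a ha b hb c hc => ?_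
  obtain ⟨S, hS⟩ := (hP.comap_of_injective M.subtype M.subtype_injective :
    IsPGroup 2 (P.subgroupOf M)).exists_le_sylow
  let mk : ∀ x, x ∈ P → (S : Subgroup M) := fun x hx => ⟨⟨x, hPM hx⟩, hS hx⟩
  haveI : Fact (Nat.Prime 2) := ⟨Nat.prime_two⟩
  haveI := S.2.isNilpotent
  have h0 : (⊤ : Subgroup (S : Subgroup M)).lowerCentralSeries 2 = ⊥ :=
    Subgroup.lowerCentralSeries_eq_bot_iff_nilpotencyClass_le.mpr (h2 S)
  have h : ⁅⁅mk a ha, mk b hb⁆, mk c hc⁆ ∈ (⊤ : Subgroup (S : Subgroup M)).lowerCentralSeries 2 := by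
    rw [Subgroup.lowerCentralSeries_succ, Subgroup.lowerCentralSeries_succ, Subgroup.lowerCentralSeries_zero]
    exact Subgroup.commutator_mem_commutator (Subgroup.commutator_mem_commutator (Subgroup.mem_top _)
      (Subgroup.mem_top _)) (Subgroup.mem_top _)
  rw [h0, Subgroup.mem_bot, commutatorElement_eq_one_iff_commute] at h
  have hcm := h.map (M.subtype.comp (S : Subgroup M).subtype)
  rw [map_commutatorElement] at hcm
  exact hcm

end CfsgLib.AfterFT.MaxNil
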