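import Cfsg.Agent.Lib.ZJ.Complement
import Cfsg.Agent.Lib.HallPi
import Cfsg.Agent.Lib.Frobenius.Splitting

/-!
Coprime action in which every invariant proper subgroup is nilpotent.
-/

set_option autoImplicit false
set_option linter.unusedSectionVars false
set_option linter.style.haveILetI false

namespace CfsgLib.AfterFT

open Cfsg Subgroup CfsgLib
open scoped Pointwise

universe u

/-- A group acted on coprimely with all invariant proper subgroups nilpotent is solvable. -/
theorem solvable_of_invariant_nilpotent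
    (odd : ∀ (H : Type u) [Group H] [Finite H], Odd (Nat.card H) → Group.IsSolvable H) :
    ∀ (n : ℕ) (X : Type u) [Group X] [Finite X] (A G : Subgroup X), Nat.card G = n →
      A ≤ Subgroup.normalizer (G : Set X) → (Nat.card A).Coprime (Nat.card G) →
      (∀ H : Subgroup X, H < G → A ≤ Subgroup.normalizer (H : Set X) → Group.IsNilpotent H) →
      Group.IsSolvable G := by
  intro n
  induction n using Nat.strong_induction_on with
  | _ n ih =>
  intro X _ _ A G hn hAG hcop hnil
  subst hn
  by_cases hA : Group.IsSolvable A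
  swap
  · refine odd G ?_
    have hev : Even (Nat.card A) := Nat.not_odd_iff_even.mp fun h => hA (odd A h)
    exact Nat.coprime_two_left.mp (Nat.Coprime.coprime_dvd_left hev.two_dvd hcop)
  -- a proper non-trivial invariant normal subgroup
  have step : ∀ N : Subgroup X, N ≠ ⊥ → N < G → A ≤ Subgroup.normalizer (N : Set X) →
      G ≤ Subgroup.normalizer (N : Set X) → Group.IsSolvable G := by
    intro N hN1 hNG hNA hNn
    haveI := hnil N hNG hNA
    set L := G ⊔ A with hL
    have hGL : G ≤ L := le_sup_left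
    have hAL : A ≤ L := le_sup_right
    have hNL : N ≤ L := hNG.le.trans hGL
    haveI : (N.subgroupOf L).Normal :=
      (Subgroup.normal_subgroupOf_iff_le_normalizer hNL).mpr (sup_le hNn hNA)
    let f : ↥L →* ↥L ⧸ N.subgroupOf L := QuotientGroup.mk' _
    set Gq := (G.subgroupOf L).map f
    set Aq := (A.subgroupOf L).map f
    have hgn : A.subgroupOf L ≤ Subgroup.normalizer ((G.subgroupOf L : Subgroup L) : Set L) := by
      intro a ha
      rw [Subgroup.mem_normalizer_iff]
      intro x
      exact Subgroup.mem_normalizer_iff.mp (hAG ha) x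
    have hAGq : Aq ≤ Subgroup.normalizer (Gq : Set (↥L ⧸ N.subgroupOf L)) :=
      (Subgroup.map_mono hgn).trans (Subgroup.le_normalizer_map f)
    have hcardG : Nat.card (G.subgroupOf L) = Nat.card G :=
      Nat.card_congr (Subgroup.subgroupOfEquivOfLe hGL).toEquiv
    have hcardA : Nat.card (A.subgroupOf L) = Nat.card A :=
      Nat.card_congr (Subgroup.subgroupOfEquivOfLe hAL).toEquiv
    have hcopq : (Nat.card Aq).Coprime (Nat.card Gq) :=
      Nat.Coprime.coprime_dvd_left ((Subgroup.card_map_dvd _ _).trans hcardA.dvd)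
        (Nat.Coprime.coprime_dvd_right ((Subgroup.card_map_dvd _ _).trans hcardG.dvd) hcop)
    have hker : f.ker = N.subgroupOf L := QuotientGroup.ker_mk' _
    have fun_le : ∀ x : ↥L, x ∈ N.subgroupOf L → x ∈ G.subgroupOf L := fun x hx => hNG.le hx
    have hlt : Nat.card Gq < Nat.card G := by
      have h1 : Nat.card Gq * Nat.card (N.subgroupOf L) = Nat.card (G.subgroupOf L) := by
        have h := (f.subgroupMap (G.subgroupOf L)).ker.card_eq_card_quotient_mul_card_subgroup
        rw [Nat.card_congr (QuotientGroup.quotientKerEquivOfSurjective _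
          (f.subgroupMap_surjective (G.subgroupOf L))).toEquiv] at h
        rw [h]
        congr 1
        refine (Nat.card_congr ?_)
        exact
          { toFun := fun x => ⟨⟨x.1, fun_le x.1 x.2⟩, Subtype.ext (show f x.1 = 1 from
              MonoidHom.mem_ker.mp (hker.ge x.2))⟩
            invFun := fun x => ⟨x.1.1, hker.le (MonoidHom.mem_ker.mpr (congrArg Subtype.val x.2 : f x.1.1 = 1))⟩
            left_inv := fun x => rfl
            right_inv := fun x => rfl }
      rw [hcardG, Nat.card_congr (Subgroup.subgroupOfEquivOfLe hNL).toEquiv] at h1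
      rw [← h1]
      exact lt_mul_of_one_lt_right Nat.card_pos ((Subgroup.one_lt_card_iff_ne_bot N).mpr hN1)
    have hnq : ∀ H : Subgroup (↥L ⧸ N.subgroupOf L), H < Gq →
        Aq ≤ Subgroup.normalizer (H : Set (↥L ⧸ N.subgroupOf L)) → Group.IsNilpotent H := by
      intro H hH hHA
      set H₀ := (H.comap f).map L.subtype with hH₀
      have hle : H₀ ≤ G := by
        rintro _ ⟨x, hx, rfl⟩
        obtain ⟨g, hg, hge⟩ := Subgroup.mem_map.mp (hH.le hx)
        have : g⁻¹ * x ∈ N.subgroupOf L := by
          rw [← hker, MonoidHom.mem_ker, map_mul, map_inv, hge, inv_mul_cancel]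
        have h2 := G.mul_mem hg (hNG.le this)
        simpa using h2
      have hH₀A : A ≤ Subgroup.normalizer (H₀ : Set X) := by
        intro a ha
        have key : ∀ y : ↥L, ∀ x ∈ H.comap f, y ∈ A.subgroupOf L → y * x * y⁻¹ ∈ H.comap f := by
          intro y x hx hy
          have := (Subgroup.mem_normalizer_iff.mp (hHA ⟨y, hy, rfl⟩) (f x)).mp hx
          rw [Subgroup.mem_comap, map_mul, map_mul, map_inv]
          exact this
        rw [Subgroup.mem_normalizer_iff]
        intro x
        constructor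
        · rintro ⟨y, hy, rfl⟩
          exact ⟨_, key ⟨a, hAL ha⟩ y hy ha, rfl⟩
        · rintro ⟨y, hy, he⟩
          refine ⟨(⟨a, hAL ha⟩ : ↥L)⁻¹ * y * ⟨a, hAL ha⟩, ?_, ?_⟩
          · simpa using key (⟨a, hAL ha⟩ : ↥L)⁻¹ y hy (inv_mem (show (⟨a, hAL ha⟩ : ↥L) ∈ A.subgroupOf L from ha))
          · simp only [map_mul, map_inv, he]
            group
            simp
      have hlt' : H₀ < G := by
        refine lt_of_le_of_ne hle fun e => hH.not_ge ?_
        intro z hz
        obtain ⟨g, hg, rfl⟩ := Subgroup.mem_map.mp hz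
        have : (g : X) ∈ H₀ := e.symm ▸ hg
        obtain ⟨y, hy, hye⟩ := this
        rw [← Subtype.val_injective hye]
        exact hy
      haveI := hnil H₀ hlt' hH₀A
      have hsurj : Function.Surjective (fun x : H₀ => (⟨f ⟨x.1, hGL (hle x.2)⟩, by
          obtain ⟨y, hy, hye⟩ := x.2
          have : (⟨x.1, hGL (hle x.2)⟩ : ↥L) = y := Subtype.ext hye.symm
          rw [this]; exact hy⟩ : H)) := by
        rintro ⟨z, hz⟩
        obtain ⟨g, hg, rfl⟩ := Subgroup.mem_map.mp (hH.le hz)
        exact ⟨⟨g, ⟨g, hz, rfl⟩⟩, rfl⟩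
      exact Group.nilpotent_of_surjective
        { toFun := _
          map_one' := Subtype.ext (show f ⟨((1 : H₀) : X), _⟩ = 1 from map_one f)
          map_mul' := fun x y => Subtype.ext (show f ⟨((x * y : H₀) : X), _⟩ = f ⟨x.1, _⟩ * f ⟨y.1, _⟩ from
            (map_mul f ⟨x.1, hGL (hle x.2)⟩ ⟨y.1, hGL (hle y.2)⟩)) } hsurj
    haveI := ih _ hlt (↥L ⧸ N.subgroupOf L) Aq Gq rfl hAGq hcopq hnq
    haveI : Group.IsSolvable ↥(N.subgroupOf L ⊓ G.subgroupOf L) := by
      haveI : Group.IsSolvable ↥(N.subgroupOf L) :=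
        Group.isSolvable_of_isSolvable_injective (f := (Subgroup.subgroupOfEquivOfLe hNL).toMonoidHom) (Subgroup.subgroupOfEquivOfLe hNL).injective
      exact Group.isSolvable_of_isSolvable_injective (Subgroup.inclusion_injective inf_le_left)
    haveI : Group.IsSolvable ↥(G.subgroupOf L) := by
      refine Group.isSolvable_of_ker_le_range
        (Subgroup.inclusion (inf_le_right : N.subgroupOf L ⊓ G.subgroupOf L ≤ G.subgroupOf L))
        (f.subgroupMap (G.subgroupOf L)) ?_
      intro x hx
      have hx' : f x.1 = 1 := congrArg Subtype.val hx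
      exact ⟨⟨x.1, Subgroup.mem_inf.mpr ⟨by rw [← hker]; exact MonoidHom.mem_ker.mpr hx', x.2⟩⟩, rfl⟩
    exact Group.isSolvable_of_isSolvable_injective (f := (Subgroup.subgroupOfEquivOfLe hGL).symm.toMonoidHom) (Subgroup.subgroupOfEquivOfLe hGL).symm.injective
  by_cases hodd2 : ∀ p : ℕ, p.Prime → p ∣ Nat.card G → p = 2
  · haveI := Fact.mk Nat.prime_two
    have hpg : IsPGroup 2 G := IsPGroup.iff_card.mpr ⟨_, Nat.eq_prime_pow_of_unique_prime_dvd Nat.card_pos.ne'
      fun {d} hd hdd => hodd2 d hd hdd⟩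
    haveI := hpg.isNilpotent
    exact inferInstance
  push Not at hodd2
  obtain ⟨p, hp, hpd, hp2⟩ := hodd2
  haveI := Fact.mk hp
  obtain ⟨P, hPA⟩ := coprime_exists_invariant_sylow hAG hcop (Or.inl hA) p
  set PG := (P : Subgroup G).map G.subtype with hPG
  set Z := ZJ.zj 0 PG with hZ
  have hPne : (P : Subgroup G) ≠ ⊥ := P.ne_bot_of_dvd_card hpd
  have hPGp : IsPGroup p PG := P.2.map _
  have hPGne : PG ≠ ⊥ := fun h => hPne ((Subgroup.map_eq_bot_iff_of_injective _ G.subtype_injective).mp h)
  have hZne : Z ≠ ⊥ := ZJ.zj_ne_bot (Or.inl rfl) hPGp hPGne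
  have hZG : Z ≤ G := (ZJ.zj_le 0 PG).trans (Subgroup.map_subtype_le _)
  have hZA : A ≤ Subgroup.normalizer (Z : Set X) := by
    intro a ha
    refine Subgroup.mem_normalizer_iff.mpr fun x => ?_
    have h1 : MulAut.conj a • PG = PG := by
      ext y
      rw [Subgroup.mem_pointwise_smul_iff_inv_smul_mem]
      have := Subgroup.mem_normalizer_iff''.mp (hPA ha) y
      simpa [MulAut.conj_inv_apply] using this.symm
    have h2 : MulAut.conj a • Z = Z := by rw [hZ, ← ZJ.zj_conj, h1]
    have h3 : x ∈ Z ↔ MulAut.conj a • x ∈ MulAut.conj a • Z := (Subgroup.smul_mem_pointwise_smul_iff).symm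
    rw [h2] at h3
    exact h3
  by_cases hZn : G ≤ Subgroup.normalizer (Z : Set X)
  · by_cases hZeq : Z = G
    · haveI : Group.IsNilpotent G := by
        rw [← hZeq]
        exact (hPGp.to_le (ZJ.zj_le 0 PG)).isNilpotent
      exact inferInstance
    · exact step Z hZne (lt_of_le_of_ne hZG hZeq) hZA hZn
  -- the normaliser of `Z` in `G` is nilpotent
  set N₀ := G ⊓ Subgroup.normalizer (Z : Set X) with hN₀
  have hN₀A : A ≤ Subgroup.normalizer (N₀ : Set X) := by
    intro a ha
    rw [Subgroup.mem_normalizer_iff]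
    intro x
    rw [hN₀, Subgroup.mem_inf, Subgroup.mem_inf, ← Subgroup.mem_normalizer_iff.mp (hAG ha) x]
    refine and_congr_right fun _ => ⟨fun h => mul_mem (mul_mem (hZA ha) h) (inv_mem (hZA ha)), fun h => ?_⟩
    have := mul_mem (mul_mem (inv_mem (hZA ha)) h) (hZA ha)
    simpa [mul_assoc] using this
  haveI := hnil N₀ (lt_of_le_of_ne inf_le_left fun e => hZn (e.symm.le.trans inf_le_right)) hN₀A
  have hnpc : HasNormalPComplement p (Subgroup.normalizer ((ZJ.zj 0 (P : Subgroup G)) : Set G)) := by
    refine ZJ.hasNormalPComplement_of_isPGroup_map G.subtype_injective ?_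
    refine ZJ.hasNormalPComplement_of_le ?_ (Frob.hasNormalPComplement_of_nilpotent (G := N₀) inferInstance)
    rintro _ ⟨x, hx, rfl⟩
    refine Subgroup.mem_inf.mpr ⟨x.2, ?_⟩
    rw [hZ, hPG, ZJ.zj_map 0 G.subtype_injective]
    exact Subgroup.le_normalizer_map _ ⟨x, hx, rfl⟩
  have hG : HasNormalPComplement p G := ZJ.hasNormalPComplement_of_normalizer_zj hp2 (Or.inl rfl) P hnpc
  set K := (pPrimeCore p G).map G.subtype with hK
  haveI : (pPrimeCore p G).Characteristic := CfsgLib.pPrimeCore_characteristic p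
  obtain ⟨hKA, hKn⟩ := le_normalizer_map_characteristic hAG (pPrimeCore p G)
  have hq := hasNormalPComplement_iff.mp hG
  by_cases hKb : K = ⊥
  · have hKb' : pPrimeCore p G = ⊥ :=
      (Subgroup.map_eq_bot_iff_of_injective _ G.subtype_injective).mp hKb
    haveI : Group.IsNilpotent G := (hq.of_equiv
      ((QuotientGroup.quotientMulEquivOfEq hKb').trans QuotientGroup.quotientBot)).isNilpotent
    exact inferInstance
  · refine step K hKb (lt_of_le_of_ne (Subgroup.map_subtype_le _) fun e => ?_) hKA hKn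
    have h1 := card_pPrimeCore_coprime (G := G) p
    have h2 : Nat.card (pPrimeCore p G) = Nat.card G := by
      rw [← Subgroup.card_map_of_injective G.subtype_injective, ← hK, e]
    rw [h2] at h1
    exact hp.ne_one (Nat.eq_one_of_dvd_coprimes h1 hpd dvd_rfl)

end CfsgLib.AfterFT

namespace CfsgLib.AfterFT

open Cfsg Subgroup CfsgLib
open scoped commutatorElement

universe v

variable {X : Type v} [Group X] [Finite X] {A G : Subgroup X}

/-- In a non-nilpotent solvable such group exactly two primes occur and some invariant Sylow is normal. -/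
theorem invariant_nilpotent_structure (hAG : A ≤ Subgroup.normalizer (G : Set X))
    (hcop : (Nat.card A).Coprime (Nat.card G))
    (hnil : ∀ H : Subgroup X, H < G → A ≤ Subgroup.normalizer (H : Set X) → Group.IsNilpotent H)
    (hsolv : Group.IsSolvable G) (hnn : ¬ Group.IsNilpotent G) :
    (∃ p q a b : ℕ, p.Prime ∧ q.Prime ∧ p ≠ q ∧ Nat.card G = p ^ a * q ^ b) ∧
      ∃ (p : ℕ) (P : Sylow p G), p.Prime ∧ p ∣ Nat.card G ∧ (P : Subgroup G).Normal ∧
        A ≤ Subgroup.normalizer (((P : Subgroup G).map G.subtype : Subgroup X) : Set X) := by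
  classical
  have hpnil : ∀ p : ℕ, p.Prime → (∀ d : ℕ, d.Prime → d ∣ Nat.card G → d = p) → False := by
    intro p hp h
    haveI := Fact.mk hp
    exact hnn (IsPGroup.iff_card.mpr ⟨_, Nat.eq_prime_pow_of_unique_prime_dvd Nat.card_pos.ne'
      fun {d} hd hdd => h d hd hdd⟩ : IsPGroup p G).isNilpotent
  -- all primes dividing the order lie in a pair
  have hpair : ∀ p q r : ℕ, p.Prime → q.Prime → r.Prime → p ∣ Nat.card G → q ∣ Nat.card G → r ∣ Nat.card G →
      p ≠ q → p ≠ r → q ≠ r → False := by
    intro p q r hp hq hr hpd hqd hrd hpq hpr hqr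
    refine hnn (((isNilpotent_of_finite_tfae (G := ↥G)).out 0 3).mpr fun s hs S => ?_)
    haveI := hs
    obtain ⟨P, hPA⟩ := coprime_exists_invariant_sylow hAG hcop (Or.inr hsolv) s
    suffices hPn : (P : Subgroup G).Normal by
      haveI := Sylow.unique_of_normal P hPn
      rw [Subsingleton.elim S P]; exact hPn
    rw [← Subgroup.normalizer_eq_top_iff, ← Subgroup.index_eq_one]
    by_contra hne
    obtain ⟨t, ht, htd⟩ := Nat.exists_prime_and_dvd hne
    obtain ⟨u, hu, hud, hus, hut⟩ : ∃ u, u.Prime ∧ u ∣ Nat.card G ∧ u ≠ s ∧ u ≠ t := by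
      by_cases h1 : p = s ∨ p = t
      · by_cases h2 : q = s ∨ q = t
        · refine ⟨r, hr, hrd, ?_, ?_⟩ <;> rcases h1 with rfl | rfl <;> rcases h2 with rfl | rfl <;>
            first | exact (hpq rfl).elim | exact hpr.symm | exact hqr.symm
        · push Not at h2; exact ⟨q, hq, hqd, h2.1, h2.2⟩
      · push Not at h1; exact ⟨p, hp, hpd, h1.1, h1.2⟩
    set PG := (P : Subgroup G).map G.subtype
    have hPG : ∀ d : ℕ, d.Prime → d ∣ Nat.card PG → d ∈ ({s, t} : Set ℕ) := by
      intro d hd hdd
      obtain ⟨k, hk⟩ := (P.2.map G.subtype).exists_card_eq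
      rw [show Nat.card PG = s ^ k from hk] at hdd
      exact Or.inl ((Nat.prime_dvd_prime_iff_eq hd hs.out).mp (hd.dvd_of_dvd_pow hdd))
    obtain ⟨H, ⟨hHG, hHπ, hHi⟩, hHA, hPH⟩ :=
      le_invariant_hall (π := ({s, t} : Set ℕ)) hAG hcop hsolv (Subgroup.map_subtype_le _) hPA hPG
    have hHlt : H < G := lt_of_le_of_ne hHG fun e => by
      rcases hHπ u hu (e ▸ hud) with h | h
      · exact hus h
      · exact hut h
    haveI := hnil H hHlt hHA
    -- `H` normalizes the Sylow subgroup
    have hPle : (P : Subgroup G) ≤ H.subgroupOf G := fun x hx => hPH ⟨x, hx, rfl⟩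
    haveI : Group.IsNilpotent ↥(H.subgroupOf G) :=
      Group.nilpotent_of_mulEquiv (Subgroup.subgroupOfEquivOfLe hHG).symm
    have hn1 : ((P.subtype hPle : Sylow s ↥(H.subgroupOf G)) : Subgroup ↥(H.subgroupOf G)).Normal :=
      inferInstance
    rw [Sylow.coe_subtype] at hn1
    have hle : H.subgroupOf G ≤ Subgroup.normalizer ((P : Subgroup G) : Set G) :=
      (Subgroup.normal_subgroupOf_iff_le_normalizer hPle).mp hn1
    refine hHi t ht (Or.inr rfl) ?_
    exact htd.trans (Subgroup.index_dvd_of_le hle)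
  have hnt : Nat.card G ≠ 1 := fun h => by
    haveI := (Nat.card_eq_one_iff_unique.mp h).1
    exact hnn inferInstance
  -- a prime dividing the index of the derived subgroup
  haveI : Nontrivial ↥G := Finite.one_lt_card_iff_nontrivial.mp (by have := Nat.card_pos (α := ↥G); omega)
  have hcomm : commutator ↥G ≠ ⊤ := (hsolv.commutator_lt_top_of_nontrivial ↥G).ne
  obtain ⟨p, hp, hpi⟩ := Nat.exists_prime_and_dvd (mt Subgroup.index_eq_one.mp hcomm)
  have hpd : p ∣ Nat.card G := hpi.trans (Subgroup.index_dvd_card _)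
  obtain ⟨q, hq, hqd, hqp⟩ : ∃ q, q.Prime ∧ q ∣ Nat.card G ∧ q ≠ p := by
    by_contra h
    push Not at h
    exact hpnil p hp h
  refine ⟨?_, ?_⟩
  · refine ⟨p, q, (Nat.card G).factorization p, (Nat.card G).factorization q, hp, hq, hqp.symm, ?_⟩
    refine Nat.eq_of_factorization_eq Nat.card_pos.ne'
      (mul_ne_zero (pow_ne_zero _ hp.ne_zero) (pow_ne_zero _ hq.ne_zero)) fun d => ?_
    rw [Nat.factorization_mul (pow_ne_zero _ hp.ne_zero) (pow_ne_zero _ hq.ne_zero), hp.factorization_pow,
      hq.factorization_pow, Finsupp.add_apply, Finsupp.single_apply, Finsupp.single_apply]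
    by_cases h1 : p = d
    · subst h1; simp [hqp]
    by_cases h2 : q = d
    · subst h2; simp [hqp.symm]
    rw [if_neg h1, if_neg h2, add_zero]
    by_cases hd : d.Prime
    · exact Nat.factorization_eq_zero_of_not_dvd fun hdd => hpair p q d hp hq hd hpd hqd hdd hqp.symm h1 h2
    · exact Nat.factorization_eq_zero_of_not_prime _ hd
  haveI := Fact.mk hp
  haveI := Fact.mk hq
  obtain ⟨H, ⟨hHG, hHπ, hHi⟩, hHA⟩ := exists_invariant_hall ({q} : Set ℕ) hAG hcop hsolv
  set C := (commutator ↥G).map G.subtype with hC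
  haveI : (commutator ↥G).Characteristic := Subgroup.characteristic_iff_le_comap.mpr fun e => by
    rw [← Subgroup.map_le_iff_le_comap, _root_.commutator_def, Subgroup.map_commutator]
    exact Subgroup.commutator_mono le_top le_top
  obtain ⟨hCA, -⟩ := le_normalizer_map_characteristic hAG (commutator ↥G)
  set N₀ := commutator ↥G ⊔ H.subgroupOf G with hN₀
  haveI hN₀n : N₀.Normal := ⟨fun x hx g => by
    have h1 : ⁅g, x⁆ ∈ commutator ↥G := by
      rw [_root_.commutator_def]
      exact Subgroup.commutator_mem_commutator (Subgroup.mem_top g) (Subgroup.mem_top x)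
    have h2 := N₀.mul_mem (Subgroup.mem_sup_left (T := H.subgroupOf G) h1) hx
    simpa [commutatorElement_def] using h2⟩
  set N := N₀.map G.subtype with hN
  have hNeq : N = C ⊔ H := by
    rw [hN, hN₀, Subgroup.map_sup, Subgroup.map_subgroupOf_eq_of_le hHG]
  have hNA : A ≤ Subgroup.normalizer (N : Set X) := by
    intro a ha
    refine Subgroup.mem_normalizer_iff_map_conj_eq.mpr ?_
    rw [hNeq, Subgroup.map_sup, Subgroup.mem_normalizer_iff_map_conj_eq.mp (hCA ha),
      Subgroup.mem_normalizer_iff_map_conj_eq.mp (hHA ha)]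
  have hN₀top : N₀ ≠ ⊤ := by
    intro e
    -- the abelianisation would be a `q`-group
    let f : ↥(H.subgroupOf G) →* ↥G ⧸ commutator ↥G :=
      (QuotientGroup.mk' (commutator ↥G)).comp (H.subgroupOf G).subtype
    have hf : f.range = ⊤ := by
      rw [MonoidHom.range_comp, Subgroup.range_subtype, ← top_le_iff]
      intro z _
      obtain ⟨g, rfl⟩ := QuotientGroup.mk'_surjective (commutator ↥G) z
      have hg : g ∈ commutator ↥G ⊔ H.subgroupOf G := by rw [← hN₀, e]; exact Subgroup.mem_top g
      obtain ⟨c, hc, h, hh, rfl⟩ := Subgroup.mem_sup_of_normal_left.mp hg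
      exact ⟨h, hh, by rw [map_mul, (QuotientGroup.eq_one_iff c).mpr hc |> fun h' => (show QuotientGroup.mk' _ c = 1 from h'), one_mul]⟩
    have hd : p ∣ Nat.card H := by
      refine hpi.trans ?_
      rw [Subgroup.index_eq_card, ← Subgroup.card_top (G := ↥G ⧸ commutator ↥G), ← hf]
      exact (Subgroup.card_range_dvd f).trans (Nat.card_congr (Subgroup.subgroupOfEquivOfLe hHG).toEquiv).dvd
    exact hqp (Set.mem_singleton_iff.mp (hHπ p hp hd)).symm
  have hNlt : N < G := lt_of_le_of_ne (Subgroup.map_subtype_le _) fun e => hN₀top (by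
    apply Subgroup.map_injective G.subtype_injective
    rw [← hN, e, ← MonoidHom.range_eq_map, G.range_subtype])
  haveI := hnil N hNlt hNA
  haveI : Group.IsNilpotent N₀ := Group.nilpotent_of_mulEquiv (N₀.equivMapOfInjective G.subtype G.subtype_injective).symm
  obtain ⟨Q⟩ : Nonempty (Sylow q N₀) := inferInstance
  haveI : (Q : Subgroup N₀).Normal := inferInstance
  haveI : (Q : Subgroup N₀).Characteristic := Sylow.characteristic_of_normal Q inferInstance
  haveI hQn : ((Q : Subgroup N₀).map N₀.subtype).Normal := ConjAct.normal_of_characteristic_of_normal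
  have hNi : ¬ q ∣ N₀.index := fun hd => hHi q hq (Set.mem_singleton q)
    (hd.trans (Subgroup.index_dvd_of_le (le_sup_right : H.subgroupOf G ≤ N₀)))
  have hQi : ¬ q ∣ ((Q : Subgroup N₀).map N₀.subtype).index := by
    rw [Subgroup.index_map_subtype, Nat.Prime.dvd_mul hq, not_or]
    exact ⟨Q.not_dvd_index, hNi⟩
  let QS : Sylow q G := (Q.2.map N₀.subtype).toSylow hQi
  refine ⟨q, QS, hq, hqd, hQn, ?_⟩
  have hN' : A ≤ Subgroup.normalizer ((N₀.map G.subtype : Subgroup X) : Set X) := hNA
  obtain ⟨h, -⟩ := le_normalizer_map_characteristic hN'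
    ((Q : Subgroup N₀).map (N₀.equivMapOfInjective G.subtype G.subtype_injective).toMonoidHom)
    (hC := Subgroup.characteristic_iff_map_eq.mpr fun e => by
      set ι := N₀.equivMapOfInjective G.subtype G.subtype_injective
      have h' := Subgroup.characteristic_iff_map_eq.mp (inferInstance : (Q : Subgroup N₀).Characteristic)
        ((ι.trans e).trans ι.symm)
      rw [Subgroup.map_map]
      calc _ = ((Q : Subgroup N₀).map ((ι.trans e).trans ι.symm).toMonoidHom).map ι.toMonoidHom := by
            rw [Subgroup.map_map]; congr 1; ext x; simp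
        _ = _ := by rw [h'])
  rw [Subgroup.map_map] at h
  show A ≤ Subgroup.normalizer ((((Q : Subgroup N₀).map N₀.subtype).map G.subtype : Subgroup X) : Set X)
  rw [Subgroup.map_map]
  exact h

end CfsgLib.AfterFT
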