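import Cfsg.Agent.Lib.AfterFT.InvariantNilpotent

/-!
The same statements for an action by automorphisms.
-/

set_option autoImplicit false
set_option linter.unusedSectionVars false
set_option linter.style.haveILetI false

namespace CfsgLib.AfterFT

open Cfsg Subgroup CfsgLib

universe u

/-- S4240 with solvability of groups of odd order as a hypothesis. -/
theorem action_invariant_nilpotent {A G : Type*} [Group A] [Group G] [Finite A] [Finite G]
    [MulDistribMulAction A G]
    (odd : ∀ (H : Type (max u_2 u_1)) [Group H] [Finite H], Odd (Nat.card H) → Group.IsSolvable H)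
    (hcop : (Nat.card A).Coprime (Nat.card G))
    (hmax : ∀ H : Subgroup G, H ≠ ⊤ → (∀ a : A, ∀ x ∈ H, a • x ∈ H) →
      (∀ K : Subgroup G, H < K → (∀ a : A, ∀ x ∈ K, a • x ∈ K) → K = ⊤) → Group.IsNilpotent H)
    (hG : ¬ Group.IsNilpotent G) :
    Group.IsSolvable G ∧
      (∃ p q a b : ℕ, p.Prime ∧ q.Prime ∧ p ≠ q ∧ Nat.card G = p ^ a * q ^ b) ∧
      ∃ (p : ℕ) (P : Sylow p G), p.Prime ∧ p ∣ Nat.card G ∧ (P : Subgroup G).Normal ∧
        (∀ a : A, ∀ x ∈ (P : Subgroup G), a • x ∈ (P : Subgroup G)) := by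
  -- every proper invariant subgroup is nilpotent
  have hall : ∀ H : Subgroup G, H ≠ ⊤ → (∀ a : A, ∀ x ∈ H, a • x ∈ H) → Group.IsNilpotent H := by
    intro H hH hinv
    obtain ⟨K, ⟨hHK, hK, hKinv⟩, hmaxK⟩ := (Set.toFinite {K : Subgroup G |
      H ≤ K ∧ K ≠ ⊤ ∧ ∀ a : A, ∀ x ∈ K, a • x ∈ K}).exists_maximal ⟨H, le_rfl, hH, hinv⟩
    haveI := hmax K hK hKinv fun L hKL hLinv => by
      by_contra hL
      exact hKL.not_ge (hmaxK ⟨hHK.trans hKL.le, hL, hLinv⟩ hKL.le)
    exact Group.nilpotent_of_mulEquiv (Subgroup.subgroupOfEquivOfLe hHK)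
  let φ : A →* MulAut G := MulDistribMulAction.toMulAut A G
  haveI : Finite (G ⋊[φ] A) := Finite.of_equiv _ SemidirectProduct.equivProd.symm
  set G' := (SemidirectProduct.inl : G →* G ⋊[φ] A).range with hG'
  set A' := (SemidirectProduct.inr : A →* G ⋊[φ] A).range with hA'
  let eG : G ≃* G' := MonoidHom.ofInjective SemidirectProduct.inl_injective
  have hconj : ∀ (a : A) (g : G), SemidirectProduct.inr a * SemidirectProduct.inl g *
      (SemidirectProduct.inr a)⁻¹ = (SemidirectProduct.inl (a • g) : G ⋊[φ] A) := fun a g => by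
    rw [← map_inv]
    exact (SemidirectProduct.inl_aut a g).symm
  have hAG : A' ≤ Subgroup.normalizer (G' : Set (G ⋊[φ] A)) := by
    haveI : G'.Normal := by
      rw [hG', SemidirectProduct.range_inl_eq_ker_rightHom]
      infer_instance
    rw [Subgroup.normalizer_eq_top]
    exact le_top
  have hcG : Nat.card G' = Nat.card G := (Nat.card_congr eG.toEquiv).symm
  have hcA : Nat.card A' = Nat.card A :=
    (Nat.card_congr (MonoidHom.ofInjective SemidirectProduct.inr_injective).toEquiv).symm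
  have hcop' : (Nat.card A').Coprime (Nat.card G') := by rwa [hcA, hcG]
  have hnil : ∀ H : Subgroup (G ⋊[φ] A), H < G' → A' ≤ Subgroup.normalizer (H : Set (G ⋊[φ] A)) →
      Group.IsNilpotent H := by
    intro H hH hHA
    haveI := hall (H.comap SemidirectProduct.inl) (fun e => hH.not_ge (by
      rintro _ ⟨g, rfl⟩
      exact (e ▸ Subgroup.mem_top g : g ∈ H.comap SemidirectProduct.inl)))
      (fun a x hx => by
        rw [Subgroup.mem_comap, ← hconj]
        exact (Subgroup.mem_normalizer_iff.mp (hHA ⟨a, rfl⟩) _).mp hx)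
    have e : (H.comap SemidirectProduct.inl).map SemidirectProduct.inl = H := by
      rw [Subgroup.map_comap_eq, ← hG', inf_eq_right.mpr hH.le]
    rw [← e]
    exact Group.nilpotent_of_mulEquiv
      (Subgroup.equivMapOfInjective (H.comap SemidirectProduct.inl) _ SemidirectProduct.inl_injective)
  have hsolv := solvable_of_invariant_nilpotent odd _ (G ⋊[φ] A) A' G' rfl hAG hcop' hnil
  haveI := hsolv
  have hnn : ¬ Group.IsNilpotent G' := fun h => hG (Group.nilpotent_of_mulEquiv (G := G') eG.symm)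
  obtain ⟨⟨p, q, a, b, hp, hq, hpq, hc⟩, r, P, hr, hrd, hPn, hPA⟩ :=
    invariant_nilpotent_structure hAG hcop' hnil hsolv hnn
  refine ⟨Group.isSolvable_of_isSolvable_injective (f := eG.toMonoidHom) eG.injective,
    ⟨p, q, a, b, hp, hq, hpq, hcG ▸ hc⟩, ?_⟩
  haveI := Fact.mk hr
  let Q : Sylow r G := P.comapOfInjective eG.toMonoidHom eG.injective (by
    exact fun x _ => eG.surjective x)
  refine ⟨r, Q, hr, hcG ▸ hrd, ?_, ?_⟩
  · show ((P : Subgroup G').comap eG.toMonoidHom).Normal
    exact hPn.comap _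
  · intro a x hx
    show eG (a • x) ∈ (P : Subgroup G')
    have h : ((eG x : G') : G ⋊[φ] A) ∈ (P : Subgroup G').map G'.subtype := ⟨eG x, hx, rfl⟩
    obtain ⟨z, hz, hze⟩ := (Subgroup.mem_normalizer_iff.mp (hPA ⟨a, rfl⟩) _).mp h
    have : z = eG (a • x) := Subtype.ext (hze.trans (hconj a x))
    exact this ▸ hz

end CfsgLib.AfterFT
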