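import Cfsg.Agent.Lib.AfterFT.EvenComponent
import Cfsg.Agent.Lib.Comp.CompMove
import Cfsg.Agent.Lib.Local

/-!
Where a component of the centralizer of an involution lies when `L_{2'}(G) = E(G)`.
-/

set_option autoImplicit false
set_option linter.unusedSectionVars false
set_option linter.style.haveILetI false

namespace CfsgLib.AfterFT

open Cfsg Subgroup CfsgLib CfsgLib.Comp
open scoped commutatorElement

universe u

variable {G : Type u} [Group G] [Finite G]

/-- Every component is normalised by the layer. -/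
theorem layer_le_normalizer_component {K : Subgroup G} (hK : IsComponent K) :
    layer G ≤ Subgroup.normalizer (K : Set G) := by
  refine sSup_le fun J hJ => ?_
  rcases components_eq_or_commute hJ hK with e | e
  · exact e ▸ Subgroup.le_normalizer
  · exact (Subgroup.commutator_eq_bot_iff_le_centralizer.mp e).trans (Subgroup.centralizer_le_normalizer _)

theorem cj_cj_self {t : G} (ht : t * t = 1) (K : Subgroup G) : cj t (cj t K) = K := by
  rw [← cj_mul, ht]
  ext x; simp [cj]

/-- A component of `C(t)` inside the layer lies in a `t`-orbit of components. -/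
theorem exists_orbit {t : G} (ht : t * t = 1) {L : Subgroup G}
    (hL : IsPC 2 L (layer G ⊓ Subgroup.centralizer ({t} : Set G))) (hne : L ≠ ⊥) :
    ∀ S : Finset (Subgroup G), (∀ K ∈ S, IsComponent K ∧ cj t K ∈ S) → L ≤ S.sup id →
      ∃ D ∈ S, L ≤ D ⊔ cj t D := by
  classical
  intro S
  induction S using Finset.strongInduction with
  | H S ih =>
    intro hS hLS
    rcases S.eq_empty_or_nonempty with rfl | ⟨D, hD⟩
    · exact absurd (le_bot_iff.mp (by simpa using hLS)) hne
    set T := (S.erase D).erase (cj t D) with hT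
    have hTsub : T ⊂ S :=
      (Finset.erase_subset _ _).trans_ssubset (Finset.erase_ssubset hD)
    have hmemT : ∀ K, K ∈ T ↔ K ∈ S ∧ K ≠ D ∧ K ≠ cj t D := fun K => by
      rw [hT, Finset.mem_erase, Finset.mem_erase]; tauto
    have hTinv : ∀ K ∈ T, IsComponent K ∧ cj t K ∈ T := by
      intro K hK
      obtain ⟨h1, h2, h3⟩ := (hmemT K).mp hK
      refine ⟨(hS K h1).1, (hmemT _).mpr ⟨(hS K h1).2, fun e => h3 ?_, fun e => h2 ?_⟩⟩
      · rw [← e, cj_cj_self ht]
      · rw [← cj_cj_self ht K, e, cj_cj_self ht]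
    have hcov : S.sup id ≤ (D ⊔ cj t D) ⊔ T.sup id := by
      refine Finset.sup_le fun K hK => ?_
      by_cases h1 : K = D
      · exact le_sup_of_le_left (le_sup_of_le_left h1.le)
      by_cases h2 : K = cj t D
      · exact le_sup_of_le_left (le_sup_of_le_right h2.le)
      exact le_sup_of_le_right (Finset.le_sup (f := id) ((hmemT K).mpr ⟨hK, h1, h2⟩))
    have hcomm : ⁅D ⊔ cj t D, T.sup id⁆ = ⊥ := by
      rw [Subgroup.commutator_eq_bot_iff_le_centralizer]
      have key : ∀ A ∈ S, (∀ K ∈ T, K ≠ A) → A ≤ Subgroup.centralizer ((T.sup id : Subgroup G) : Set G) := by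
        intro A hA hne'
        rw [Subgroup.le_centralizer_iff]
        refine Finset.sup_le fun K hK => ?_
        rcases components_eq_or_commute (hTinv K hK).1 (hS A hA).1 with e | e
        · exact absurd e (hne' K hK)
        · exact Subgroup.commutator_eq_bot_iff_le_centralizer.mp e
      exact sup_le (key D hD fun K hK => ((hmemT K).mp hK).2.1)
        (key _ (hS D hD).2 fun K hK => ((hmemT K).mp hK).2.2)
    have hx1 : t ∈ Subgroup.normalizer ((D ⊔ cj t D : Subgroup G) : Set G) := by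
      refine mem_normalizer_of_cj ?_
      rw [cj, Subgroup.map_sup, ← cj, ← cj, cj_cj_self ht, sup_comm]
    have hx2 : t ∈ Subgroup.normalizer ((T.sup id : Subgroup G) : Set G) := by
      refine mem_normalizer_of_cj (le_antisymm ?_ ?_)
      · rw [cj, Subgroup.map_le_iff_le_comap]
        refine Finset.sup_le fun K hK => ?_
        rw [← Subgroup.map_le_iff_le_comap]
        exact Finset.le_sup (f := id) (hTinv K hK).2
      · refine Finset.sup_le fun K hK => ?_
        show K ≤ _
        rw [← cj_cj_self ht K]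
        exact Subgroup.map_mono (Finset.le_sup (f := id) (hTinv K hK).2)
    have hn : layer G ⊓ Subgroup.centralizer ({t} : Set G) ≤
        Subgroup.normalizer ((D ⊔ cj t D : Subgroup G) : Set G) := by
      intro g hg
      have h1 := layer_le_normalizer_component (hS D hD).1 (Subgroup.mem_inf.mp hg).1
      have h2 := layer_le_normalizer_component (hS _ (hS D hD).2).1 (Subgroup.mem_inf.mp hg).1
      refine mem_normalizer_of_cj ?_
      have e1 : cj g D = D := CfsgLib.Local.map_conj_eq_of_mem_normalizer h1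
      have e2 : cj g (cj t D) = cj t D := CfsgLib.Local.map_conj_eq_of_mem_normalizer h2
      rw [cj, Subgroup.map_sup, ← cj, ← cj, e1, e2]
    have hM : (D ⊔ cj t D) ⊓ Subgroup.centralizer ({t} : Set G) ≤ layer G ⊓ Subgroup.centralizer ({t} : Set G) :=
      inf_le_inf_right _ (sup_le (le_layer (hS D hD).1) (le_layer (hS _ (hS D hD).2).1))
    rcases hL.split inf_le_right hcomm hx1 hx2 hn hM (hLS.trans hcov) with h | h
    · exact ⟨D, hD, h⟩
    · obtain ⟨D', hD', h'⟩ := ih T hTsub hTinv h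
      exact ⟨D', ((hmemT D').mp hD').1, h'⟩

/-- The diagonal of a component and its distinct conjugate by an involution. -/
theorem moved_case {t : G} (ht : t * t = 1) {D L : Subgroup G} (hD : IsComponent D) (hmove : cj t D ≠ D)
    (hL : IsComponent (L.subgroupOf ((D ⊔ cj t D) ⊓ Subgroup.centralizer ({t} : Set G))))
    (hle : L ≤ (D ⊔ cj t D) ⊓ Subgroup.centralizer ({t} : Set G)) :
    L = (layer ↥((D ⊔ cj t D) ⊓ Subgroup.centralizer ({t} : Set G))).map
      ((D ⊔ cj t D) ⊓ Subgroup.centralizer ({t} : Set G)).subtype := by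
  set M := (D ⊔ cj t D) ⊓ Subgroup.centralizer ({t} : Set G) with hM
  have hD' : IsComponent (cj t D) := isComponent_map_equiv (MulAut.conj t) hD
  have hc : ⁅D, cj t D⁆ = ⊥ := (components_eq_or_commute hD hD').resolve_left (Ne.symm hmove)
  have hcm : ∀ a ∈ D, ∀ b ∈ cj t D, Commute a b := fun a ha b hb => comm_of_commutator_eq_bot hc ha hb
  have hti : t⁻¹ = t := inv_eq_of_mul_eq_one_right ht
  have hconj : ∀ d ∈ D, t * d * t⁻¹ ∈ cj t D := fun d hd => ⟨d, hd, rfl⟩
  let φ : ↥D →* G :=
    { toFun := fun d => (d : G) * (t * d * t⁻¹)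
      map_one' := by simp
      map_mul' := fun a b => by
        have h := (hcm b b.2 (t * (a : G) * t⁻¹) (hconj a a.2)).eq
        calc ((a * b : ↥D) : G) * (t * (a * b : ↥D) * t⁻¹)
            = a * ((b : G) * (t * a * t⁻¹)) * (t * b * t⁻¹) := by rw [Subgroup.coe_mul]; group
          _ = a * ((t * a * t⁻¹) * b) * (t * b * t⁻¹) := by rw [h]
          _ = (a : G) * (t * a * t⁻¹) * ((b : G) * (t * b * t⁻¹)) := by group }
  have hφ : ∀ d : ↥D, φ d = (d : G) * (t * d * t⁻¹) := fun _ => rfl
  have hrange : φ.range ≤ M := by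
    rintro _ ⟨d, rfl⟩
    refine Subgroup.mem_inf.mpr ⟨Subgroup.mul_mem_sup d.2 (hconj d d.2), ?_⟩
    rw [Subgroup.mem_centralizer_singleton_iff, hφ]
    calc (d : G) * (t * d * t⁻¹) * t = (t * d * t⁻¹) * d * t := by rw [(hcm d d.2 _ (hconj d d.2)).eq]
      _ = t * ((d : G) * (t⁻¹ * d * t)) := by group
      _ = t * ((d : G) * (t * d * t⁻¹)) := by rw [hti]
  have hform : ∀ m ∈ M, ∃ d : ↥D, ∃ z, z ∈ D ∧ z ∈ cj t D ∧ m = φ d * z := by
    intro m hm
    obtain ⟨hm1, hm2⟩ := Subgroup.mem_inf.mp hm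
    obtain ⟨d, hd, e, he, rfl⟩ := mem_sup_of_commutator_eq_bot hc hm1
    have hfix : t * (d * e) * t⁻¹ = d * e := by
      rw [← Subgroup.mem_centralizer_singleton_iff.mp hm2, mul_inv_cancel_right]
    have he' : t * e * t⁻¹ ∈ D := by
      obtain ⟨e₀, he₀, rfl⟩ := he
      have : t * (t * e₀ * t⁻¹) * t⁻¹ = e₀ := by
        calc t * (t * e₀ * t⁻¹) * t⁻¹ = (t * t) * e₀ * (t * t)⁻¹ := by group
          _ = e₀ := by rw [ht]; group
      show t * (t * e₀ * t⁻¹) * t⁻¹ ∈ D
      rw [this]; exact he₀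
    set z := (t * d * t⁻¹)⁻¹ * e with hz
    refine ⟨⟨d, hd⟩, z, ?_, Subgroup.mul_mem _ (Subgroup.inv_mem _ (hconj d hd)) he, ?_⟩
    · have : z = (t * e * t⁻¹) * d⁻¹ := by
        have h1 : (t * d * t⁻¹) * (t * e * t⁻¹) = d * e := by rw [← hfix]; group
        have h2 : t * e * t⁻¹ = (t * d * t⁻¹)⁻¹ * (d * e) := by rw [← h1]; group
        rw [h2, hz, (hcm d hd e he).eq]; group
      rw [this]
      exact Subgroup.mul_mem _ he' (Subgroup.inv_mem _ hd)
    · rw [hφ, hz]; group
  have hder : ⁅M, M⁆ ≤ φ.range := by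
    rw [Subgroup.commutator_le]
    intro m hm m' hm'
    obtain ⟨d, z, hz1, hz2, rfl⟩ := hform m hm
    obtain ⟨d', z', hz1', hz2', rfl⟩ := hform m' hm'
    have hzc : ∀ w ∈ D, w ∈ cj t D → ∀ c : ↥D, Commute (φ c) w := fun w hw hw' c => by
      rw [hφ]
      exact ((hcm c c.2 w hw').mul_left (hcm w hw _ (hconj c c.2)).symm)
    rw [commutator_prod_of_commute (hzc z' hz1' hz2' d) (hzc z hz1 hz2 d') (hzc z hz1 hz2 d)
      (hzc z' hz1' hz2' d'), commutatorElement_eq_one_iff_commute.mpr (hcm z hz1 z' hz2'), mul_one]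
    exact ⟨⁅d, d'⁆, map_commutatorElement φ d d'⟩
  haveI : Nontrivial ↥φ.range := by
    rw [Subgroup.nontrivial_iff_ne_bot]
    intro e
    refine component_not_centralizing hD fun a ha b hb => ?_
    have h1 : a * (t * a * t⁻¹) = 1 := by
      rw [← hφ ⟨a, ha⟩]; exact (Subgroup.mem_bot.mp (e ▸ ⟨⟨a, ha⟩, rfl⟩ : φ ⟨a, ha⟩ ∈ (⊥ : Subgroup G)))
    have h2 : a ∈ cj t D := by
      rw [eq_inv_of_mul_eq_one_left h1]
      exact Subgroup.inv_mem _ (hconj a ha)
    exact (hcm b hb a h2).eq.symm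
  have hΔ : IsQuasisimple ↥φ.range :=
    isQuasisimple_of_surj_nontrivial φ.rangeRestrict φ.rangeRestrict_surjective hD.2
  have hcomp : ∀ J : Subgroup ↥M, IsComponent J → J.map M.subtype = φ.range := by
    intro J hJ
    have hperf : ⁅J, J⁆ = J := by
      haveI := hJ.2.1
      have h : commutator ↥J = ⊤ := Group.IsPerfect.commutator_eq_top
      rw [commutator_def] at h
      have h' := congrArg (Subgroup.map J.subtype) h
      rwa [Subgroup.map_commutator, ← MonoidHom.range_eq_map, J.range_subtype] at h'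
    have hle' : J.map M.subtype ≤ φ.range := by
      rw [← hperf, Subgroup.map_commutator]
      exact (Subgroup.commutator_mono (Subgroup.map_subtype_le _) (Subgroup.map_subtype_le _)).trans hder
    have hsn : ((J.map M.subtype).subgroupOf φ.range).IsSubnormal := by
      have e : (J.map M.subtype).subgroupOf φ.range = J.comap (Subgroup.inclusion hrange) := by
        ext x
        constructor
        · rintro ⟨y, hy, e⟩
          have : y = Subgroup.inclusion hrange x := Subtype.ext e
          show Subgroup.inclusion hrange x ∈ J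
          rw [← this]; exact hy
        · intro hx; exact ⟨_, hx, rfl⟩
      rw [e]; exact hJ.1.comap _
    rcases subnormal_le_center_or_top hΔ hsn with h | h
    · refine (component_not_centralizing hJ fun a ha b hb => ?_).elim
      have ha' : (a : G) ∈ φ.range := hle' ⟨a, ha, rfl⟩
      have hb' : (b : G) ∈ φ.range := hle' ⟨b, hb, rfl⟩
      refine Subtype.ext ?_
      simpa using congrArg Subtype.val (Subgroup.mem_center_iff.mp
        (h (show (⟨(b : G), hb'⟩ : ↥φ.range) ∈ _ from ⟨b, hb, rfl⟩)) ⟨(a : G), ha'⟩)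
    · exact le_antisymm hle' (Subgroup.subgroupOf_eq_top.mp h)
  have h1 := hcomp _ hL
  rw [Subgroup.map_subgroupOf_eq_of_le hle] at h1
  refine le_antisymm ?_ ?_
  · rw [← Subgroup.map_subgroupOf_eq_of_le hle]
    exact Subgroup.map_mono (le_layer hL)
  · rw [Subgroup.map_le_iff_le_comap]
    refine sSup_le fun J hJ => ?_
    rw [← Subgroup.map_le_iff_le_comap, hcomp J hJ, h1]

/-- The diagonal elements lie in the layer of the fixed points. -/
theorem diag_mem_layer {t : G} (ht : t * t = 1) {D : Subgroup G} (hD : IsComponent D) (hmove : cj t D ≠ D)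
    {d : G} (hd : d ∈ D)
    {h : d * (t * d * t⁻¹) ∈ (D ⊔ cj t D) ⊓ Subgroup.centralizer ({t} : Set G)} :
    (⟨d * (t * d * t⁻¹), h⟩ : ↥((D ⊔ cj t D) ⊓ Subgroup.centralizer ({t} : Set G))) ∈
      layer ↥((D ⊔ cj t D) ⊓ Subgroup.centralizer ({t} : Set G)) := by
  set M := (D ⊔ cj t D) ⊓ Subgroup.centralizer ({t} : Set G) with hM
  have hD' : IsComponent (cj t D) := isComponent_map_equiv (MulAut.conj t) hD
  have hc : ⁅D, cj t D⁆ = ⊥ := (components_eq_or_commute hD hD').resolve_left (Ne.symm hmove)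
  have hcm : ∀ a ∈ D, ∀ b ∈ cj t D, Commute a b := fun a ha b hb => comm_of_commutator_eq_bot hc ha hb
  have hti : t⁻¹ = t := inv_eq_of_mul_eq_one_right ht
  have hconj : ∀ d ∈ D, t * d * t⁻¹ ∈ cj t D := fun d hd => ⟨d, hd, rfl⟩
  let φ : ↥D →* ↥M :=
    { toFun := fun e => ⟨(e : G) * (t * e * t⁻¹), Subgroup.mem_inf.mpr ⟨Subgroup.mul_mem_sup e.2 (hconj e e.2), by
        rw [Subgroup.mem_centralizer_singleton_iff]
        calc (e : G) * (t * e * t⁻¹) * t = (t * e * t⁻¹) * e * t := by rw [(hcm e e.2 _ (hconj e e.2)).eq]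
          _ = t * ((e : G) * (t⁻¹ * e * t)) := by group
          _ = t * ((e : G) * (t * e * t⁻¹)) := by rw [hti]⟩⟩
      map_one' := Subtype.ext (by simp)
      map_mul' := fun a b => Subtype.ext (by
        have h := (hcm b b.2 (t * (a : G) * t⁻¹) (hconj a a.2)).eq
        show ((a * b : ↥D) : G) * (t * (a * b : ↥D) * t⁻¹) = (a : G) * (t * a * t⁻¹) * ((b : G) * (t * b * t⁻¹))
        calc ((a * b : ↥D) : G) * (t * (a * b : ↥D) * t⁻¹)
            = a * ((b : G) * (t * a * t⁻¹)) * (t * b * t⁻¹) := by rw [Subgroup.coe_mul]; group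
          _ = a * ((t * a * t⁻¹) * b) * (t * b * t⁻¹) := by rw [h]
          _ = (a : G) * (t * a * t⁻¹) * ((b : G) * (t * b * t⁻¹)) := by group) }
  have hnt : Nontrivial ↥φ.range := by
    rw [Subgroup.nontrivial_iff_ne_bot]
    intro e
    refine component_not_centralizing hD fun a ha b hb => ?_
    have h1 : a * (t * a * t⁻¹) = 1 := by
      have hm : φ ⟨a, ha⟩ ∈ φ.range := ⟨⟨a, ha⟩, rfl⟩
      rw [e, Subgroup.mem_bot] at hm
      exact congrArg Subtype.val hm
    have h2 : a ∈ cj t D := by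
      rw [eq_inv_of_mul_eq_one_left h1]
      exact Subgroup.inv_mem _ (hconj a ha)
    exact (hcm b hb a h2).eq.symm
  have hform : ∀ m : ↥M, ∃ e : ↥D, ∀ c : ↥D, m * φ c * m⁻¹ = φ (e * c * e⁻¹) := by
    intro m
    obtain ⟨hm1, hm2⟩ := Subgroup.mem_inf.mp m.2
    obtain ⟨x, hx, y, hy, hxy⟩ := mem_sup_of_commutator_eq_bot hc hm1
    refine ⟨⟨x, hx⟩, fun c => ?_⟩
    have hy' : t * y * t⁻¹ ∈ D := by
      obtain ⟨y₀, hy₀, rfl⟩ := hy
      have : t * (t * y₀ * t⁻¹) * t⁻¹ = (t * t) * y₀ * (t * t)⁻¹ := by group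
      show t * (t * y₀ * t⁻¹) * t⁻¹ ∈ D
      rw [this, ht]; simpa using hy₀
    have hfix : x * y = (t * y * t⁻¹) * (t * x * t⁻¹) := by
      calc x * y = t * (x * y) * t⁻¹ := by
            rw [← hxy, ← Subgroup.mem_centralizer_singleton_iff.mp hm2, mul_inv_cancel_right]
        _ = t * (y * x) * t⁻¹ := by rw [(hcm x hx y hy).eq]
        _ = _ := by group
    have hL : (m : G) * c * (m : G)⁻¹ = x * c * x⁻¹ := by
      rw [hxy]
      calc x * y * c * (x * y)⁻¹ = x * (y * c) * y⁻¹ * x⁻¹ := by group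
        _ = x * (c * y) * y⁻¹ * x⁻¹ := by rw [(hcm c c.2 y hy).eq]
        _ = _ := by group
    have hR : (m : G) * (t * c * t⁻¹) * (m : G)⁻¹ = t * (x * c * x⁻¹) * t⁻¹ := by
      have hmt : (m : G) * t = t * m := Subgroup.mem_centralizer_singleton_iff.mp hm2
      calc (m : G) * (t * c * t⁻¹) * (m : G)⁻¹ = ((m : G) * t) * c * ((m : G) * t)⁻¹ := by group
        _ = t * ((m : G) * c * (m : G)⁻¹) * t⁻¹ := by rw [hmt]; group
        _ = _ := by rw [hL]
    refine Subtype.ext ?_
    show (m : G) * ((c : G) * (t * c * t⁻¹)) * (m : G)⁻¹ = x * c * x⁻¹ * (t * (x * c * x⁻¹) * t⁻¹)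
    calc (m : G) * ((c : G) * (t * c * t⁻¹)) * (m : G)⁻¹
        = ((m : G) * c * (m : G)⁻¹) * ((m : G) * (t * c * t⁻¹) * (m : G)⁻¹) := by group
      _ = _ := by rw [hL, hR]
  haveI hn : φ.range.Normal := ⟨fun w hw m => by
    obtain ⟨c, rfl⟩ := hw
    obtain ⟨e, he⟩ := hform m
    exact ⟨e * c * e⁻¹, (he c).symm⟩⟩
  exact le_layer (K := φ.range) ⟨hn.isSubnormal,
    isQuasisimple_of_surj_nontrivial φ.rangeRestrict φ.rangeRestrict_surjective hD.2⟩ ⟨⟨d, hd⟩, rfl⟩

/-- S1322 with solvability of groups of odd order as a hypothesis. -/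
theorem component_of_centralizer (odd : ∀ (H : Type u) [Group H] [Finite H], Odd (Nat.card H) → Group.IsSolvable H)
    (hL2 : pLayer 2 G = layer G) (t : G) (ht : orderOf t = 2) (L : Subgroup G)
    (hLt : L ≤ Subgroup.centralizer ({t} : Set G))
    (hL : IsComponent (L.subgroupOf (Subgroup.centralizer ({t} : Set G)))) :
    ∃ D : Subgroup G, IsComponent D ∧ (L = D ∨ (L < D ∧ D = ⁅D, Subgroup.zpowers t⁆) ∨
      (D.map (MulAut.conj t).toMonoidHom ≠ D ∧
        L = (layer ↥((D ⊔ D.map (MulAut.conj t).toMonoidHom) ⊓ Subgroup.centralizer ({t} : Set G))).map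
          ((D ⊔ D.map (MulAut.conj t).toMonoidHom) ⊓ Subgroup.centralizer ({t} : Set G)).subtype)) := by
  classical
  haveI := Fintype.ofFinite (Subgroup G)
  set C := Subgroup.centralizer ({t} : Set G) with hC
  have htt : t * t = 1 := by rw [← pow_two, ← ht, pow_orderOf_eq_one]
  have hLE : L ≤ layer G := by
    rw [← hL2]
    have hR : IsPGroup 2 ↥(Subgroup.zpowers t) := IsPGroup.iff_card.mpr ⟨1, by rw [Nat.card_zpowers, ht, pow_one]⟩
    have hCR : C = Subgroup.centralizer ((Subgroup.zpowers t : Subgroup G) : Set G) := by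
      ext x
      rw [hC, Subgroup.mem_centralizer_singleton_iff, Subgroup.mem_centralizer_iff]
      refine ⟨?_, fun h => (h t (Subgroup.mem_zpowers t)).symm⟩
      rintro h _ ⟨n, rfl⟩
      exact ((show Commute x t from h).zpow_right n).eq.symm
    refine le_trans ?_ (pLayer_balance_two_centralizer (Subgroup.zpowers t) hR)
    rw [← hCR, ← Subgroup.map_subgroupOf_eq_of_le hLt]
    exact Subgroup.map_mono (le_sSup (component_isPComponent odd hL))
  have hLq : IsQuasisimple ↥L := isQuasisimple_of_equiv (Subgroup.subgroupOfEquivOfLe hLt) hL.2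
  set H := layer G ⊓ C with hH
  have hLH : L ≤ H := le_inf hLE hLt
  have hsub : ∀ K : Subgroup G, L ≤ K → K ≤ C → (L.subgroupOf K).IsSubnormal := by
    intro K hLK hKC
    have e : L.subgroupOf K = (L.subgroupOf C).comap (Subgroup.inclusion hKC) := rfl
    rw [e]; exact hL.1.comap _
  have hpc : IsPC 2 L H := component_isPC odd hLH (hsub H hLH inf_le_right) hLq
  have hne : L ≠ ⊥ := by
    intro e
    subst e
    exact isQuasisimple_not_isSolvable hLq inferInstance
  obtain ⟨D, hD, hLD⟩ := exists_orbit htt hpc hne (Finset.univ.filter IsComponent)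
    (fun K hK => ⟨(Finset.mem_filter.mp hK).2, Finset.mem_filter.mpr ⟨Finset.mem_univ _,
      isComponent_map_equiv (MulAut.conj t) (Finset.mem_filter.mp hK).2⟩⟩)
    (hLE.trans (sSup_le fun K hK => Finset.le_sup (f := id) (Finset.mem_filter.mpr ⟨Finset.mem_univ _, hK⟩)))
  have hDc : IsComponent D := (Finset.mem_filter.mp hD).2
  refine ⟨D, hDc, ?_⟩
  by_cases hmove : cj t D = D
  · rw [hmove, sup_idem] at hLD
    by_cases hLeq : L = D
    · exact Or.inl hLeq
    refine Or.inr (Or.inl ⟨lt_of_le_of_ne hLD hLeq, ?_⟩)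
    have htN : Subgroup.zpowers t ≤ Subgroup.normalizer (D : Set G) :=
      Subgroup.zpowers_le.mpr (mem_normalizer_of_cj hmove)
    have hle : ⁅D, Subgroup.zpowers t⁆ ≤ D := by
      rw [Subgroup.commutator_le]
      intro d hd z hz
      rw [commutatorElement_def, mul_assoc, mul_assoc, ← mul_assoc z]
      exact D.mul_mem hd ((Subgroup.mem_normalizer_iff.mp (htN hz) _).mp (D.inv_mem hd))
    haveI : ((⁅D, Subgroup.zpowers t⁆).subgroupOf D).Normal :=
      (Subgroup.normal_subgroupOf_iff_le_normalizer hle).mpr fun d hd => mem_normalizer_of_maps fun x hx => by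
        have h0 : ⁅D, Subgroup.zpowers t⁆ ≤ (⁅D, Subgroup.zpowers t⁆).comap (MulAut.conj d).toMonoidHom := by
          rw [Subgroup.commutator_le]
          intro a ha z hz
          show d * ⁅a, z⁆ * d⁻¹ ∈ ⁅D, Subgroup.zpowers t⁆
          have e : d * ⁅a, z⁆ * d⁻¹ = ⁅d * a, z⁆ * ⁅d, z⁆⁻¹ := by
            rw [commutatorElement_def, commutatorElement_def, commutatorElement_def]; group
          rw [e]
          exact mul_mem (Subgroup.commutator_mem_commutator (D.mul_mem hd ha) hz)
            (inv_mem (Subgroup.commutator_mem_commutator hd hz))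
        exact h0 hx
    rcases quasisimple_normal_le_center_or_eq_top hDc.2 ((⁅D, Subgroup.zpowers t⁆).subgroupOf D) with h | h
    · exfalso
      have h1 : ⁅Subgroup.zpowers t, D⁆ ≤ (Subgroup.center ↥D).map D.subtype := by
        rw [Subgroup.commutator_comm]
        intro x hx
        exact ⟨⟨x, hle hx⟩, h hx, rfl⟩
      have h2 := centralizes_of_commutator_le_center hDc h1
      have hDC : D ≤ C := fun d hd => by
        rw [hC, Subgroup.mem_centralizer_singleton_iff]
        exact (comm_of_commutator_eq_bot h2 hd (Subgroup.mem_zpowers t))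
      exact hLeq ((component_isPC odd hLD (hsub D hLD hDC) hLq).eq_of_quasisimple hDc.2)
    · exact (le_antisymm hle (Subgroup.subgroupOf_eq_top.mp h)).symm
  · refine Or.inr (Or.inr ⟨hmove, moved_case htt hDc hmove ⟨hsub _ (le_inf hLD hLt) inf_le_right, ?_⟩
      (le_inf hLD hLt)⟩)
    exact isQuasisimple_of_equiv (Subgroup.subgroupOfEquivOfLe (le_inf hLD hLt)).symm hLq

end CfsgLib.AfterFT
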