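import Cfsg.Agent.S0949
import Cfsg.Agent.S5212
import Cfsg.Agent.Lib.HSub.Complement
import Cfsg.Agent.Lib.Transfer
import Cfsg.Agent.Lib.Fusion.Group

/-!
Row 4418: a finite group whose Sylow 2-subgroup has a cyclic normal subgroup with cyclic quotient of order
at least 4 is soluble, given that groups of odd order are soluble.
-/

set_option autoImplicit false
set_option linter.unusedSectionVars false
set_option linter.style.haveILetI false

namespace CfsgLib.AfterFT.Metacyclic

open Subgroup Cfsg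

universe u

/-- If all squares die in a cyclic quotient, the quotient has order at most 2. -/
theorem card_quot_le_two {S : Type u} [Group S] [Finite S] {N : Subgroup S} [N.Normal] [IsCyclic (S ⧸ N)]
    (h : ∀ (C : Type u) [CommGroup C] (f : S →* C) (x : S), f x ^ 2 = 1) : Nat.card (S ⧸ N) ≤ 2 := by
  letI : CommGroup (S ⧸ N) := IsCyclic.commGroup
  obtain ⟨q, hq⟩ := IsCyclic.exists_generator (α := S ⧸ N)
  obtain ⟨x, rfl⟩ := QuotientGroup.mk'_surjective N q
  have h2 := h (S ⧸ N) (QuotientGroup.mk' N) x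
  rw [← orderOf_eq_card_of_forall_mem_zpowers hq]
  exact Nat.le_of_dvd two_pos (orderOf_dvd_of_pow_eq_one h2)

theorem squares_dihedral {S : Type u} [Group S] {m : ℕ} (e : S ≃* DihedralGroup m) (C : Type u) [CommGroup C]
    (f : S →* C) (x : S) : f x ^ 2 = 1 := by
  set g := f.comp e.symm.toMonoidHom with hg
  have hx : f x = g (e x) := by simp [hg]
  have hs : ∀ i : ZMod m, g (DihedralGroup.sr i) ^ 2 = 1 := fun i => by
    rw [sq, ← map_mul, DihedralGroup.sr_mul_self, map_one]
  rw [hx]
  rcases e x with i | i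
  · have : DihedralGroup.r i = DihedralGroup.sr 0 * DihedralGroup.sr i := by
      rw [DihedralGroup.sr_mul_sr, sub_zero]
    rw [this, map_mul, mul_pow, hs, hs, one_mul]
  · exact hs i

theorem squares_quaternion {S : Type u} [Group S] {m : ℕ} (hm : Even m) (e : S ≃* QuaternionGroup m) (C : Type u)
    [CommGroup C] (f : S →* C) (x : S) : f x ^ 2 = 1 := by
  set g := f.comp e.symm.toMonoidHom with hg
  have hx : f x = g (e x) := by simp [hg]
  have hconj : ∀ i : ZMod (2 * m), g (QuaternionGroup.a i) ^ 2 = 1 := fun i => by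
    have h1 : QuaternionGroup.xa (0 : ZMod (2 * m)) * QuaternionGroup.a i =
        QuaternionGroup.a (-i) * QuaternionGroup.xa 0 := by simp
    have h2 := congrArg g h1
    rw [map_mul, map_mul, mul_comm (g (QuaternionGroup.xa 0))] at h2
    have h3 : g (QuaternionGroup.a i) = g (QuaternionGroup.a (-i)) := mul_right_cancel h2
    rw [sq]
    conv_lhs => arg 2; rw [h3]
    rw [← map_mul, QuaternionGroup.a_mul_a, add_neg_cancel, QuaternionGroup.a_zero, map_one]
  rw [hx]
  rcases e x with i | i
  · exact hconj i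
  · rw [sq, ← map_mul, QuaternionGroup.xa_mul_xa, add_sub_cancel_right]
    obtain ⟨k, hk⟩ := hm
    have h2 : QuaternionGroup.a ((m : ℕ) : ZMod (2 * m)) =
        QuaternionGroup.a ((k : ℕ) : ZMod (2 * m)) * QuaternionGroup.a ((k : ℕ) : ZMod (2 * m)) := by
      rw [QuaternionGroup.a_mul_a, ← Nat.cast_add, ← hk]
    rw [h2, map_mul, ← sq, hconj]

theorem squares_quasiDihedral {S : Type u} [Group S] [Finite S] (hS : IsQuasiDihedral S) (C : Type u) [CommGroup C]
    (f : S →* C) (s : S) : f s ^ 2 = 1 := by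
  obtain ⟨n, hn, hc, x, y, hx, hy, hxy⟩ := hS
  obtain ⟨k, hk⟩ : ∃ k, 2 ^ (n - 1) - 1 = 4 * k + 3 := by
    obtain ⟨j, rfl⟩ := Nat.exists_eq_add_of_le hn
    have h1 : 2 ^ (3 + j - 1) = 4 * 2 ^ j := by
      rw [show 3 + j - 1 = j + 2 by omega, pow_add]; ring
    have := Nat.one_le_two_pow (n := j)
    exact ⟨2 ^ j - 1, by omega⟩
  rw [hk] at hxy
  have hfy : f y ^ 2 = 1 := by rw [← map_pow, ← hy, pow_orderOf_eq_one, map_one]
  have hfx : f x ^ 2 = 1 := by
    have h1 := congrArg f hxy
    rw [map_mul, map_mul, map_inv, map_pow, mul_inv_cancel_comm, pow_succ, right_eq_mul] at h1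
    have h2 : f x ^ 2 ^ n = 1 := by rw [← map_pow, ← hx, pow_orderOf_eq_one, map_one]
    have h3 := pow_gcd_eq_one.mpr ⟨h1, h2⟩
    have hg : Nat.gcd (4 * k + 2) (2 ^ n) = 2 := by
      obtain ⟨n, rfl⟩ := Nat.exists_eq_add_of_le hn
      rw [show 4 * k + 2 = 2 * (2 * k + 1) by ring, show 2 ^ (3 + n) = 2 * 2 ^ (2 + n) by rw [← pow_succ']; ring_nf,
        Nat.gcd_mul_left, (Nat.Coprime.pow_right _ (by simp)).gcd_eq_one]
    rwa [hg] at h3
  have hgen : ∀ z ∈ zpowers x, f z ^ 2 = 1 := by
    rintro _ ⟨j, rfl⟩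
    rw [map_zpow, ← zpow_natCast, ← zpow_mul, mul_comm, zpow_mul, zpow_natCast, hfx, one_zpow]
  by_cases hs : s ∈ zpowers x
  · exact hgen s hs
  have hynot : y ∉ zpowers x := by
    rintro ⟨j, rfl⟩
    have h1 : (x ^ j : S) * x * (x ^ j)⁻¹ = x := by
      rw [(Commute.zpow_self x j).eq, mul_assoc, mul_inv_cancel, mul_one]
    have h2 : x ^ (4 * k + 2) = 1 := by
      have := hxy.symm.trans h1
      rwa [pow_succ, mul_eq_right] at this
    have h3 := orderOf_dvd_of_pow_eq_one h2
    rw [hx] at h3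
    obtain ⟨c, hc⟩ := (dvd_trans (pow_dvd_pow 2 (show 2 ≤ n by omega)) h3 : 2 ^ 2 ∣ 4 * k + 2)
    omega
  have hidx : (zpowers x).index = 2 := by
    have h := (zpowers x).card_mul_index
    rw [Nat.card_zpowers, hx, hc, pow_succ] at h
    exact Nat.eq_of_mul_eq_mul_left (by positivity) h
  have hmem : y⁻¹ * s ∈ zpowers x := by
    have := (mul_mem_iff_of_index_two hidx (a := y⁻¹) (b := s))
    simpa [hs, hynot] using this
  have := hgen _ hmem
  rw [map_mul, mul_pow, map_inv, inv_pow, hfy, inv_one, one_mul] at this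
  exact this

variable (odd : ∀ (H : Type u) [Group H] [Finite H], Odd (Nat.card H) → Group.IsSolvable H)
include odd

theorem solvable_of_complement {G : Type u} [Group G] [Finite G] (h : HasNormalPComplement 2 G) :
    Group.IsSolvable G := by
  haveI : Fact (Nat.Prime 2) := ⟨Nat.prime_two⟩
  obtain ⟨P, N, hN, hc⟩ := h
  haveI := hN
  haveI : Group.IsSolvable N := odd N (by
    rw [← hc.index_eq_card]
    exact Nat.not_even_iff_odd.mp fun he => P.not_dvd_index he.two_dvd)
  have h2 : IsPGroup 2 (G ⧸ N) := by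
    obtain ⟨k, hk⟩ := P.2.exists_card_eq
    exact IsPGroup.of_card (n := k) (by rw [← index_eq_card, hc.symm.index_eq_card, hk])
  haveI := h2.isNilpotent
  exact (Group.isSolvable_iff_subgroup_quotient N).mpr ⟨inferInstance, inferInstance⟩

theorem solvable_of_homocyclic (n : ℕ) : ∀ (G : Type u) [Group G] [Finite G], Nat.card G = n →
    ∀ (P : Sylow 2 G) (m : ℕ), 2 ≤ m → ((P : Subgroup G) ≃* Multiplicative (ZMod (2 ^ m) × ZMod (2 ^ m))) →
    Group.IsSolvable G := by
  induction n using Nat.strong_induction_on with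
  | _ n ih =>
    intro G _ _ hn P m hm e
    haveI : Fact (Nat.Prime 2) := ⟨Nat.prime_two⟩
    by_cases hO : ∀ N : Subgroup G, N.Normal → Odd (Nat.card N) → N = ⊥
    · obtain ⟨hPn, -, hidx⟩ := Cfsg.Agent.S0949.result P m hm e hO
      haveI := hPn
      haveI := P.2.isNilpotent
      refine (Group.isSolvable_iff_subgroup_quotient (P : Subgroup G)).mpr ⟨inferInstance, ?_⟩
      rcases hidx with h | h <;> rw [index_eq_card] at h
      · haveI : Subsingleton (G ⧸ (P : Subgroup G)) := (Nat.card_eq_one_iff_unique.mp h).1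
        exact Group.isSolvable_of_comm fun a b => Subsingleton.elim _ _
      · exact odd _ (by rw [h]; decide)
    · push Not at hO
      obtain ⟨N, hN, hNodd, hN1⟩ := hO
      haveI : Group.IsSolvable N := odd N hNodd
      set π := QuotientGroup.mk' N
      have hπ : Function.Surjective π := QuotientGroup.mk'_surjective N
      have hinj : Function.Injective (π.comp (P : Subgroup G).subtype) := by
        rw [injective_iff_map_eq_one]
        intro x hx
        have hxN : (x : G) ∈ N := (QuotientGroup.eq_one_iff _).mp hx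
        obtain ⟨k, hk⟩ := P.2 x
        have h1 : orderOf (x : G) ∣ 2 ^ k := by
          rw [orderOf_submonoid]; exact orderOf_dvd_of_pow_eq_one hk
        have h2 : orderOf (x : G) ∣ Nat.card N := N.orderOf_dvd_natCard hxN
        have h3 : (Nat.card N).Coprime (2 ^ k) := Nat.Coprime.pow_right _ hNodd.coprime_two_right
        exact Subtype.ext (orderOf_eq_one_iff.mp (Nat.eq_one_of_dvd_coprimes h3 h2 h1))
      have hlt : Nat.card (G ⧸ N) < n := by
        rw [← hn, card_eq_card_quotient_mul_card_subgroup N]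
        refine lt_mul_of_one_lt_right Nat.card_pos ?_
        exact one_lt_card_iff_ne_bot N |>.mpr hN1
      have hs := ih _ hlt (G ⧸ N) rfl (P.mapSurjective hπ) m hm
        ((((MonoidHom.ofInjective hinj).trans (MulEquiv.subgroupCongr (by
          rw [MonoidHom.range_comp, range_subtype]; rfl))) : (P : Subgroup G) ≃* (P.mapSurjective hπ : Subgroup (G ⧸ N))).symm.trans e)
      haveI := hs
      exact (Group.isSolvable_iff_subgroup_quotient N).mpr ⟨inferInstance, inferInstance⟩

/-- Row 4418, given the odd order theorem. -/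
theorem solvable_of_metacyclic_sylow_two {G : Type u} [Group G] [Finite G] (S : Sylow 2 G)
    (N : Subgroup (S : Subgroup G)) [N.Normal] (hNc : IsCyclic N) (hQc : IsCyclic ((S : Subgroup G) ⧸ N))
    (hQ : 2 < Nat.card ((S : Subgroup G) ⧸ N)) : Group.IsSolvable G := by
  haveI : Fact (Nat.Prime 2) := ⟨Nat.prime_two⟩
  haveI := hNc
  haveI := hQc
  by_cases hcyc : IsCyclic (S : Subgroup G)
  · exact solvable_of_complement odd (CfsgLib.HSub.hasNormalPComplement_of_cyclic (fun q hq _ => hq.two_le) S hcyc)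
  have hd : ¬ ∃ m : ℕ, Nonempty ((S : Subgroup G) ≃* DihedralGroup m) := fun ⟨m, ⟨e⟩⟩ => by
    have := card_quot_le_two (N := N) (squares_dihedral e)
    omega
  have hsd : ¬ IsQuasiDihedral (S : Subgroup G) := fun h => by
    have := card_quot_le_two (N := N) (squares_quasiDihedral h)
    omega
  have hq : ¬ ∃ m : ℕ, Nonempty ((S : Subgroup G) ≃* QuaternionGroup m) := fun ⟨m, ⟨e⟩⟩ => by
    by_cases hm : Even m
    · have := card_quot_le_two (N := N) (squares_quaternion hm e)
      omega
    · obtain ⟨k, hk⟩ := S.2.exists_card_eq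
      have hm0 : m ≠ 0 := fun h => hm (h ▸ Even.zero)
      haveI : NeZero m := ⟨hm0⟩
      rw [Nat.card_congr e.toEquiv, Nat.card_eq_fintype_card, QuaternionGroup.card] at hk
      have hd2 : m ∣ 2 ^ k := ⟨4, by omega⟩
      obtain ⟨j, -, hj⟩ := (Nat.dvd_prime_pow Nat.prime_two).mp hd2
      rcases j with _ | j
      · rw [pow_zero] at hj
        subst hj
        exact hcyc ((MulEquiv.isCyclic e).mpr QuaternionGroup.quaternionGroup_one_isCyclic)
      · exact hm (hj ▸ (Nat.even_pow.mpr ⟨even_two, Nat.succ_ne_zero j⟩))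
  by_cases hh : ∃ n k : ℕ, Nonempty ((S : Subgroup G) ≃* Multiplicative (Fin k → ZMod (2 ^ n)))
  · obtain ⟨n, k, ⟨e⟩⟩ := hh
    haveI : NeZero (2 ^ n) := ⟨by positivity⟩
    have hexp : ∀ x : (S : Subgroup G), x ^ 2 ^ n = 1 := fun x => e.injective (by
      rw [map_pow, map_one, ← toAdd_eq_zero, toAdd_pow]
      funext i
      simp)
    have hN : Nat.card N ∣ 2 ^ n := by
      obtain ⟨g, hg⟩ := IsCyclic.exists_generator (α := N)
      rw [← orderOf_eq_card_of_forall_mem_zpowers hg]
      exact orderOf_dvd_of_pow_eq_one (Subtype.ext (hexp g))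
    have hQd : Nat.card ((S : Subgroup G) ⧸ N) ∣ 2 ^ n := by
      obtain ⟨g, hg⟩ := IsCyclic.exists_generator (α := (S : Subgroup G) ⧸ N)
      rw [← orderOf_eq_card_of_forall_mem_zpowers hg]
      obtain ⟨x, rfl⟩ := QuotientGroup.mk'_surjective N g
      exact orderOf_dvd_of_pow_eq_one (by rw [← map_pow, hexp, map_one])
    have hcard : (2 ^ n) ^ k ∣ 2 ^ n * 2 ^ n := by
      have h1 : Nat.card (S : Subgroup G) = (2 ^ n) ^ k := by
        rw [Nat.card_congr e.toEquiv, Nat.card_congr Multiplicative.toAdd, Nat.card_pi]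
        simp
      rw [← h1, card_eq_card_quotient_mul_card_subgroup N]
      exact Nat.mul_dvd_mul hQd hN
    rw [← pow_mul, ← pow_add, Nat.pow_dvd_pow_iff_le_right one_lt_two] at hcard
    have hn2 : 2 ≤ n := by
      by_contra hlt
      have := Nat.le_of_dvd (by positivity) hQd
      have h2 : 2 ^ n ≤ 2 ^ 1 := Nat.pow_le_pow_right two_pos (by omega)
      omega
    rcases k with _ | _ | _ | k
    · exact absurd (isCyclic_of_surjective _ e.symm.surjective) hcyc
    · exact absurd (isCyclic_of_surjective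
        (e.symm.toMonoidHom.comp (AddEquiv.piUnique fun _ : Fin 1 => ZMod (2 ^ n)).symm.toMultiplicative.toMonoidHom)
        (e.symm.surjective.comp (AddEquiv.piUnique fun _ : Fin 1 => ZMod (2 ^ n)).symm.toMultiplicative.surjective)) hcyc
    · exact solvable_of_homocyclic odd _ G rfl S n hn2
        (e.trans (LinearEquiv.finTwoArrow ℤ (ZMod (2 ^ n))).toAddEquiv.toMultiplicative)
    · exfalso
      nlinarith
  refine solvable_of_complement odd (CfsgLib.Transfer.hasNormalPComplement_of_control S ?_)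
  intro x hx g hg
  have hF := Cfsg.Agent.S5212.result S.2 (groupFusionSystem (S : Subgroup G))
    (FusionSystem.groupFusionSystem_isSaturated S) ⟨N, inferInstance, hNc, hQc⟩ hh hd hq hsd (zpowers x)
  have hP : zpowers x ≤ (S : Subgroup G) := by rwa [zpowers_le]
  let φ : zpowers x →* G := (MulAut.conj g).toMonoidHom.comp (zpowers x).subtype
  have hφS : ∀ y : zpowers x, φ y ∈ (S : Subgroup G) := by
    rintro ⟨y, j, rfl⟩
    show g * x ^ j * g⁻¹ ∈ _
    rw [← conj_zpow]
    exact zpow_mem hg j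
  have hφ : φ ∈ (groupFusionSystem (S : Subgroup G)).Hom (zpowers x) := ⟨hP, hφS, g, fun _ => rfl⟩
  rw [hF] at hφ
  obtain ⟨-, a, ha, hae⟩ := hφ
  exact ⟨a, ha, (hae ⟨x, mem_zpowers x⟩).symm⟩

end CfsgLib.AfterFT.Metacyclic
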