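import Cfsg.Agent.Lib.JordanCover
import Cfsg.Agent.Lib.ZStar.Main

/-!
Row 4167 given the odd order theorem: if no class size is divisible by 4, the group is soluble.
Squares of 2-elements are central since every element commutes with a conjugate of each of them; with an
elementary abelian Sylow 2-subgroup the product of a class of involutions in it is isolated.
-/

set_option autoImplicit false
set_option linter.style.haveILetI false

namespace CfsgLib.AfterFT

open Cfsg Subgroup
open scoped Pointwise

universe u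
variable {G : Type u} [Group G] [Finite G]

/-- Every element commutes with an index `≤ 2` subgroup of some Sylow 2-subgroup. -/
theorem exists_sylow_centralizing (h : ∀ x : G, ¬ 4 ∣ (centralizer ({x} : Set G)).index) (T : Sylow 2 G) (x : G) :
    ∃ (g : G) (H : Subgroup G), H ≤ T ∧ H.relIndex (T : Subgroup G) ∣ 2 ∧ ∀ y ∈ H, Commute x (g * y * g⁻¹) := by
  classical
  haveI : Fact (Nat.Prime 2) := ⟨Nat.prime_two⟩
  set C := centralizer ({x} : Set G) with hC
  obtain ⟨R⟩ : Nonempty (Sylow 2 C) := inferInstance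
  set R' := (R : Subgroup C).map C.subtype with hR'
  obtain ⟨T', hT'⟩ := (R.2.map C.subtype).exists_le_sylow
  obtain ⟨g, hg⟩ := MulAction.exists_smul_eq G T T'
  have hconj : (T : Subgroup G).map (MulAut.conj g).toMonoidHom = T' := by
    rw [← hg, Sylow.coe_subgroup_smul]; rfl
  refine ⟨g, R'.comap (MulAut.conj g).toMonoidHom, ?_, ?_, fun y hy => ?_⟩
  · intro y hy
    obtain ⟨z, hz, he⟩ : (MulAut.conj g).toMonoidHom y ∈ (T : Subgroup G).map (MulAut.conj g).toMonoidHom :=
      hconj.symm ▸ hT' hy
    exact (MulAut.conj g).injective he ▸ hz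
  · rw [Subgroup.relIndex_comap, hconj]
    obtain ⟨a, ha⟩ := IsPGroup.iff_card.mp (R.2.map C.subtype)
    obtain ⟨b, hb⟩ := IsPGroup.iff_card.mp T'.2
    have hmul := Subgroup.relIndex_mul_index hT'
    have hRi : R'.index = (R : Subgroup C).index * C.index := Subgroup.index_map_subtype _
    have hodd : ¬ 2 ∣ (R : Subgroup C).index := R.not_dvd_index
    have h4 : ¬ 4 ∣ R'.index := fun h' => h x (by
      rw [hRi] at h'
      exact (Nat.Coprime.pow_left 2 (Nat.prime_two.coprime_iff_not_dvd.mpr hodd)).dvd_of_dvd_mul_left h')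
    have hdvd : R'.relIndex (T' : Subgroup G) ∣ R'.index := ⟨_, hmul.symm⟩
    obtain ⟨c, -, hc⟩ := (Nat.dvd_prime_pow Nat.prime_two).mp (hb ▸ Subgroup.relIndex_dvd_card R' (T' : Subgroup G))
    rw [hc]
    rcases c with _ | _ | c
    · norm_num
    · norm_num
    · exact absurd ((Dvd.intro (2 ^ c) (by rw [hc]; ring)).trans hdvd) h4
  · obtain ⟨z, hz, he⟩ := hy
    have hzC : (z : G) ∈ C := z.2
    rw [show g * y * g⁻¹ = (z : G) from he.symm]
    exact (Subgroup.mem_centralizer_singleton_iff.mp hzC).symm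

/-- An element commuting with a conjugate of everything is central. -/
theorem mem_center_of_forall_commute {z : G} (h : ∀ x : G, ∃ g : G, Commute x (g * z * g⁻¹)) : z ∈ center G := by
  have := CfsgLib.eq_top_of_conj_cover (centralizer ({z} : Set G)) fun x => by
    obtain ⟨g, hg⟩ := h x
    refine ⟨g⁻¹, Subgroup.mem_centralizer_singleton_iff.mpr ?_⟩
    calc g⁻¹ * x * g⁻¹⁻¹ * z = g⁻¹ * (x * (g * z * g⁻¹)) * g := by group
      _ = g⁻¹ * ((g * z * g⁻¹) * x) * g := by rw [hg.eq]
      _ = z * (g⁻¹ * x * g⁻¹⁻¹) := by group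
  exact Subgroup.mem_center_iff.mpr fun y =>
    Subgroup.mem_centralizer_singleton_iff.mp (this.ge (Subgroup.mem_top y))

theorem sq_mem_center (h : ∀ x : G, ¬ 4 ∣ (centralizer ({x} : Set G)).index) (T : Sylow 2 G) {y : G} (hy : y ∈ (T : Subgroup G)) :
    y * y ∈ center G := mem_center_of_forall_commute fun x => by
  obtain ⟨g, H, -, hHi, hH⟩ := exists_sylow_centralizing h T x
  refine ⟨g, hH _ ?_⟩
  rcases (Nat.dvd_prime Nat.prime_two).mp hHi with e | e
  · exact Subgroup.relIndex_eq_one.mp e ((T : Subgroup G).mul_mem hy hy)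
  · exact Subgroup.mul_self_mem_of_index_two (H := H.subgroupOf (T : Subgroup G)) e ⟨y, hy⟩

/-- A non-abelian simple group of even order has a class size divisible by 4. -/
theorem simple_false [IsSimpleGroup G] (hna : ¬ IsMulCommutative G) (heven : Even (Nat.card G))
    (h : ∀ x : G, ¬ 4 ∣ (centralizer ({x} : Set G)).index) : False := by
  classical
  haveI : Fact (Nat.Prime 2) := ⟨Nat.prime_two⟩
  have hcen : center G = ⊥ := (inferInstance : (center G).Normal).eq_bot_or_eq_top.resolve_right fun e =>
    hna ⟨⟨fun a b => Subgroup.mem_center_iff.mp (e.ge (Subgroup.mem_top b)) a⟩⟩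
  obtain ⟨T⟩ : Nonempty (Sylow 2 G) := inferInstance
  have hsq : ∀ y ∈ (T : Subgroup G), y * y = 1 := fun y hy => by
    simpa [hcen] using sq_mem_center h T hy
  have hab : ∀ a ∈ (T : Subgroup G), ∀ b ∈ (T : Subgroup G), a * b = b * a := fun a ha b hb => by
    have h1 := hsq _ ((T : Subgroup G).mul_mem ha hb)
    calc a * b = (a * b)⁻¹ := (inv_eq_of_mul_eq_one_right h1).symm
      _ = b⁻¹ * a⁻¹ := mul_inv_rev a b
      _ = b * a := by rw [inv_eq_of_mul_eq_one_right (hsq a ha), inv_eq_of_mul_eq_one_right (hsq b hb)]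
  haveI : IsMulCommutative (T : Subgroup G) := ⟨⟨fun a b => Subtype.ext (hab a a.2 b b.2)⟩⟩
  obtain ⟨z0, hz0⟩ := exists_prime_orderOf_dvd_card' (G := (T : Subgroup G)) 2
    (T.dvd_card_of_dvd_card heven.two_dvd)
  set z : G := (z0 : G) with hzdef
  have hz : orderOf z = 2 := by rw [hzdef, Subgroup.orderOf_coe, hz0]
  have hzT : z ∈ (T : Subgroup G) := z0.2
  have hz1 : z ≠ 1 := fun e => by rw [e, orderOf_one] at hz; omega
  obtain ⟨x, hx⟩ : ∃ x : G, ∀ g : G, ¬ Commute x (g * z * g⁻¹) := by
    by_contra hc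
    push Not at hc
    have := mem_center_of_forall_commute hc
    rw [hcen, Subgroup.mem_bot] at this
    exact hz1 this
  obtain ⟨g, H, hHT, hHi, hH⟩ := exists_sylow_centralizing h T x
  have hnot : ∀ k : G, k * z * k⁻¹ ∉ H := fun k hk => hx (g * k) (by
    have := hH _ hk
    rwa [show g * (k * z * k⁻¹) * g⁻¹ = g * k * z * (g * k)⁻¹ by group] at this)
  have hi2 : H.relIndex (T : Subgroup G) = 2 := ((Nat.dvd_prime Nat.prime_two).mp hHi).resolve_left fun e =>
    hnot 1 (by simpa using Subgroup.relIndex_eq_one.mp e hzT)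
  -- the class of `z` inside `T`
  haveI : Fintype G := Fintype.ofFinite G
  let T0 : Subgroup G := T
  let O : Finset T0 := Finset.univ.filter fun y : T0 => ∃ k : G, k * z * k⁻¹ = y
  let cT : CommGroup T0 := { (inferInstance : Group T0) with mul_comm := fun a b => Subtype.ext (hab a a.2 b b.2) }
  letI := cT
  set s : T0 := ∏ y ∈ O, y with hs
  -- `|O|` is odd: fixed points of `T` on the class of `z`
  have hOodd : Odd O.card := by
    have hcls : Nat.card (ConjAct.toConjAct z |> fun _ => MulAction.orbit (ConjAct G) z) = (centralizer ({z} : Set G)).index := by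
      rw [Nat.card_congr (MulAction.orbitEquivQuotientStabilizer (ConjAct G) z)]
      rw [ConjAct.stabilizer_eq_centralizer]
      rfl
    have hTC : (T : Subgroup G) ≤ centralizer ({z} : Set G) := fun t ht =>
      Subgroup.mem_centralizer_singleton_iff.mpr (hab t ht z hzT)
    have hidx : ¬ 2 ∣ (centralizer ({z} : Set G)).index := fun hd =>
      T.not_dvd_index (hd.trans (Subgroup.index_dvd_of_le hTC))
    letI act : MulAction T0 (MulAction.orbit (ConjAct G) z) :=
      MulAction.compHom _ (ConjAct.toConjAct.toMonoidHom.comp T0.subtype)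
    have hmod := IsPGroup.card_modEq_card_fixedPoints (p := 2) T.2 (MulAction.orbit (ConjAct G) z)
    have hfix : Nat.card (MulAction.fixedPoints T0 (MulAction.orbit (ConjAct G) z)) = O.card := by
      rw [← Nat.card_eq_finsetCard O]
      have hmemT : ∀ w : MulAction.fixedPoints T0 (MulAction.orbit (ConjAct G) z), ((w.1 : G)) ∈ T0 := by
        rintro ⟨⟨w, hw⟩, hfw⟩
        have hc : ∀ t ∈ T0, t * w = w * t := fun t ht => by
          have h1 := congrArg Subtype.val (hfw ⟨t, ht⟩)
          change ConjAct.toConjAct t • w = w at h1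
          rwa [ConjAct.toConjAct_smul, mul_inv_eq_iff_eq_mul] at h1
        obtain ⟨c, rfl⟩ := hw
        have hpw : IsPGroup 2 (zpowers (c • z)) := IsPGroup.of_card (n := 1) (by
          rw [Nat.card_zpowers, pow_one, ConjAct.smul_def]
          exact (MulEquiv.orderOf_eq (MulAut.conj (ConjAct.ofConjAct c)) z).trans hz)
        have hsup : IsPGroup 2 ↥(T0 ⊔ zpowers (c • z)) := by
          rw [sup_comm]
          refine IsPGroup.to_sup_of_normal_right' hpw T.2 (zpowers_le.mpr ?_)
          exact centralizer_le_normalizer _ (Subgroup.mem_centralizer_iff.mpr fun t ht => hc t ht)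
        exact (T.3 hsup le_sup_left).le (mem_sup_right (mem_zpowers _))
      refine Nat.card_congr ⟨fun w => ⟨⟨w.1.1, hmemT w⟩, ?_⟩, fun y => ⟨⟨y.1.1, ?_⟩, fun t => ?_⟩, fun w => ?_, fun y => ?_⟩
      · obtain ⟨c, hc⟩ := w.1.2
        exact Finset.mem_filter.mpr ⟨Finset.mem_univ _, ConjAct.ofConjAct c, hc⟩
      · obtain ⟨k, hk⟩ := (Finset.mem_filter.mp y.2).2
        exact ⟨ConjAct.toConjAct k, hk⟩
      · refine Subtype.ext ?_
        show ConjAct.toConjAct (t : G) • (y.1.1 : G) = _
        rw [ConjAct.toConjAct_smul, hab t t.2 _ y.1.2, mul_inv_cancel_right]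
      · rfl
      · rfl
    rw [hfix] at hmod
    have hcls' : Nat.card (MulAction.orbit (ConjAct G) z) = (centralizer ({z} : Set G)).index := hcls
    rw [hcls'] at hmod
    rw [Nat.odd_iff]
    have := Nat.two_dvd_ne_zero.mp hidx
    unfold Nat.ModEq at hmod
    omega
  -- `s` is outside `H`
  have hsH : (s : G) ∉ H := by
    set H' := H.subgroupOf (T : Subgroup G) with hH'
    have hmul : ∀ a b : T0, (a * b ∈ H' ↔ (a ∈ H' ↔ b ∈ H')) := fun a b => Subgroup.mul_mem_iff_of_index_two hi2
    suffices hp : ∀ A : Finset T0, (∀ y ∈ A, y ∉ H') → ((∏ y ∈ A, y) ∈ H' ↔ Even A.card) by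
      intro hmem
      exact Nat.not_even_iff_odd.mpr hOodd ((hp O (fun y hy hyH => by
        obtain ⟨k, hk⟩ := (Finset.mem_filter.mp hy).2
        exact hnot k (hk ▸ hyH))).mp hmem)
    intro A
    induction A using Finset.induction_on with
    | empty => intro _; simp [H'.one_mem]
    | insert a A ha ih =>
      intro hA
      rw [Finset.prod_insert ha, Finset.card_insert_of_notMem ha, hmul, Nat.even_add_one]
      have h1 := ih fun y hy => hA y (Finset.mem_insert_of_mem hy)
      have h2 := hA a (Finset.mem_insert_self a A)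
      tauto
  have hs1 : (s : G) ≠ 1 := fun e => hsH (e ▸ H.one_mem)
  have hs2 : orderOf (s : G) = 2 := orderOf_eq_prime (by rw [pow_two]; exact hsq _ s.2) hs1
  -- `s` is isolated
  have hiso : IsIsolated (s : G) := by
    refine CfsgLib.ZStar.isolated_of_sylow T hs2 s.2 fun k hk => ?_
    obtain ⟨n, hn, he⟩ := Sylow.conj_eq_normalizer_conj_of_mem T (s : G) k⁻¹ s.2 (by simpa using hk)
    rw [inv_inv] at he
    rw [he]
    let σ : T0 ≃* T0 :=
      { toFun := fun y => ⟨n⁻¹ * y * n, by simpa using (Subgroup.mem_normalizer_iff.mp (Subgroup.inv_mem _ hn) _).mp y.2⟩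
        invFun := fun y => ⟨n * y * n⁻¹, (Subgroup.mem_normalizer_iff.mp hn _).mp y.2⟩
        left_inv := fun y => Subtype.ext (by simp [mul_assoc])
        right_inv := fun y => Subtype.ext (by simp [mul_assoc])
        map_mul' := fun y y' => Subtype.ext (by simp [mul_assoc]) }
    refine congrArg Subtype.val (show σ s = s from ?_)
    rw [hs, map_prod]
    refine Finset.prod_equiv σ.toEquiv (fun y => ?_) (fun y _ => rfl)
    simp only [O, Finset.mem_filter, Finset.mem_univ, true_and]
    constructor
    · rintro ⟨m, hm⟩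
      exact ⟨n⁻¹ * m, by show _ = n⁻¹ * (y : G) * n; rw [← hm]; group⟩
    · rintro ⟨m, hm⟩
      exact ⟨n * m, by
        have hm' : m * z * m⁻¹ = n⁻¹ * (y : G) * n := hm
        rw [show n * m * z * (n * m)⁻¹ = n * (m * z * m⁻¹) * n⁻¹ by group, hm']; group⟩
  have hO : pPrimeCore 2 G = ⊥ := by
    refine sSup_eq_bot.mpr ?_
    rintro N ⟨hN, hc⟩
    refine (hN.eq_bot_or_eq_top).resolve_right fun e => ?_
    rw [e, Subgroup.card_top] at hc
    exact absurd (Nat.coprime_two_right.mp hc) (Nat.not_odd_iff_even.mpr heven)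
  have : (s : G) ∈ center G := Subgroup.mem_center_iff.mpr fun k => by
    have h' := CfsgLib.ZStar.inZStar hs2 hiso k
    rw [hO, Subgroup.mem_bot, mul_inv_eq_one, mul_inv_eq_iff_eq_mul] at h'
    exact h'
  rw [hcen, Subgroup.mem_bot] at this
  exact hs1 this

omit [Finite G] in
theorem centralizer_index_quotient (N : Subgroup G) [N.Normal] (x : G) :
    (centralizer ({(x : G ⧸ N)} : Set (G ⧸ N))).index ∣ (centralizer ({x} : Set G)).index := by
  refine dvd_trans (Subgroup.index_dvd_of_le ?_)
    (Subgroup.index_map_dvd (f := QuotientGroup.mk' N) (centralizer ({x} : Set G)) (QuotientGroup.mk'_surjective N))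
  rintro _ ⟨c, hc, rfl⟩
  refine Subgroup.mem_centralizer_singleton_iff.mpr ?_
  show (QuotientGroup.mk' N) c * (QuotientGroup.mk' N) x = (QuotientGroup.mk' N) x * (QuotientGroup.mk' N) c
  rw [← map_mul, ← map_mul, Subgroup.mem_centralizer_singleton_iff.mp hc]

theorem relIndex_dvd_index_of_normal_right (C N : Subgroup G) [N.Normal] : C.relIndex N ∣ C.index := by
  obtain ⟨b, hb⟩ := Subgroup.relIndex_dvd_index_of_normal (H := N) (K := C)
  have h1 := Subgroup.relIndex_mul_index (inf_le_left : C ⊓ N ≤ C)
  have h2 := Subgroup.relIndex_mul_index (inf_le_right : C ⊓ N ≤ N)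
  rw [Subgroup.inf_relIndex_left] at h1
  rw [Subgroup.inf_relIndex_right] at h2
  have hpos : 0 < N.relIndex C := Nat.pos_of_ne_zero Subgroup.FiniteIndex.index_ne_zero
  refine ⟨b, Nat.eq_of_mul_eq_mul_left hpos ?_⟩
  rw [h1, ← h2, hb]; ring

omit [Finite G] in
/-- Row 4167 given the odd order theorem. -/
theorem solvable_of_no_four_dvd (odd : ∀ (H : Type u) [Group H] [Finite H], Odd (Nat.card H) → Group.IsSolvable H) :
    ∀ (n : ℕ) (G : Type u) [Group G] [Finite G], Nat.card G = n →
      (∀ x : G, ¬ 4 ∣ (centralizer ({x} : Set G)).index) → Group.IsSolvable G := by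
  intro n
  induction n using Nat.strong_induction_on with
  | _ n ih =>
  intro G _ _ hn h
  classical
  rcases subsingleton_or_nontrivial G with hs | hs
  · infer_instance
  by_cases hsim : ∃ N : Subgroup G, N.Normal ∧ N ≠ ⊥ ∧ N ≠ ⊤
  · obtain ⟨N, hN, hNb, hNt⟩ := hsim
    haveI := hN
    haveI hNs : Group.IsSolvable N := by
      refine ih _ ?_ N rfl fun x h4 => h x.1 (h4.trans ?_)
      · rw [← hn, ← Subgroup.card_top (G := G)]
        exact Set.Finite.card_lt_card (Set.toFinite _) hNt.lt_top
      · have e : centralizer ({x} : Set N) = (centralizer ({(x : G)} : Set G)).subgroupOf N := by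
          ext y
          rw [Subgroup.mem_subgroupOf, Subgroup.mem_centralizer_singleton_iff, Subgroup.mem_centralizer_singleton_iff,
            Subtype.ext_iff, Subgroup.coe_mul, Subgroup.coe_mul]
        rw [e]
        exact relIndex_dvd_index_of_normal_right _ _
    haveI : Group.IsSolvable (G ⧸ N) := by
      refine ih _ ?_ (G ⧸ N) rfl fun q => ?_
      · rw [← hn, ← Subgroup.index_eq_card, ← Subgroup.card_mul_index N]
        exact lt_mul_left (Nat.pos_of_ne_zero Subgroup.FiniteIndex.index_ne_zero)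
          (by
            have : Nat.card N ≠ 1 := fun e => hNb (Subgroup.eq_bot_of_card_eq N e)
            have := Nat.card_pos (α := N)
            omega)
      · obtain ⟨x, rfl⟩ := QuotientGroup.mk'_surjective N q
        exact fun h4 => h x (h4.trans (centralizer_index_quotient N x))
    exact Group.isSolvable_of_ker_le_range N.subtype (QuotientGroup.mk' N)
      (by rw [QuotientGroup.ker_mk', Subgroup.range_subtype])
  · haveI : IsSimpleGroup G := ⟨fun N hN => by
      by_contra hc
      exact hsim ⟨N, hN, fun e => hc (Or.inl e), fun e => hc (Or.inr e)⟩⟩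
    by_cases hab : IsMulCommutative G
    · exact Group.isSolvable_of_comm fun a b => hab.is_comm.comm a b
    · rcases Nat.even_or_odd (Nat.card G) with he | ho
      · exact (simple_false hab he h).elim
      · exact odd G ho

end CfsgLib.AfterFT
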