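/-
Odd centralizers of `p`-elements in a transitive group of degree `p ^ r`: the elementary part.
-/
import Cfsg.Agent.S0018
import Cfsg.Agent.S0205
import Cfsg.Agent.Lib.Coprime
import Cfsg.Agent.Lib.Blocks.DefectZeroCount
import Cfsg.Prelude.Def_Local
import Mathlib.GroupTheory.GroupAction.Blocks
import Mathlib.GroupTheory.FixedPointFree

set_option autoImplicit false

namespace CfsgLib.OddCentTransitive

open Cfsg MulAction

universe u v

variable {G : Type u} [Group G] {Ω : Type v} [MulAction G Ω]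

/-- Two involutions with product of odd order are conjugate inside the group their product generates. -/
theorem conj_of_odd {a b : G} (ha : a * a = 1) (hb : b * b = 1) (ho : Odd (orderOf (b * a))) :
    ∃ d ∈ Subgroup.zpowers (b * a), d * a * d⁻¹ = b := by
  obtain ⟨m, hm⟩ := ho
  set y := b * a with hy
  have hainv : a⁻¹ = a := inv_eq_of_mul_eq_one_right ha
  have hbinv : b⁻¹ = b := inv_eq_of_mul_eq_one_right hb
  have h1 : a * y * a⁻¹ = y⁻¹ := by
    rw [hy, mul_inv_rev, hainv, hbinv, mul_assoc, mul_assoc b, ha, mul_one]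
  refine ⟨y ^ (m + 1), Subgroup.pow_mem _ (Subgroup.mem_zpowers y) _, ?_⟩
  have h2 : a * (y ^ (m + 1))⁻¹ * a⁻¹ = y ^ (m + 1) := by
    rw [show a * (y ^ (m + 1))⁻¹ * a⁻¹ = (a * y ^ (m + 1) * a⁻¹)⁻¹ by group, ← conj_pow, h1,
      inv_pow, inv_inv]
  calc y ^ (m + 1) * a * (y ^ (m + 1))⁻¹
      = y ^ (m + 1) * (a * (y ^ (m + 1))⁻¹ * a⁻¹) * a := by group
    _ = y ^ (m + 1) * y ^ (m + 1) * a := by rw [h2]
    _ = y ^ (orderOf y + 1) * a := by rw [← pow_add]; congr 2; omega
    _ = b := by rw [pow_succ, pow_orderOf_eq_one, one_mul, hy, mul_assoc, ha, mul_one]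

theorem sq_of_orderOf_two {t : G} (ht : orderOf t = 2) : t * t = 1 := by
  have := pow_orderOf_eq_one t
  rwa [ht, pow_two] at this

theorem orderOf_two {t : G} (h1 : t ≠ 1) (h : t * t = 1) : orderOf t = 2 :=
  orderOf_eq_prime (by rw [pow_two]; exact h) h1

theorem eq_one_of_sq_eq_one_of_odd {z : G} (ho : Odd (orderOf z)) (h : z * z = 1) : z = 1 := by
  have hd : orderOf z ∣ 2 := orderOf_dvd_of_pow_eq_one (by rw [pow_two]; exact h)
  rcases (Nat.dvd_prime Nat.prime_two).mp hd with h1 | h1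
  · exact orderOf_eq_one_iff.mp h1
  · rw [h1] at ho; exact absurd ho (by decide)

/-- A fixed-point-free involutive automorphism inverts everything. -/
theorem inverts_of_fpf [Finite G] {u : G} (hu : u * u = 1) (P : Subgroup G)
    (hn : ∀ x ∈ P, u * x * u⁻¹ ∈ P) (hf : ∀ x ∈ P, u * x * u⁻¹ = x → x = 1) :
    ∀ x ∈ P, u * x * u⁻¹ = x⁻¹ := by
  let φ : P →* P :=
    { toFun := fun x => ⟨u * x * u⁻¹, hn x x.2⟩
      map_one' := Subtype.ext (by simp)
      map_mul' := fun x y => Subtype.ext (by simp [mul_assoc]) }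
  have hfpf : MonoidHom.FixedPointFree φ := fun x hx =>
    Subtype.ext (hf x x.2 (congrArg Subtype.val hx))
  have hinvo : Function.Involutive φ := fun x => Subtype.ext (by
    show u * (u * x * u⁻¹) * u⁻¹ = (x : G)
    rw [show u * (u * (x : G) * u⁻¹) * u⁻¹ = (u * u) * x * (u * u)⁻¹ by group, hu]
    simp)
  exact fun x hx => congrArg Subtype.val (congrFun (hfpf.coe_eq_inv_of_involutive hinvo) ⟨x, hx⟩)

section Transitive

variable [Finite G] [FaithfulSMul G Ω] [Fintype Ω] {p : ℕ} [Fact p.Prime] {r : ℕ}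

/-- An abelian Sylow subgroup of a transitive group of degree `p ^ r` is regular. -/
theorem sylow_regular [IsPretransitive G Ω] (hΩ : Fintype.card Ω = p ^ r) (P : Sylow p G)
    (hab : ∀ x ∈ (P : Subgroup G), ∀ y ∈ (P : Subgroup G), x * y = y * x) :
    (∀ ω ω' : Ω, ∃ z ∈ (P : Subgroup G), z • ω = ω') ∧
      (∀ z ∈ (P : Subgroup G), ∀ ω : Ω, z • ω = ω → z = 1) := by
  have hp : p.Prime := Fact.out
  have htrans : ∀ ω ω' : Ω, ∃ z ∈ (P : Subgroup G), z • ω = ω' := by
    intro ω ω'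
    set S := stabilizer G ω with hS
    have hidx : S.index = p ^ r := by
      rw [hS, index_stabilizer_of_transitive G ω, Nat.card_eq_fintype_card, hΩ]
    have hdvd : p ^ r ∣ S.relIndex (P : Subgroup G) * (P : Subgroup G).index := by
      rw [← Subgroup.inf_relIndex_right, Subgroup.relIndex_mul_index inf_le_right, ← hidx]
      exact Subgroup.index_dvd_of_le inf_le_left
    have hd2 : p ^ r ∣ S.relIndex (P : Subgroup G) :=
      ((hp.coprime_iff_not_dvd.mpr P.not_dvd_index).pow_left r).dvd_of_dvd_mul_right hdvd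
    have horb : S.relIndex (P : Subgroup G) = (orbit (P : Subgroup G) ω).ncard := by
      rw [← index_stabilizer, Subgroup.relIndex]
      congr 1
    have huniv : orbit (P : Subgroup G) ω = Set.univ := by
      refine Set.eq_of_subset_of_ncard_le (Set.subset_univ _) ?_
      rw [Set.ncard_univ, Nat.card_eq_fintype_card, hΩ, ← horb]
      exact Nat.le_of_dvd (by rw [horb]; exact (Set.ncard_pos).mpr ⟨ω, mem_orbit_self ω⟩) hd2
    obtain ⟨z, hz⟩ : ω' ∈ orbit (P : Subgroup G) ω := by rw [huniv]; trivial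
    exact ⟨z, z.2, hz⟩
  refine ⟨htrans, fun z hz ω hω => ?_⟩
  refine eq_of_smul_eq_smul (α := Ω) fun ω' => ?_
  obtain ⟨w, hw, rfl⟩ := htrans ω ω'
  rw [one_smul, ← mul_smul, hab z hz w hw, mul_smul, hω]

theorem centralizer_sylow [IsPretransitive G Ω] [Nonempty Ω] (hΩ : Fintype.card Ω = p ^ r)
    (P : Sylow p G) (hab : ∀ x ∈ (P : Subgroup G), ∀ y ∈ (P : Subgroup G), x * y = y * x)
    {c : G} (hc : ∀ x ∈ (P : Subgroup G), c * x = x * c) : c ∈ (P : Subgroup G) := by
  obtain ⟨htrans, -⟩ := sylow_regular hΩ P hab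
  let ω : Ω := Classical.arbitrary Ω
  obtain ⟨z, hz, hzω⟩ := htrans ω (c • ω)
  suffices c = z from this ▸ hz
  refine eq_of_smul_eq_smul (α := Ω) fun ω' => ?_
  obtain ⟨w, hw, rfl⟩ := htrans ω ω'
  rw [← mul_smul, ← mul_smul, hc w hw, hab z hz w hw, mul_smul, mul_smul, hzω]

/-- A `p`-element fixing a point is trivial. -/
theorem pElement_fix [IsPretransitive G Ω] (hΩ : Fintype.card Ω = p ^ r)
    (hab : ∀ P : Sylow p G, ∀ x ∈ (P : Subgroup G), ∀ y ∈ (P : Subgroup G), x * y = y * x)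
    {x : G} (hx : ∃ k : ℕ, orderOf x = p ^ k) {ω : Ω} (hω : x • ω = ω) : x = 1 := by
  obtain ⟨k, hk⟩ := hx
  obtain ⟨P, hP⟩ := (IsPGroup.of_card (p := p) (n := k)
    (by rw [Nat.card_zpowers, hk]) : IsPGroup p (Subgroup.zpowers x)).exists_le_sylow
  exact (sylow_regular hΩ P (hab P)).2 x (hP (Subgroup.mem_zpowers x)) ω hω

/-- An involution inverting a regular Sylow subgroup has exactly one fixed point. -/
theorem fix_unique [IsPretransitive G Ω] [Nonempty Ω] (hΩ : Fintype.card Ω = p ^ r) (hp2 : p ≠ 2)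
    (P : Sylow p G) (hab : ∀ x ∈ (P : Subgroup G), ∀ y ∈ (P : Subgroup G), x * y = y * x)
    {t : G} (hinv : ∀ x ∈ (P : Subgroup G), t * x * t⁻¹ = x⁻¹) :
    ∃ ω : Ω, t • ω = ω ∧ ∀ ω', t • ω' = ω' → ω' = ω := by
  have hp : p.Prime := Fact.out
  obtain ⟨htrans, hfree⟩ := sylow_regular hΩ P hab
  have hodd : ∀ x ∈ (P : Subgroup G), Odd (orderOf x) := by
    intro x hx
    obtain ⟨k, hk⟩ := IsPGroup.iff_orderOf.mp P.2 ⟨x, hx⟩
    rw [← Subgroup.orderOf_coe] at hk
    rw [hk]; exact (hp.odd_of_ne_two hp2).pow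
  have hmove : ∀ x ∈ (P : Subgroup G), ∀ ω : Ω, t • x • ω = x⁻¹ • t • ω := by
    intro x hx ω
    rw [← mul_smul, ← mul_smul, ← hinv x hx, inv_mul_cancel_right]
  let ω₀ : Ω := Classical.arbitrary Ω
  obtain ⟨a, ha, haω⟩ := htrans ω₀ (t • ω₀)
  obtain ⟨k, hk⟩ := hodd a ha
  set z := a ^ (k + 1) with hz
  have hzP : z ∈ (P : Subgroup G) := Subgroup.pow_mem _ ha _
  have hzz : z * z = a := by
    rw [hz, ← pow_add, show k + 1 + (k + 1) = orderOf a + 1 by omega, pow_succ, pow_orderOf_eq_one,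
      one_mul]
  have hfix : t • z • ω₀ = z • ω₀ := by
    rw [hmove z hzP, ← haω, ← mul_smul, ← hzz, inv_mul_cancel_left]
  refine ⟨z • ω₀, hfix, fun ω' hω' => ?_⟩
  obtain ⟨w, hw, rfl⟩ := htrans (z • ω₀) ω'
  rw [hmove w hw, hfix] at hω'
  have : w = 1 := eq_one_of_sq_eq_one_of_odd (hodd w hw) (hfree _ (mul_mem hw hw) (z • ω₀) (by
    rw [mul_smul, ← hω', smul_inv_smul]))
  rw [this, one_smul]

end Transitive

/-- Involutions with different fixed points have product of odd order. -/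
theorem odd_of_fix_ne [Finite G]
    (hfix : ∀ s : G, orderOf s = 2 → ∃ ω : Ω, s • ω = ω ∧ ∀ ω', s • ω' = ω' → ω' = ω)
    {a b : G} (ha : orderOf a = 2) (hb : orderOf b = 2) {α β : Ω} (haα : a • α = α)
    (hbβ : b • β = β) (hne : α ≠ β) : Odd (orderOf (b * a)) := by
  by_contra hev
  rw [Nat.not_odd_iff_even] at hev
  obtain ⟨k, hk⟩ := hev
  set y := b * a with hy
  have haa := sq_of_orderOf_two ha
  have hbb := sq_of_orderOf_two hb
  have hainv : a⁻¹ = a := inv_eq_of_mul_eq_one_right haa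
  have hbinv : b⁻¹ = b := inv_eq_of_mul_eq_one_right hbb
  have hk0 : 0 < k := by have := orderOf_pos y; omega
  set w := y ^ k with hw
  have hw1 : w ≠ 1 := fun h => by
    have := Nat.le_of_dvd hk0 (orderOf_dvd_of_pow_eq_one h)
    omega
  have hww : w * w = 1 := by rw [hw, ← pow_add, ← hk, pow_orderOf_eq_one]
  have hwinv : w⁻¹ = w := inv_eq_of_mul_eq_one_right hww
  have hya : a * y * a⁻¹ = y⁻¹ := by
    rw [hy, mul_inv_rev, hainv, hbinv, mul_assoc, mul_assoc b, haa, mul_one]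
  have hwa : a * w = w * a := by
    have : a * w * a⁻¹ = w := by rw [hw, ← conj_pow, hya, inv_pow, ← hw, hwinv]
    exact (mul_inv_eq_iff_eq_mul.mp this)
  have hwy : y * w = w * y := (Commute.self_pow y k).eq
  have hwb : b * w = w * b := by
    have hb' : b = y * a := by rw [hy, mul_assoc, haa, mul_one]
    rw [hb', mul_assoc, hwa, ← mul_assoc, hwy, mul_assoc]
  obtain ⟨γ, hγ, huniq⟩ := hfix w (orderOf_two hw1 hww)
  have haγ : a • γ = γ := huniq _ (by rw [← mul_smul, ← hwa, mul_smul, hγ])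
  have hbγ : b • γ = γ := huniq _ (by rw [← mul_smul, ← hwb, mul_smul, hγ])
  obtain ⟨ωa, -, hua⟩ := hfix a ha
  obtain ⟨ωb, -, hub⟩ := hfix b hb
  exact hne ((hua α haα).trans ((hua γ haγ).symm.trans ((hub γ hbγ).trans (hub β hbβ).symm)))

/-- The fibers of the fixed point map are singletons. -/
theorem involution_eq_of_fix [Finite G] [FaithfulSMul G Ω] [Fintype Ω] [IsPretransitive G Ω]
    (hfix : ∀ s : G, orderOf s = 2 → ∃ ω : Ω, s • ω = ω ∧ ∀ ω', s • ω' = ω' → ω' = ω)
    (hkey : ∀ (u u' : G) (α β γ : Ω), orderOf u = 2 → orderOf u' = 2 → α ≠ β → u • α = β →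
      u' • α = β → u • γ = γ → u' • γ = γ)
    {s t : G} (hs : orderOf s = 2) (ht : orderOf t = 2) {γ : Ω} (hsγ : s • γ = γ)
    (htγ : t • γ = γ) : s = t := by
  classical
  haveI := Fintype.ofFinite G
  set I : Finset G := Finset.univ.filter (fun w => orderOf w = 2) with hI
  have huniq : ∀ w : G, orderOf w = 2 → ∀ α β : Ω, w • α = α → w • β = β → α = β := by
    intro w hw α β hα hβ
    obtain ⟨ω, -, h⟩ := hfix w hw
    rw [h α hα, h β hβ]
  let F : Ω → Finset G := fun δ => I.filter (fun w : G => w • δ = δ)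
  have hFmem : ∀ δ w, w ∈ F δ ↔ orderOf w = 2 ∧ w • δ = δ := by simp [F, hI]
  set m := (F γ).card with hm
  have hFle : ∀ δ ε, (F δ).card ≤ (F ε).card := by
    intro δ ε
    obtain ⟨g, hg⟩ := exists_smul_eq G δ ε
    refine Finset.card_le_card_of_injOn (fun w => g * w * g⁻¹) (fun w hw => ?_)
      (fun a _ b _ h => mul_left_cancel (mul_right_cancel h))
    simp only [Finset.mem_coe, hFmem] at hw ⊢
    refine ⟨?_, ?_⟩
    · rw [show orderOf (g * w * g⁻¹) = orderOf w from
        orderOf_injective (MulAut.conj g).toMonoidHom (MulAut.conj g).injective w, hw.1]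
    · rw [← hg, ← mul_smul, inv_mul_cancel_right, mul_smul, hw.2]
  have hFm : ∀ δ, (F δ).card = m := fun δ => le_antisymm (hFle δ γ) (hFle γ δ)
  have hIcard : I.card = Fintype.card Ω * m := by
    let f : G → Ω := fun w => if h : orderOf w = 2 then (hfix w h).choose else γ
    have hf : ∀ w ∈ I, ∀ δ, f w = δ ↔ w • δ = δ := by
      intro w hw δ
      have hw2 : orderOf w = 2 := by simpa [hI] using hw
      simp only [f, dif_pos hw2]
      exact ⟨fun h => h ▸ (hfix w hw2).choose_spec.1,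
        fun h => ((hfix w hw2).choose_spec.2 δ h).symm⟩
    rw [Finset.card_eq_sum_card_fiberwise (f := f) (t := Finset.univ) (fun _ _ => Finset.mem_univ _),
      Finset.sum_congr rfl (g := fun _ => m) fun δ _ => ?_]
    · simp
    · rw [← hFm δ]
      exact congrArg Finset.card (Finset.filter_congr fun w hw => hf w hw δ)
  have hS : ∀ α β : Ω, α ≠ β → ∀ u ∈ I.filter (fun w => w • α = β),
      ∀ δ, u • δ = δ → I.filter (fun w => w • α = β) ⊆ F δ := by
    intro α β hab u hu δ hδ w hw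
    simp only [hI, Finset.mem_filter, Finset.mem_univ, true_and] at hu hw
    exact (hFmem δ w).mpr ⟨hw.1, hkey u w α β δ hu.1 hw.1 hab hu.2 hw.2 hδ⟩
  have hSle : ∀ α β : Ω, α ≠ β → (I.filter (fun w => w • α = β)).card ≤ m := by
    intro α β hab
    rcases (I.filter (fun w => w • α = β)).eq_empty_or_nonempty with he | ⟨u, hu⟩
    · simp [he]
    · have hu2 : orderOf u = 2 := by
        have := (Finset.mem_filter.mp hu).1
        simpa [hI] using this
      obtain ⟨δ, hδ, -⟩ := hfix u hu2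
      exact (Finset.card_le_card (hS α β hab u hu δ hδ)).trans_eq (hFm δ)
  have hSeq : ∀ α β : Ω, α ≠ β → (I.filter (fun w => w • α = β)).card = m := by
    intro α β hab
    have hsum : ∑ δ ∈ Finset.univ.erase α, (I.filter (fun w => w • α = δ)).card =
        ∑ δ ∈ Finset.univ.erase α, m := by
      have h1 := Finset.card_eq_sum_card_fiberwise (s := I) (f := fun w => w • α)
        (t := Finset.univ) (fun _ _ => Finset.mem_univ _)
      rw [← Finset.add_sum_erase _ _ (Finset.mem_univ α), hFm α, hIcard] at h1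
      rw [Finset.sum_const, Finset.card_erase_of_mem (Finset.mem_univ α), Finset.card_univ,
        smul_eq_mul, Nat.sub_mul, one_mul]
      omega
    exact (Finset.sum_eq_sum_iff_of_le (fun δ hδ => hSle α δ (Finset.ne_of_mem_erase hδ).symm)).mp
      hsum β (Finset.mem_erase.mpr ⟨hab.symm, Finset.mem_univ β⟩)
  refine eq_of_smul_eq_smul (α := Ω) fun β => ?_
  by_cases hβ : β = γ
  · rw [hβ, hsγ, htγ]
  have hne : β ≠ s • β := fun h => hβ (huniq s hs β γ h.symm hsγ)
  have hsS : s ∈ I.filter (fun w => w • β = s • β) := by simp [hI, hs]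
  have heq : I.filter (fun w => w • β = s • β) = F γ :=
    Finset.eq_of_subset_of_card_le (hS _ _ hne s hsS γ hsγ) (by rw [hSeq _ _ hne])
  have htS : t ∈ I.filter (fun w => w • β = s • β) := by
    rw [heq]; exact (hFmem γ t).mpr ⟨ht, htγ⟩
  exact (Finset.mem_filter.mp htS).2.symm

section Key

variable [Finite G] [FaithfulSMul G Ω] [Fintype Ω] [IsPretransitive G Ω] [Nonempty Ω]
  {p : ℕ} [Fact p.Prime] {r : ℕ}

/-- A normal subgroup of order prime to `p` of a transitive group of degree `p ^ r` is trivial. -/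
theorem eq_bot_of_normal_coprime (hΩ : Fintype.card Ω = p ^ r) (D : Subgroup G)
    [IsPretransitive D Ω] (N : Subgroup D) [N.Normal] (hN : (Nat.card N).Coprime p) : N = ⊥ := by
  have hp : p.Prime := Fact.out
  rw [Subgroup.eq_bot_iff_forall]
  intro n hn
  refine Subtype.ext (eq_of_smul_eq_smul (α := Ω) fun ω => ?_)
  have h1 : (orbit N ω).ncard ∣ p ^ r := by
    rw [← hΩ, ← Nat.card_eq_fintype_card]
    exact (IsBlock.orbit_of_normal (N := N) ω).ncard_dvd_card ⟨ω, mem_orbit_self ω⟩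
  have h2 : (orbit N ω).ncard ∣ Nat.card N := by
    rw [← index_stabilizer]
    exact Subgroup.index_dvd_card _
  have h3 : (orbit N ω).ncard = 1 := Nat.eq_one_of_dvd_coprimes (hN.pow_right r) h2 h1
  obtain ⟨δ, hδ⟩ := Set.ncard_eq_one.mp h3
  have hω : ω = δ := by
    have := mem_orbit_self (M := N) ω
    rwa [hδ, Set.mem_singleton_iff] at this
  have hnω : (n : G) • ω ∈ orbit N ω := ⟨⟨n, hn⟩, rfl⟩
  rw [hδ, Set.mem_singleton_iff] at hnω
  rw [OneMemClass.coe_one, one_smul, hnω, ← hω]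

/-- An element fixing a point whose centralizer has odd order is not inverted by an involution. -/
theorem no_inverting_of_odd (hΩ : Fintype.card Ω = p ^ r)
    (hab : ∀ P : Sylow p G, ∀ x ∈ (P : Subgroup G), ∀ y ∈ (P : Subgroup G), x * y = y * x)
    (hC : ∀ g : G, g ≠ 1 → (∃ k : ℕ, orderOf g = p ^ k) →
      Odd (Nat.card (Subgroup.centralizer ({g} : Set G))))
    {x : G} {α : Ω} (hx : x • α = α) (hx2 : x * x ≠ 1)
    (hCx : Odd (Nat.card (Subgroup.centralizer ({x} : Set G))))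
    {u : G} (hu : orderOf u = 2) (hux : u * x * u⁻¹ = x⁻¹)
    (hpx : p ∣ Nat.card (Subgroup.centralizer ({x} : Set G))) : False := by
  have hp : p.Prime := Fact.out
  have huu := sq_of_orderOf_two hu
  have hinvC : ∀ (g : G) (y : G), u * g * u⁻¹ = g⁻¹ → y * g = g * y →
      (u * y * u⁻¹) * g = g * (u * y * u⁻¹) := by
    intro g y hg hy
    have hg' : u * g⁻¹ * u⁻¹ = g := by
      have := congrArg (·⁻¹) hg
      simpa [mul_assoc] using this
    have hy' : y * g⁻¹ = g⁻¹ * y := (Commute.inv_right (show Commute y g from hy)).eq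
    calc (u * y * u⁻¹) * g = (u * y * u⁻¹) * (u * g⁻¹ * u⁻¹) := by rw [hg']
      _ = u * (y * g⁻¹) * u⁻¹ := by group
      _ = u * (g⁻¹ * y) * u⁻¹ := by rw [hy']
      _ = (u * g⁻¹ * u⁻¹) * (u * y * u⁻¹) := by group
      _ = g * (u * y * u⁻¹) := by rw [hg']
  have hnorm : ∀ g : G, u * g * u⁻¹ = g⁻¹ →
      Subgroup.zpowers u ≤ Subgroup.normalizer ((Subgroup.centralizer ({g} : Set G)) : Set G) := by
    intro g hg
    rw [Subgroup.zpowers_le, Subgroup.mem_normalizer_iff]
    intro c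
    simp only [Subgroup.mem_centralizer_singleton_iff]
    refine ⟨hinvC g c hg, fun h => ?_⟩
    have h2 := hinvC g _ hg h
    rwa [show u * (u * c * u⁻¹) * u⁻¹ = (u * u) * c * (u * u)⁻¹ by group, huu, one_mul, inv_one,
      mul_one] at h2
  set C := Subgroup.centralizer ({x} : Set G) with hCdef
  obtain ⟨Q', hQ'⟩ := CfsgLib.coprime_exists_invariant_sylow (hnorm x hux) (by
    rw [Nat.card_zpowers, hu]; exact Nat.coprime_two_left.mpr hCx) (Or.inl inferInstance) p
  set Q := (Q' : Subgroup C).map C.subtype with hQdef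
  have hQne : (Q' : Subgroup C) ≠ ⊥ := Q'.ne_bot_of_dvd_card hpx
  obtain ⟨⟨v', hv'Q⟩, hv''⟩ := Subgroup.ne_bot_iff_exists_ne_one.mp hQne
  have hv'1 : v' ≠ 1 := fun h => hv'' (Subtype.ext h)
  have hvQ : (v' : G) ∈ Q := ⟨v', hv'Q, rfl⟩
  set v := (v' : G) with hvdef
  have hv1 : v ≠ 1 := fun h => hv'1 (Subtype.ext h)
  have hord : ∀ y ∈ Q, ∃ k : ℕ, orderOf y = p ^ k := by
    intro y hy
    obtain ⟨k, hk⟩ := IsPGroup.iff_orderOf.mp (Q'.2.map C.subtype) ⟨y, hy⟩
    exact ⟨k, by rw [← hk, ← Subgroup.orderOf_coe]⟩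
  have hnofix : ∀ y : G, (∃ k : ℕ, orderOf y = p ^ k) → u * y * u⁻¹ = y → y = 1 := by
    intro y hy hc
    by_contra hy1
    have h2 : 2 ∣ Nat.card (Subgroup.centralizer ({y} : Set G)) :=
      hu ▸ Subgroup.orderOf_dvd_natCard _
        (Subgroup.mem_centralizer_singleton_iff.mpr (mul_inv_eq_iff_eq_mul.mp hc))
    exact (Nat.not_even_iff_odd.mpr (hC y hy1 hy)) (even_iff_two_dvd.mpr h2)
  have huv : u * v * u⁻¹ = v⁻¹ :=
    inverts_of_fpf huu Q
      (fun y hy => (Subgroup.mem_normalizer_iff.mp (hQ' (Subgroup.mem_zpowers u)) y).mp hy)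
      (fun y hy h => hnofix y (hord y hy) h) v hvQ
  -- the centralizer of the `p`-element
  set D := Subgroup.centralizer ({v} : Set G) with hDdef
  have hxD : x ∈ D := by
    rw [hDdef, Subgroup.mem_centralizer_singleton_iff]
    exact (Subgroup.mem_centralizer_singleton_iff.mp v'.2).symm
  haveI : Group.IsSolvable D := Cfsg.Agent.S0205.result (hC v hv1 (hord v hvQ))
  obtain ⟨k, hk⟩ := hord v hvQ
  obtain ⟨P, hP⟩ := (IsPGroup.of_card (p := p) (n := k)
    (by rw [Nat.card_zpowers, hk]) : IsPGroup p (Subgroup.zpowers v)).exists_le_sylow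
  have hPD : (P : Subgroup G) ≤ D := fun y hy => by
    rw [hDdef, Subgroup.mem_centralizer_singleton_iff]
    exact hab P y hy v (hP (Subgroup.mem_zpowers v))
  haveI : IsPretransitive D Ω := ⟨fun ω ω' => by
    obtain ⟨z, hz, hzω⟩ := (sylow_regular hΩ P (hab P)).1 ω ω'
    exact ⟨⟨z, hPD hz⟩, hzω⟩⟩
  have hcore : pPrimeCore p D = ⊥ := by
    rw [pPrimeCore, sSup_eq_bot]
    rintro N ⟨hN, hNc⟩
    haveI := hN
    exact eq_bot_of_normal_coprime (Ω := Ω) hΩ D N hNc
  let PD : Sylow p D := P.subtype hPD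
  have hPDmem : ∀ y : D, y ∈ (PD : Subgroup D) ↔ (y : G) ∈ (P : Subgroup G) := fun y =>
    Subgroup.mem_subgroupOf
  have hnormal : (PD : Subgroup D).Normal := by
    have h := Cfsg.Agent.S0018.result p PD ⟨⟨fun a b => Subtype.ext (Subtype.ext
      (hab P _ ((hPDmem a.1).mp a.2) _ ((hPDmem b.1).mp b.2)))⟩⟩
    rwa [hcore, sup_bot_eq] at h
  haveI := hnormal
  have hxP : ∀ z ∈ (P : Subgroup G), x * z * x⁻¹ ∈ (P : Subgroup G) := fun z hz =>
    (hPDmem _).mp (hnormal.conj_mem ⟨z, hPD hz⟩ ((hPDmem ⟨z, hPD hz⟩).mpr hz) ⟨x, hxD⟩)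
  have huP : ∀ z ∈ (P : Subgroup G), u * z * u⁻¹ ∈ (P : Subgroup G) := by
    intro z hz
    have hzD : u * z * u⁻¹ ∈ D :=
      (Subgroup.mem_normalizer_iff.mp (hnorm v huv (Subgroup.mem_zpowers u)) z).mp (hPD hz)
    obtain ⟨j, hj⟩ := IsPGroup.iff_orderOf.mp P.2 ⟨z, hz⟩
    rw [← Subgroup.orderOf_coe] at hj
    have hj' : IsPGroup p (Subgroup.zpowers (⟨u * z * u⁻¹, hzD⟩ : D)) := IsPGroup.of_card (n := j) (by
      rw [Nat.card_zpowers, ← Subgroup.orderOf_coe, show orderOf (u * z * u⁻¹) = orderOf z from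
        orderOf_injective (MulAut.conj u).toMonoidHom (MulAut.conj u).injective z]
      exact hj)
    have hmax := PD.3 (PD.2.to_sup_of_normal_left hj') le_sup_left
    have : (⟨u * z * u⁻¹, hzD⟩ : D) ∈ (PD : Subgroup D) := by
      rw [← hmax]; exact Subgroup.mem_sup_right (Subgroup.mem_zpowers _)
    exact (hPDmem _).mp this
  have hinvP := inverts_of_fpf huu P huP (fun z hz h => hnofix z (by
    obtain ⟨j, hj⟩ := IsPGroup.iff_orderOf.mp P.2 ⟨z, hz⟩
    exact ⟨j, by rw [← hj, ← Subgroup.orderOf_coe]⟩) h)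
  have hx2P : x * x ∈ (P : Subgroup G) := by
    refine centralizer_sylow hΩ P (hab P) fun z hz => ?_
    have e1 := hinvP _ (hxP z hz)
    have e2 : u * (x * z * x⁻¹) * u⁻¹ = (u * x * u⁻¹) * (u * z * u⁻¹) * (u * x * u⁻¹)⁻¹ := by group
    rw [e2, hux, hinvP z hz, inv_inv] at e1
    have e3 := congrArg (·⁻¹) e1
    simp only [mul_inv_rev, inv_inv] at e3
    calc x * x * z = x * (x * z * x⁻¹) * x := by group
      _ = x * (x⁻¹ * (z * x)) * x := by rw [← e3]
      _ = z * (x * x) := by group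
  exact hx2 ((sylow_regular hΩ P (hab P)).2 _ hx2P α (by rw [mul_smul, hx, hx]))

/-- All involutions inverting an element that fixes a point have the same fixed point. -/
theorem fix_eq_of_inverted (hΩ : Fintype.card Ω = p ^ r)
    (hab : ∀ P : Sylow p G, ∀ x ∈ (P : Subgroup G), ∀ y ∈ (P : Subgroup G), x * y = y * x)
    (hC : ∀ g : G, g ≠ 1 → (∃ k : ℕ, orderOf g = p ^ k) →
      Odd (Nat.card (Subgroup.centralizer ({g} : Set G))))
    (hfix : ∀ s : G, orderOf s = 2 → ∃ ω : Ω, s • ω = ω ∧ ∀ ω', s • ω' = ω' → ω' = ω)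
    (hcount : ∀ x : G, x * x ≠ 1 → p ∣ Nat.card {a : G // orderOf a = 2 ∧ a * x * a⁻¹ = x⁻¹})
    {x : G} {α : Ω} (hx : x • α = α) (hx2 : x * x ≠ 1) {u u' : G} (hu : orderOf u = 2)
    (hu' : orderOf u' = 2) (hux : u * x * u⁻¹ = x⁻¹) (hu'x : u' * x * u'⁻¹ = x⁻¹) {γ : Ω}
    (hγ : u • γ = γ) : u' • γ = γ := by
  classical
  haveI := Fintype.ofFinite G
  by_cases hi : ∃ i : G, orderOf i = 2 ∧ i * x * i⁻¹ = x
  · obtain ⟨i, hi, hix⟩ := hi
    obtain ⟨δ, hδ, -⟩ := hfix i hi
    have key : ∀ w : G, orderOf w = 2 → w * x * w⁻¹ = x⁻¹ → ∀ ε, w • ε = ε → ε = δ := by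
      intro w hw hwx ε hε
      by_contra hne
      obtain ⟨d, hd, hdw⟩ := conj_of_odd (sq_of_orderOf_two hw) (sq_of_orderOf_two hi)
        (odd_of_fix_ne hfix hw hi hε hδ hne)
      let T : Subgroup G :=
        { carrier := {g | g * x * g⁻¹ = x ∨ g * x * g⁻¹ = x⁻¹}
          one_mem' := Or.inl (by simp)
          mul_mem' := by
            intro g h hg hh
            have e : g * h * x * (g * h)⁻¹ = g * (h * x * h⁻¹) * g⁻¹ := by group
            have e' : g * x⁻¹ * g⁻¹ = (g * x * g⁻¹)⁻¹ := by group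
            simp only [Set.mem_setOf_eq, e] at hg hh ⊢
            rcases hh with hh | hh <;> rw [hh] <;> rcases hg with hg | hg
            · exact Or.inl hg
            · exact Or.inr hg
            · exact Or.inr (by rw [e', hg])
            · exact Or.inl (by rw [e', hg, inv_inv])
          inv_mem' := by
            intro g hg
            simp only [Set.mem_setOf_eq, inv_inv] at hg ⊢
            rcases hg with hg | hg
            · left; nth_rewrite 1 [← hg]; group
            · right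
              have : x = (g * x * g⁻¹)⁻¹ := by rw [hg, inv_inv]
              nth_rewrite 1 [this]; group }
      have hdT : d ∈ T := (Subgroup.zpowers_le.mpr
        (T.mul_mem (Or.inl hix : i ∈ T) (Or.inr hwx : w ∈ T))) hd
      have hdT' : d⁻¹ ∈ T := T.inv_mem hdT
      have e : i * x * i⁻¹ = d * (w * (d⁻¹ * x * d⁻¹⁻¹) * w⁻¹) * d⁻¹ := by rw [← hdw]; group
      have hw1 : w * x⁻¹ * w⁻¹ = x := by
        rw [show w * x⁻¹ * w⁻¹ = (w * x * w⁻¹)⁻¹ by group, hwx, inv_inv]
      have hd1 : ∀ y : G, d * y⁻¹ * d⁻¹ = (d * y * d⁻¹)⁻¹ := fun y => by group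
      have hxi : x = x⁻¹ := by
        rcases hdT' with h | h
        · have hd2 : d * x * d⁻¹ = x := by nth_rewrite 1 [← h]; group
          rw [h, hwx, hd1, hd2, hix] at e; exact e
        · have hd2 : d * x * d⁻¹ = x⁻¹ := by
            have : x = (d⁻¹ * x * d⁻¹⁻¹)⁻¹ := by rw [h, inv_inv]
            nth_rewrite 1 [this]; group
          rw [h, hw1, hd2, hix] at e; exact e
      exact hx2 (by rwa [← eq_inv_iff_mul_eq_one])
    obtain ⟨γ', hγ', -⟩ := hfix u' hu'
    rw [key u hu hux γ hγ, ← key u' hu' hu'x γ' hγ']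
    exact hγ'
  exfalso
  have hCx : Odd (Nat.card (Subgroup.centralizer ({x} : Set G))) := by
    rw [← Nat.not_even_iff_odd, even_iff_two_dvd]
    intro h2
    obtain ⟨i, hi2⟩ := exists_prime_orderOf_dvd_card' 2 h2
    exact hi ⟨i, by rw [Subgroup.orderOf_coe, hi2],
      mul_inv_eq_iff_eq_mul.mpr (Subgroup.mem_centralizer_singleton_iff.mp i.2)⟩
  set C := Subgroup.centralizer ({x} : Set G) with hCdef
  refine no_inverting_of_odd hΩ hab hC hx hx2 hCx hu hux ?_
  set K := (Subgroup.centralizer ({u} : Set G)).subgroupOf C with hK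
  have hmem : ∀ c : C, orderOf ((c : G) * u * (c : G)⁻¹) = 2 ∧
      ((c : G) * u * (c : G)⁻¹) * x * ((c : G) * u * (c : G)⁻¹)⁻¹ = x⁻¹ := by
    intro c
    have hc : (c : G) * x = x * c := Subgroup.mem_centralizer_singleton_iff.mp c.2
    have hc1 : (c : G) * x * (c : G)⁻¹ = x := mul_inv_eq_iff_eq_mul.mpr hc
    have hc2 : (c : G)⁻¹ * x * (c : G) = x := by
      rw [mul_assoc, ← hc, inv_mul_cancel_left]
    refine ⟨?_, ?_⟩
    · rw [show orderOf ((c : G) * u * (c : G)⁻¹) = orderOf u from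
        orderOf_injective (MulAut.conj (c : G)).toMonoidHom (MulAut.conj (c : G)).injective u, hu]
    · calc ((c : G) * u * (c : G)⁻¹) * x * ((c : G) * u * (c : G)⁻¹)⁻¹
          = (c : G) * (u * ((c : G)⁻¹ * x * c) * u⁻¹) * (c : G)⁻¹ := by group
        _ = ((c : G) * x * (c : G)⁻¹)⁻¹ := by rw [hc2, hux]; group
        _ = x⁻¹ := by rw [hc1]
  let F : C → {a : G // orderOf a = 2 ∧ a * x * a⁻¹ = x⁻¹} := fun c => ⟨_, hmem c⟩
  have hrel : ∀ c c' : C, F c = F c' ↔ c⁻¹ * c' ∈ K := by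
    intro c c'
    rw [Subtype.ext_iff, hK, Subgroup.mem_subgroupOf, Subgroup.mem_centralizer_singleton_iff]
    simp only [F, Subgroup.coe_mul, Subgroup.coe_inv]
    constructor
    · intro h
      calc (c : G)⁻¹ * c' * u = (c : G)⁻¹ * ((c' : G) * u * (c' : G)⁻¹) * c' := by group
        _ = (c : G)⁻¹ * ((c : G) * u * (c : G)⁻¹) * c' := by rw [h]
        _ = u * ((c : G)⁻¹ * c') := by group
    · intro h
      calc (c : G) * u * (c : G)⁻¹ = (c : G) * (u * ((c : G)⁻¹ * c')) * (c' : G)⁻¹ := by group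
        _ = (c : G) * ((c : G)⁻¹ * c' * u) * (c' : G)⁻¹ := by rw [h]
        _ = (c' : G) * u * (c' : G)⁻¹ := by group
  let e : C ⧸ K → {a : G // orderOf a = 2 ∧ a * x * a⁻¹ = x⁻¹} :=
    fun q => Quotient.liftOn' q F fun c c' h => (hrel c c').mpr (QuotientGroup.leftRel_apply.mp h)
  have he : Function.Bijective e := by
    constructor
    · intro q q'
      induction q using QuotientGroup.induction_on with
      | _ c =>
        induction q' using QuotientGroup.induction_on with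
        | _ c' =>
          intro h
          exact QuotientGroup.eq.mpr ((hrel c c').mp h)
    · rintro ⟨a, ha, hax⟩
      have hya : a * u ∈ C := by
        rw [hCdef, Subgroup.mem_centralizer_singleton_iff, ← mul_inv_eq_iff_eq_mul,
          show a * u * x * (a * u)⁻¹ = a * (u * x * u⁻¹) * a⁻¹ by group, hux,
          show a * x⁻¹ * a⁻¹ = (a * x * a⁻¹)⁻¹ by group, hax, inv_inv]
      obtain ⟨d, hd, hdu⟩ := conj_of_odd (sq_of_orderOf_two hu) (sq_of_orderOf_two ha)
        (hCx.of_dvd_nat (Subgroup.orderOf_dvd_natCard C hya))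
      exact ⟨((⟨d, Subgroup.zpowers_le.mpr hya hd⟩ : C) : C ⧸ K), Subtype.ext hdu⟩
  have h := hcount x hx2
  rw [← Nat.card_congr (Equiv.ofBijective e he)] at h
  exact h.trans (Subgroup.card_quotient_dvd_card K)

end Key

end CfsgLib.OddCentTransitive
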