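import Cfsg.Agent.Lib.AfterFT.FixSylow
import Cfsg.Prelude.Def_KGroupFacts

/-!
The outer automorphism group of a simple group is solvable when the automorphisms of a Sylow 2-subgroup induced
from the group form a solvable group, given that groups of odd order are solvable (S3065).
-/

set_option autoImplicit false
set_option linter.unusedSectionVars false
set_option linter.style.haveILetI false

namespace CfsgLib.AfterFT.OutSolvable

open Cfsg Subgroup CfsgLib
open scoped Pointwise

universe u

variable {G : Type u} [Group G] [Finite G]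

/-- The automorphisms mapping `S` to itself. -/
def stab (S : Subgroup G) : Subgroup (MulAut G) where
  carrier := {φ | ∀ x, φ x ∈ S ↔ x ∈ S}
  one_mem' := fun _ => Iff.rfl
  mul_mem' := fun {a b} ha hb x => (ha (b x)).trans (hb x)
  inv_mem' := fun {a} ha x => by
    refine (ha (a⁻¹ x)).symm.trans ?_
    rw [← MulAut.mul_apply, mul_inv_cancel, MulAut.one_apply]

theorem mem_stab {S : Subgroup G} {φ : MulAut G} : φ ∈ stab S ↔ ∀ x, φ x ∈ S ↔ x ∈ S := Iff.rfl

/-- Restriction to `S`. -/
def restrict (S : Subgroup G) : stab S →* MulAut S where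
  toFun φ :=
    { toFun := fun x => ⟨(φ : MulAut G) x, (φ.2 x).mpr x.2⟩
      invFun := fun x => ⟨((φ : MulAut G)⁻¹ : MulAut G) x, ((stab S).inv_mem φ.2 x).mpr x.2⟩
      left_inv := fun x => Subtype.ext (by simp)
      right_inv := fun x => Subtype.ext (by simp)
      map_mul' := fun x y => Subtype.ext (map_mul (φ : MulAut G) (x : G) y) }
  map_one' := MulEquiv.ext fun x => rfl
  map_mul' := fun φ ψ => MulEquiv.ext fun x => rfl

theorem restrict_apply {S : Subgroup G} (φ : stab S) (x : S) :
    ((restrict S φ x : S) : G) = (φ : MulAut G) x := rfl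

/-- Every automorphism is inner modulo the stabiliser of a Sylow subgroup. -/
theorem exists_stab_mul {p : ℕ} [Fact p.Prime] (S : Sylow p G) (φ : MulAut G) :
    ∃ g : G, (MulAut.conj g)⁻¹ * φ ∈ stab (S : Subgroup G) := by
  obtain ⟨T, hT⟩ : ∃ T : Sylow p G, (T : Subgroup G) = (S : Subgroup G).map φ.toMonoidHom := by
    refine ⟨(S.2.map φ.toMonoidHom).toSylow ?_, rfl⟩
    rw [show ((S : Subgroup G).map φ.toMonoidHom).index = (S : Subgroup G).index from index_map_equiv (S : Subgroup G) φ]
    exact S.not_dvd_index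
  obtain ⟨g, hg⟩ := MulAction.exists_smul_eq G S T
  refine ⟨g, fun x => ?_⟩
  have key : ∀ y, y ∈ (S : Subgroup G).map φ.toMonoidHom ↔ g⁻¹ * y * g ∈ (S : Subgroup G) := by
    intro y
    rw [← hT, ← hg]
    show y ∈ MulAut.conj g • (S : Subgroup G) ↔ _
    rw [Subgroup.mem_pointwise_smul_iff_inv_smul_mem, MulAut.smul_def, MulAut.conj_inv_apply]
  rw [MulAut.mul_apply, MulAut.conj_inv_apply, ← key]
  exact ⟨fun ⟨z, hz, e⟩ => φ.injective e ▸ hz, fun hx => ⟨x, hx, rfl⟩⟩

/-- A non-abelian simple group has no nontrivial normal subgroup of odd order, given the odd order theorem. -/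
theorem oddNormal_eq_bot (odd : ∀ (H : Type u) [Group H] [Finite H], Odd (Nat.card H) → Group.IsSolvable H)
    [IsSimpleGroup G] (hG : ¬ IsMulCommutative G) (N : Subgroup G) (hN : N.Normal) (ho : Odd (Nat.card N)) :
    N = ⊥ := by
  refine (IsSimpleGroup.eq_bot_or_eq_top_of_normal N hN).resolve_right fun e => hG ?_
  subst e
  rw [card_top] at ho
  haveI := odd G ho
  exact ⟨⟨fun a b => IsSimpleGroup.comm_iff_isSolvable.mpr inferInstance a b⟩⟩

/-- Solvable action on a Sylow 2-subgroup gives a solvable outer automorphism group. -/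
theorem isSolvable_out (odd : ∀ (H : Type u) [Group H] [Finite H], Odd (Nat.card H) → Group.IsSolvable H)
    [IsSimpleGroup G] (hG : ¬ IsMulCommutative G) (S : Sylow 2 G)
    (hR : Group.IsSolvable (restrict (S : Subgroup G)).range) : Group.IsSolvable (Cfsg.Out G) := by
  haveI : Fact (Nat.Prime 2) := ⟨Nat.prime_two⟩
  let C : Subgroup (MulAut G) :=
    { carrier := {φ | ∀ s : G, s ∈ S → φ s = s}
      one_mem' := fun _ _ => rfl
      mul_mem' := fun {a b} ha hb s hs => by
        show a (b s) = s
        rw [hb s hs, ha s hs]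
      inv_mem' := fun {a} ha s hs => by
        show a.symm s = s
        rw [MulEquiv.symm_apply_eq, ha s hs] }
  haveI := (FixSylow.glauberman_fix_sylow (C := C) odd (oddNormal_eq_bot odd hG) (fun φ => Iff.rfl)).2
  have hCN : C ≤ stab (S : Subgroup G) := fun φ hφ x => by
    refine ⟨fun hx => ?_, fun hx => by rw [hφ x hx]; exact hx⟩
    rw [← φ.injective (hφ _ hx)]
    exact hx
  haveI := hR
  haveI : Group.IsSolvable (stab (S : Subgroup G)) :=
    Group.isSolvable_of_ker_le_range (inclusion hCN) (restrict (S : Subgroup G)).rangeRestrict (fun φ hφ => by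
      rw [MonoidHom.ker_rangeRestrict, MonoidHom.mem_ker] at hφ
      refine ⟨⟨φ, fun s hs => ?_⟩, rfl⟩
      exact congrArg (fun a : MulAut (S : Subgroup G) => ((a ⟨s, hs⟩ : (S : Subgroup G)) : G)) hφ)
  refine Group.isSolvable_of_surjective
    (f := (QuotientGroup.mk' (Inn G)).comp (stab (S : Subgroup G)).subtype) fun x => ?_
  obtain ⟨φ, rfl⟩ := QuotientGroup.mk'_surjective (Inn G) x
  obtain ⟨g, hg⟩ := exists_stab_mul S φ
  refine ⟨⟨_, hg⟩, ?_⟩
  show QuotientGroup.mk' (Inn G) ((MulAut.conj g)⁻¹ * φ) = _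
  rw [map_mul, show QuotientGroup.mk' (Inn G) (MulAut.conj g)⁻¹ = 1 from (QuotientGroup.eq_one_iff _).mpr
    (inv_mem ⟨g, rfl⟩), one_mul]

/-- **S3065**, given that groups of odd order are solvable. -/
theorem isSolvable_out_of_mulAut (odd : ∀ (H : Type u) [Group H] [Finite H], Odd (Nat.card H) → Group.IsSolvable H)
    [IsSimpleGroup G] (hG : ¬ IsMulCommutative G) (S : Sylow 2 G) (hS : Group.IsSolvable (MulAut ↥S)) :
    Group.IsSolvable (Cfsg.Out G) := by
  haveI := hS
  exact isSolvable_out odd hG S inferInstance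

end CfsgLib.AfterFT.OutSolvable
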