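import Cfsg.Agent.Lib.AfterFT.TransNormalizer
import Cfsg.Agent.Lib.AfterFT.FixInvolutions
import Cfsg.Agent.Lib.AfterFT.OutSolvable

/-!
Solvability of the outer automorphism group of a simple group whose Sylow 2-subgroup has commuting, conjugate
involutions, given that groups of odd order are solvable (S3066 (c)).
-/

set_option autoImplicit false
set_option linter.unusedSectionVars false
set_option linter.style.haveILetI false

namespace CfsgLib.AfterFT.OutSolvable

open Cfsg Subgroup CfsgLib
open scoped Pointwise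

universe u

variable {G : Type u} [Group G] [Finite G]

/-- **S3066 (c)**, given that groups of odd order are solvable. -/
theorem isSolvable_out_of_commuting (odd : ∀ (H : Type u) [Group H] [Finite H], Odd (Nat.card H) → Group.IsSolvable H)
    [IsSimpleGroup G] (hG : ¬ IsMulCommutative G) (S : Sylow 2 G)
    (hcomm : ∀ s ∈ S, ∀ t ∈ S, orderOf s = 2 → orderOf t = 2 → s * t = t * s)
    (hconj : ∀ s ∈ S, ∀ t ∈ S, orderOf s = 2 → orderOf t = 2 → ∃ g : G, g * s * g⁻¹ = t) :
    Group.IsSolvable (Cfsg.Out G) := by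
  classical
  haveI : Fact (Nat.Prime 2) := ⟨Nat.prime_two⟩
  have hord : ∀ x : G, x * x = 1 → x ≠ 1 → orderOf x = 2 := fun x hx h1 =>
    orderOf_eq_prime (by rw [pow_two]; exact hx) h1
  have hc : ∀ x ∈ S, ∀ y ∈ S, x * x = 1 → y * y = 1 → x * y = y * x := by
    intro x hx y hy hx2 hy2
    by_cases h1 : x = 1
    · rw [h1, one_mul, mul_one]
    by_cases h2 : y = 1
    · rw [h2, one_mul, mul_one]
    exact hcomm x hx y hy (hord x hx2 h1) (hord y hy2 h2)
  let E : Subgroup G :=
    { carrier := {x | x ∈ (S : Subgroup G) ∧ x * x = 1}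
      one_mem' := ⟨one_mem _, one_mul 1⟩
      mul_mem' := fun {x y} hx hy => ⟨mul_mem hx.1 hy.1, by
        calc x * y * (x * y) = x * (y * x) * y := by group
          _ = x * (x * y) * y := by rw [hc y hy.1 x hx.1 hy.2 hx.2]
          _ = (x * x) * (y * y) := by group
          _ = 1 := by rw [hx.2, hy.2, one_mul]⟩
      inv_mem' := fun {x} hx => ⟨inv_mem hx.1, by
        rw [← mul_inv_rev, hx.2, inv_one]⟩ }
  have hmemE : ∀ x, x ∈ E ↔ x ∈ (S : Subgroup G) ∧ x * x = 1 := fun x => Iff.rfl
  have hEc : ∀ a b : E, a * b = b * a := fun a b => Subtype.ext (hc _ a.2.1 _ b.2.1 a.2.2 b.2.2)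
  have hE2 : ∀ a : E, a ^ 2 = 1 := fun a => Subtype.ext (by
    show ((a ^ 2 : E) : G) = 1
    rw [SubgroupClass.coe_pow, pow_two]; exact a.2.2)
  -- stabilisers
  have hSE : stab (S : Subgroup G) ≤ stab E := fun φ hφ x => by
    rw [hmemE, hmemE, hφ x, ← map_mul, map_eq_one_iff φ φ.injective]
  set N := normalizer (E : Set G) with hN
  have hSN : (S : Subgroup G) ≤ N := fun s hs => by
    rw [hN, mem_normalizer_iff]
    intro x
    rw [hmemE, hmemE]
    refine and_congr ⟨fun h => mul_mem (mul_mem hs h) (inv_mem hs), fun h => ?_⟩ ?_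
    · have := mul_mem (mul_mem (inv_mem hs) h) hs
      simpa [mul_assoc] using this
    · rw [show s * x * s⁻¹ * (s * x * s⁻¹) = s * (x * x) * s⁻¹ by group, conj_eq_one_iff]
  have hmem : ∀ n ∈ N, MulAut.conj n ∈ stab E := fun n hn x => (mem_normalizer_iff.mp hn x).symm
  let ν : N →* MulAut E := (restrict E).comp
    { toFun := fun n => ⟨MulAut.conj (n : G), hmem n n.2⟩
      map_one' := Subtype.ext (map_one MulAut.conj)
      map_mul' := fun x y => Subtype.ext (map_mul MulAut.conj (x : G) y) }
  have hνapp : ∀ (n : N) (e : E), ((ν n e : E) : G) = (n : G) * e * (n : G)⁻¹ := fun n e => rfl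
  set X := ν.range with hX
  -- conjugation by automorphisms stabilising `E`
  have hmove : ∀ φ : stab E, ∀ n : N, ∃ hn : (φ : MulAut G) n ∈ N,
      restrict E φ * ν n * (restrict E φ)⁻¹ = ν ⟨(φ : MulAut G) n, hn⟩ := by
    intro φ n
    have hn : (φ : MulAut G) n ∈ N := by
      show (φ : MulAut G) n ∈ normalizer (E : Set G)
      rw [mem_normalizer_iff]
      intro x
      obtain ⟨y, rfl⟩ := (φ : MulAut G).surjective x
      rw [← map_inv, ← map_mul, ← map_mul, φ.2, φ.2]
      exact mem_normalizer_iff.mp n.2 y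
    refine ⟨hn, mul_inv_eq_iff_eq_mul.mpr (MulEquiv.ext fun e => Subtype.ext ?_)⟩
    show (φ : MulAut G) ((n : G) * e * (n : G)⁻¹) = (φ : MulAut G) n * (φ : MulAut G) e * ((φ : MulAut G) n)⁻¹
    rw [map_mul, map_mul, map_inv]
  -- fusion of involutions is controlled in `N`
  have htrans : ∀ a b : E, a ≠ 1 → b ≠ 1 → ∃ g ∈ X, g a = b := by
    intro a b ha hb
    obtain ⟨g, hg⟩ := hconj a a.2.1 b b.2.1 (hord _ a.2.2 fun h => ha (Subtype.ext h))
      (hord _ b.2.2 fun h => hb (Subtype.ext h))
    set C := Subgroup.centralizer ({(b : G)} : Set G) with hC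
    set E' := E.map (MulAut.conj g).toMonoidHom with hE'
    have hEp : IsPGroup 2 E := S.2.to_le (fun x hx => hx.1)
    have hEC : E ≤ C := fun x hx => mem_centralizer_singleton_iff.mpr
      (hc x hx.1 b b.2.1 hx.2 b.2.2)
    have hE'C : E' ≤ C := by
      rintro _ ⟨x, hx, rfl⟩
      rw [hC, mem_centralizer_singleton_iff, ← hg]
      show g * x * g⁻¹ * (g * a * g⁻¹) = g * a * g⁻¹ * (g * x * g⁻¹)
      calc g * x * g⁻¹ * (g * a * g⁻¹) = g * (x * a) * g⁻¹ := by group
        _ = g * ((a : G) * x) * g⁻¹ := by rw [hc x hx.1 a a.2.1 hx.2 a.2.2]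
        _ = _ := by group
    obtain ⟨T1, hT1⟩ := (hEp.comap_subtype (K := C)).exists_le_sylow
    obtain ⟨T2, hT2⟩ := ((hEp.map (MulAut.conj g).toMonoidHom).comap_subtype (K := C)).exists_le_sylow
    obtain ⟨h, hh⟩ := MulAction.exists_smul_eq C T2 T1
    obtain ⟨T, hT⟩ := (T1.2.map C.subtype).exists_le_sylow
    obtain ⟨k, hk⟩ := MulAction.exists_smul_eq G T S
    have key : ∀ x ∈ (T : Subgroup G), x * x = 1 → k * x * k⁻¹ ∈ E := by
      intro x hx hx2
      refine (hmemE _).mpr ⟨?_, by rw [show k * x * k⁻¹ * (k * x * k⁻¹) = k * (x * x) * k⁻¹ by group, hx2, mul_one, mul_inv_cancel]⟩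
      rw [← hk]
      exact Subgroup.mem_map_of_mem _ hx
    have hET : ∀ x ∈ E, x ∈ (T : Subgroup G) := fun x hx =>
      hT ⟨⟨x, hEC hx⟩, hT1 hx, rfl⟩
    let M := E.map (MulAut.conj k).toMonoidHom
    have hM : M = E := by
      refine Subgroup.eq_of_le_of_card_ge ?_ ?_
      · rintro _ ⟨x, hx, rfl⟩
        exact key x (hET x hx) hx.2
      · exact le_of_eq (Nat.card_congr (Subgroup.equivMapOfInjective E _ (MulAut.conj k).injective).toEquiv)
    have hbound : ∀ x ∈ (T : Subgroup G), x * x = 1 → x ∈ E := by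
      intro x hx hx2
      have h1 := key x hx hx2
      rw [← hM] at h1
      obtain ⟨y, hy, e⟩ := h1
      exact (MulAut.conj k).injective e ▸ hy
    have hn : (h : G) * g ∈ N := by
      rw [hN]
      have hsub : E.map (MulAut.conj ((h : G) * g)).toMonoidHom ≤ E := by
        rintro _ ⟨x, hx, rfl⟩
        refine hbound _ ?_ ?_
        · have hy : (⟨g * x * g⁻¹, hE'C ⟨x, hx, rfl⟩⟩ : C) ∈ (T2 : Subgroup C) := hT2 ⟨x, hx, rfl⟩
          have hy' : h * ⟨g * x * g⁻¹, hE'C ⟨x, hx, rfl⟩⟩ * h⁻¹ ∈ (T1 : Subgroup C) := by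
            rw [← hh]
            exact Subgroup.mem_map_of_mem _ hy
          refine hT ⟨_, hy', ?_⟩
          show (h : G) * (g * x * g⁻¹) * (h : G)⁻¹ = (h : G) * g * x * ((h : G) * g)⁻¹
          group
        · show (h : G) * g * x * ((h : G) * g)⁻¹ * ((h : G) * g * x * ((h : G) * g)⁻¹) = 1
          calc _ = (h : G) * g * (x * x) * ((h : G) * g)⁻¹ := by group
            _ = 1 := by rw [hx.2, mul_one, mul_inv_cancel]
      have heq := Subgroup.eq_of_le_of_card_ge hsub
        (le_of_eq (Nat.card_congr (Subgroup.equivMapOfInjective E _ (MulAut.conj ((h : G) * g)).injective).toEquiv))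
      rw [mem_normalizer_iff]
      intro x
      refine ⟨fun hx => hsub ⟨x, hx, rfl⟩, fun hx => ?_⟩
      rw [← heq] at hx
      obtain ⟨y, hy, e⟩ := hx
      exact (MulAut.conj ((h : G) * g)).injective e ▸ hy
    refine ⟨ν ⟨_, hn⟩, ⟨_, rfl⟩, Subtype.ext ?_⟩
    rw [hνapp]
    show (h : G) * g * a * ((h : G) * g)⁻¹ = b
    have hb' := mem_centralizer_singleton_iff.mp h.2
    calc (h : G) * g * a * ((h : G) * g)⁻¹ = (h : G) * (g * a * g⁻¹) * (h : G)⁻¹ := by group
      _ = b := by rw [hg, hb', mul_inv_cancel_right]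
  obtain ⟨p, hp, R, hR⟩ := TransNormalizer.exists_sylow_normalizer_solvable hEc hE2 X htrans
  -- the normaliser of `X` modulo `X` is solvable
  set M := normalizer (X : Set (MulAut E)) with hMdef
  haveI : (X.subgroupOf M).Normal := Subgroup.normal_in_normalizer
  set R' := (R : Subgroup X).map X.subtype with hR'
  haveI := hR
  have hMX : Group.IsSolvable (M ⧸ X.subgroupOf M) := by
    haveI : Group.IsSolvable (normalizer (R' : Set (MulAut E)) ⊓ M : Subgroup (MulAut E)) :=
      Group.isSolvable_of_isSolvable_injective (f := inclusion (inf_le_left : normalizer (R' : Set (MulAut E)) ⊓ M ≤ _))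
        (inclusion_injective _)
    refine Group.isSolvable_of_surjective (f := (QuotientGroup.mk' (X.subgroupOf M)).comp
      (inclusion (inf_le_right : normalizer (R' : Set (MulAut E)) ⊓ M ≤ M))) fun q => ?_
    obtain ⟨m, rfl⟩ := QuotientGroup.mk'_surjective _ q
    let c : X ≃* X :=
      { toFun := fun x => ⟨(m : MulAut E) * x * (m : MulAut E)⁻¹, (mem_normalizer_iff.mp m.2 _).mp x.2⟩
        invFun := fun x => ⟨(m : MulAut E)⁻¹ * x * (m : MulAut E), (mem_normalizer_iff''.mp m.2 _).mp x.2⟩
        left_inv := fun x => Subtype.ext (by group)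
        right_inv := fun x => Subtype.ext (by group)
        map_mul' := fun x y => Subtype.ext (by push_cast; group) }
    obtain ⟨T, hT⟩ : ∃ T : Sylow p X, (T : Subgroup X) = (R : Subgroup X).map c.toMonoidHom := by
      refine ⟨(R.2.map c.toMonoidHom).toSylow ?_, rfl⟩
      rw [show ((R : Subgroup X).map c.toMonoidHom).index = (R : Subgroup X).index from index_map_equiv (R : Subgroup X) c]
      exact R.not_dvd_index
    obtain ⟨x, hx⟩ := MulAction.exists_smul_eq X T R
    have hxM : (x : MulAut E) * (m : MulAut E) ∈ M := mul_mem (Subgroup.le_normalizer x.2) m.2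
    have hle : ∀ r ∈ R', (x : MulAut E) * m * r * ((x : MulAut E) * m)⁻¹ ∈ R' := by
      rintro _ ⟨r, hr, rfl⟩
      refine ⟨x * c r * x⁻¹, ?_, ?_⟩
      · rw [← hx]
        refine Subgroup.mem_map_of_mem _ ?_
        show c r ∈ (T : Subgroup X)
        rw [hT]
        exact Subgroup.mem_map_of_mem _ hr
      · show (x : MulAut E) * ((m : MulAut E) * r * (m : MulAut E)⁻¹) * (x : MulAut E)⁻¹ = _
        simp only [Subgroup.subtype_apply]
        group
    have hmem' : (x : MulAut E) * m ∈ normalizer (R' : Set (MulAut E)) := by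
      have hsub : R'.map (MulAut.conj ((x : MulAut E) * m)).toMonoidHom ≤ R' := by
        rintro _ ⟨r, hr, rfl⟩; exact hle r hr
      have heq := Subgroup.eq_of_le_of_card_ge hsub
        (le_of_eq (Nat.card_congr (Subgroup.equivMapOfInjective R' _ (MulAut.conj ((x : MulAut E) * m)).injective).toEquiv))
      rw [mem_normalizer_iff]
      intro r
      refine ⟨hle r, fun hr => ?_⟩
      rw [← heq] at hr
      obtain ⟨r', hr', e⟩ := hr
      exact (MulAut.conj ((x : MulAut E) * m)).injective e ▸ hr'
    refine ⟨⟨_, hmem', hxM⟩, ?_⟩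
    show QuotientGroup.mk' (X.subgroupOf M) ⟨(x : MulAut E) * m, hxM⟩ = _
    rw [show (⟨(x : MulAut E) * m, hxM⟩ : M) = ⟨x, Subgroup.le_normalizer x.2⟩ * m from rfl, map_mul,
      show QuotientGroup.mk' (X.subgroupOf M) ⟨x, Subgroup.le_normalizer x.2⟩ = 1 from
        (QuotientGroup.eq_one_iff _).mpr x.2, one_mul]
  -- the image of the stabiliser of `S`
  set g : stab (S : Subgroup G) →* MulAut E := (restrict E).comp (inclusion hSE) with hgdef
  have hgM : g.range ≤ M := by
    rintro _ ⟨φ, rfl⟩
    have hone : ∀ ψ : stab E, ∀ y ∈ X, restrict E ψ * y * (restrict E ψ)⁻¹ ∈ X := by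
      rintro ψ _ ⟨n, rfl⟩
      obtain ⟨hn, e⟩ := hmove ψ n
      exact ⟨_, e.symm⟩
    rw [hMdef, mem_normalizer_iff]
    intro y
    refine ⟨hone _ y, fun hy => ?_⟩
    have h2 := hone (inclusion hSE φ)⁻¹ _ hy
    have hgg : g φ = restrict E (inclusion hSE φ) := rfl
    rw [map_inv, ← hgg, inv_inv] at h2
    simpa [mul_assoc] using h2
  -- the Sylow image
  let P : Sylow 2 X := (S.subtype hSN).mapSurjective ν.rangeRestrict_surjective
  haveI : Group.IsSolvable (normalizer ((P : Subgroup X) : Set X)) := by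
    haveI : Group.IsNilpotent (P : Subgroup X) := P.2.isNilpotent
    set P0 := (P : Subgroup X).subgroupOf (normalizer ((P : Subgroup X) : Set X)) with hP0
    haveI : P0.Normal := Subgroup.normal_in_normalizer
    haveI : Group.IsSolvable (normalizer ((P : Subgroup X) : Set X) ⧸ P0) := by
      refine odd _ (Nat.not_even_iff_odd.mp fun hev => P.not_dvd_index ?_)
      exact hev.two_dvd.trans (relIndex_dvd_index_of_le Subgroup.le_normalizer)
    haveI : Group.IsSolvable (P : Subgroup X) := inferInstance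
    haveI : Group.IsSolvable P0 := Group.isSolvable_of_isSolvable_injective
      (f := (Subgroup.subgroupOfEquivOfLe (Subgroup.le_normalizer (H := (P : Subgroup X)))).toMonoidHom)
      (MulEquiv.injective _)
    exact Group.isSolvable_of_ker_le_range P0.subtype (QuotientGroup.mk' P0)
      (by rw [QuotientGroup.ker_mk', range_subtype])
  have hgsol : Group.IsSolvable g.range := by
    set π := (QuotientGroup.mk' (X.subgroupOf M)).comp (inclusion hgM) with hπ
    haveI := hMX
    haveI : Group.IsSolvable π.range := inferInstance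
    haveI : Group.IsSolvable π.ker := by
      have hX' : ∀ y : π.ker, ((y : g.range) : MulAut E) ∈ X := fun y => by
        have h1 : π (y : g.range) = 1 := y.2
        exact (QuotientGroup.eq_one_iff (N := X.subgroupOf M) (inclusion hgM (y : g.range))).mp h1
      let emb : π.ker →* normalizer ((P : Subgroup X) : Set X) :=
        { toFun := fun y => ⟨⟨_, hX' y⟩, by
            obtain ⟨⟨_, φ, rfl⟩, hy⟩ := y
            have hsub : (P : Subgroup X).map (MulAut.conj (⟨g φ, hX' ⟨⟨g φ, φ, rfl⟩, hy⟩⟩ : X)).toMonoidHom ≤ P := by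
              rintro _ ⟨_, ⟨s, hs, rfl⟩, rfl⟩
              have hs' : (s : G) ∈ (S : Subgroup G) := hs
              obtain ⟨hn, e⟩ := hmove (inclusion hSE φ) s
              refine ⟨⟨(φ : MulAut G) s, hn⟩, ?_, Subtype.ext e.symm⟩
              exact (φ.2 _).mpr hs'
            have heq := Subgroup.eq_of_le_of_card_ge hsub
              (le_of_eq (Nat.card_congr (Subgroup.equivMapOfInjective (P : Subgroup X) _
                (MulAut.conj (⟨g φ, hX' ⟨⟨g φ, φ, rfl⟩, hy⟩⟩ : X)).injective).toEquiv))
            rw [mem_normalizer_iff]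
            intro x
            refine ⟨fun hx => hsub ⟨x, hx, rfl⟩, fun hx => ?_⟩
            rw [← heq] at hx
            obtain ⟨x', hx', e⟩ := hx
            exact (MulAut.conj (⟨g φ, hX' ⟨⟨g φ, φ, rfl⟩, hy⟩⟩ : X)).injective e ▸ hx'⟩
          map_one' := rfl
          map_mul' := fun _ _ => rfl }
      refine Group.isSolvable_of_isSolvable_injective (f := emb) fun y y' e => ?_
      exact Subtype.ext (Subtype.ext (congrArg (fun t : normalizer ((P : Subgroup X) : Set X) => ((t : X) : MulAut E)) e))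
    exact Group.isSolvable_of_ker_le_range π.ker.subtype π.rangeRestrict
      (by rw [MonoidHom.ker_rangeRestrict, range_subtype])
  refine isSolvable_out odd hG S ?_
  -- the action on `S`
  set f := (restrict (S : Subgroup G)).rangeRestrict with hf
  haveI : Finite (MulAut (S : Subgroup G)) := Finite.of_injective (fun a => (a : _ → _)) DFunLike.coe_injective
  set K := g.ker.map f with hK
  haveI : K.Normal := Subgroup.Normal.map inferInstance f (MonoidHom.rangeRestrict_surjective _)
  haveI : Group.IsSolvable K := by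
    refine TransNormalizer.isSolvable_of_perfect_trivial fun H hH => ?_
    refine eq_bot_iff.mpr fun h hh => Subgroup.mem_bot.mpr (Subtype.ext (Subtype.ext (MulEquiv.ext fun x => ?_)))
    let F : H →* MulAut (S : Subgroup G) := ((restrict (S : Subgroup G)).range.subtype.comp K.subtype).comp H.subtype
    refine FixInvolutions.apply_eq_self odd S.2 hH F (fun a y hy => ?_) ⟨h, hh⟩ x
    obtain ⟨φ, hφ, e⟩ := (a : K).2
    have e1 : F a = restrict (S : Subgroup G) φ := (congrArg Subtype.val e).symm
    rw [e1]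
    have hyE : (y : G) ∈ E := ⟨y.2, congrArg Subtype.val hy⟩
    have h1 := MulEquiv.congr_fun (show g φ = 1 from hφ) ⟨y, hyE⟩
    exact Subtype.ext (congrArg (fun t : E => (t : G)) h1)
  haveI := hgsol
  haveI : Group.IsSolvable ((restrict (S : Subgroup G)).range ⧸ K) := by
    haveI : Group.IsSolvable (stab (S : Subgroup G) ⧸ g.ker) :=
      Group.isSolvable_of_isSolvable_injective (f := (QuotientGroup.quotientKerEquivRange g).toMonoidHom)
        (MulEquiv.injective _)
    refine Group.isSolvable_of_surjective (f := QuotientGroup.map g.ker K f (Subgroup.le_comap_map _ _)) fun q => ?_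
    obtain ⟨y, rfl⟩ := QuotientGroup.mk'_surjective K q
    obtain ⟨φ, rfl⟩ := MonoidHom.rangeRestrict_surjective _ y
    exact ⟨QuotientGroup.mk' _ φ, rfl⟩
  exact Group.isSolvable_of_ker_le_range K.subtype (QuotientGroup.mk' K)
    (by rw [QuotientGroup.ker_mk', range_subtype])

end CfsgLib.AfterFT.OutSolvable
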