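import Cfsg.Agent.Lib.AfterFT.OutSolvable
import Cfsg.Agent.Lib.MetacyclicTwoAut
import Cfsg.Agent.Lib.CharTheory.Burnside
import Cfsg.Agent.Lib.Elementary
import Cfsg.Agent.Lib.Basic

/-!
Solvability of the outer automorphism group of a simple group whose Sylow 2-subgroup needs at most two generators, or
three and has a non-trivial automizer of odd order, given that groups of odd order are solvable (S3066 (a), (b)).
-/

set_option autoImplicit false
set_option linter.unusedSectionVars false
set_option linter.style.haveILetI false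

namespace CfsgLib.AfterFT.OutSolvable

open Cfsg Subgroup CfsgLib
open scoped commutatorElement

universe u

/-- Automorphisms of an elementary abelian group embed in a general linear group. -/
theorem card_mulAut_dvd {F : Type u} [Group F] [Finite F] (hc : ∀ a b : F, a * b = b * a)
    (h2 : ∀ a : F, a ^ 2 = 1) :
    ∃ e : ℕ, Nat.card F = 2 ^ e ∧ Nat.card (MulAut F) ∣ ∏ i : Fin e, (2 ^ e - 2 ^ (i : ℕ)) := by
  classical
  haveI : Fact (Nat.Prime 2) := ⟨Nat.prime_two⟩
  letI : CommGroup F := { (inferInstance : Group F) with mul_comm := hc }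
  letI : Module (ZMod 2) (Additive F) := AddCommGroup.zmodModule (n := 2) fun x => by
    show Additive.ofMul ((Additive.toMul x) ^ 2) = 0
    rw [h2]; rfl
  haveI : Module.Finite (ZMod 2) (Additive F) := Module.Finite.of_finite
  let b := Module.finBasis (ZMod 2) (Additive F)
  refine ⟨Module.finrank (ZMod 2) (Additive F), ?_, ?_⟩
  · have h := Nat.card_congr b.equivFun.toEquiv
    rw [Nat.card_fun, Nat.card_zmod, Nat.card_fin] at h
    exact (Nat.card_congr Additive.ofMul).trans h
  · let l : MulAut F →* (Additive F →ₗ[ZMod 2] Additive F)ˣ :=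
      MonoidHom.toHomUnits
        { toFun := fun φ => (MonoidHom.toAdditive (φ : F ≃* F).toMonoidHom).toZModLinearMap 2
          map_one' := LinearMap.ext fun _ => rfl
          map_mul' := fun _ _ => LinearMap.ext fun _ => rfl }
    have hl : Function.Injective l := fun φ ψ e => MulEquiv.ext fun x =>
      congrArg Additive.toMul
        (LinearMap.congr_fun (congrArg Units.val e) (Additive.ofMul x) :)
    let m : MulAut F →* GL (Fin (Module.finrank (ZMod 2) (Additive F))) (ZMod 2) :=
      (Units.map (LinearMap.toMatrixAlgEquiv b).toMulEquiv.toMonoidHom).comp l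
    have hm : Function.Injective m := by
      intro φ ψ e
      refine hl (Units.ext ((LinearMap.toMatrixAlgEquiv b).injective ?_))
      exact congrArg Units.val e
    refine (Subgroup.card_dvd_of_injective m hm).trans (dvd_of_eq ?_)
    rw [Matrix.card_GL_field]
    simp

/-- A group of order dividing `2 ^ 3 * r` for a prime `r` is solvable. -/
theorem isSolvable_of_dvd {Q : Type u} [Group Q] [Finite Q] {k r : ℕ} (hr : r.Prime)
    (h : Nat.card Q ∣ 2 ^ k * r) : Group.IsSolvable Q := by
  obtain ⟨d1, d2, h1, h2, e⟩ := exists_dvd_and_dvd_of_dvd_mul h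
  obtain ⟨a, -, rfl⟩ := (Nat.dvd_prime_pow Nat.prime_two).mp h1
  obtain ⟨b, -, rfl⟩ := (Nat.dvd_prime_pow hr).mp (show d2 ∣ r ^ 1 by rwa [pow_one])
  exact CfsgLib.CharTheory.isSolvable_of_card_two_primes Nat.prime_two hr e

/-- A group of order dividing `168` with a nontrivial normal subgroup of odd order is solvable. -/
theorem isSolvable_of_dvd_168 {Y : Type u} [Group Y] [Finite Y] (h : Nat.card Y ∣ 168) {X : Subgroup Y}
    [X.Normal] (hodd : Odd (Nat.card X)) (hX : X ≠ ⊥) : Group.IsSolvable Y := by
  have hd : Nat.card X ∣ 168 := (card_subgroup_dvd_card X).trans h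
  have h21 : Nat.card X ∣ 3 * 7 :=
    (Nat.Coprime.pow_right 3 (Nat.coprime_two_right.mpr hodd)).dvd_of_dvd_mul_left
      (show Nat.card X ∣ 2 ^ 3 * (3 * 7) by norm_num; exact hd)
  have hq : Nat.card X * Nat.card (Y ⧸ X) ∣ 168 := by
    have e : Nat.card X * Nat.card (Y ⧸ X) = Nat.card Y := card_mul_index X
    rw [e]; exact h
  haveI : Group.IsSolvable X := by
    rcases Nat.lt_or_ge 1 (Nat.card X) with h1 | h1
    · obtain ⟨d1, d2, h1', h2', e⟩ := exists_dvd_and_dvd_of_dvd_mul h21
      obtain ⟨a, -, rfl⟩ := (Nat.dvd_prime_pow (Nat.prime_three)).mp (show d1 ∣ 3 ^ 1 by rwa [pow_one])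
      obtain ⟨b, -, rfl⟩ := (Nat.dvd_prime_pow (show Nat.Prime 7 by norm_num)).mp (show d2 ∣ 7 ^ 1 by rwa [pow_one])
      exact CfsgLib.CharTheory.isSolvable_of_card_two_primes Nat.prime_three (by norm_num) e
    · exact absurd ((card_eq_one).mp (le_antisymm h1 Nat.card_pos)) hX
  haveI : Group.IsSolvable (Y ⧸ X) := by
    have hne : Nat.card X ≠ 1 := fun e => hX (card_eq_one.mp e)
    obtain ⟨r, hr, hrX⟩ := Nat.exists_prime_and_dvd hne
    have hq' : r * Nat.card (Y ⧸ X) ∣ 168 := (Nat.mul_dvd_mul_right hrX _).trans hq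
    rcases (Nat.Prime.dvd_mul hr).mp (hrX.trans h21) with h3 | h7
    · obtain rfl := (Nat.prime_dvd_prime_iff_eq hr Nat.prime_three).mp h3
      exact isSolvable_of_dvd (show Nat.Prime 7 by norm_num) (k := 3)
        ((Nat.mul_dvd_mul_iff_left (show 0 < 3 by norm_num)).mp
          (show 3 * Nat.card (Y ⧸ X) ∣ 3 * (2 ^ 3 * 7) by norm_num; exact hq'))
    · obtain rfl := (Nat.prime_dvd_prime_iff_eq hr (show Nat.Prime 7 by norm_num)).mp h7
      exact isSolvable_of_dvd Nat.prime_three (k := 3)
        ((Nat.mul_dvd_mul_iff_left (show 0 < 7 by norm_num)).mp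
          (show 7 * Nat.card (Y ⧸ X) ∣ 7 * (2 ^ 3 * 3) by norm_num; exact hq'))
  exact Group.isSolvable_of_ker_le_range X.subtype (QuotientGroup.mk' X)
    (by rw [QuotientGroup.ker_mk', range_subtype])

/-- The action of automorphisms on the Frattini quotient. -/
def frattiniHom (P : Type u) [Group P] : MulAut P →* MulAut (P ⧸ frattini P) where
  toFun φ := QuotientGroup.congr (frattini P) (frattini P) φ
    (Subgroup.characteristic_iff_map_eq.mp (inferInstance : (frattini P).Characteristic) φ)
  map_one' := MulEquiv.ext fun x => by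
    obtain ⟨x, rfl⟩ := QuotientGroup.mk_surjective x; rfl
  map_mul' := fun φ ψ => MulEquiv.ext fun x => by
    obtain ⟨x, rfl⟩ := QuotientGroup.mk_surjective x; rfl

theorem frattiniHom_apply {P : Type u} [Group P] (φ : MulAut P) (x : P) :
    frattiniHom P φ (x : P ⧸ frattini P) = (φ x : P ⧸ frattini P) := rfl

theorem mem_frattini_of_ker {P : Type u} [Group P] {φ : MulAut P} (h : φ ∈ (frattiniHom P).ker) (x : P) :
    φ x * x⁻¹ ∈ frattini P := by
  have h1 := DFunLike.congr_fun (h : frattiniHom P φ = 1) (x : P ⧸ frattini P)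
  rw [frattiniHom_apply, MulAut.one_apply, ← QuotientGroup.mk'_apply, ← QuotientGroup.mk'_apply] at h1
  rw [← QuotientGroup.eq_one_iff, ← QuotientGroup.mk'_apply, map_mul, map_inv, h1, mul_inv_cancel]

/-- A group of automorphisms of a 2-group is solvable if its action on the Frattini quotient is. -/
theorem isSolvable_of_frattini {P : Type u} [Group P] [Finite P] (hP : IsPGroup 2 P) (A : Subgroup (MulAut P))
    (h : Group.IsSolvable ((frattiniHom P).comp A.subtype).range) : Group.IsSolvable A := by
  haveI : Fact (Nat.Prime 2) := ⟨Nat.prime_two⟩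
  haveI : Finite (MulAut P) := Finite.of_injective (fun f => (f : P → P)) DFunLike.coe_injective
  obtain ⟨n, hn⟩ := hP.exists_card_eq
  obtain ⟨r, -, hr⟩ := (Nat.dvd_prime_pow Nat.prime_two).1 (hn ▸ Subgroup.index_dvd_card (frattini P))
  have hd := Cfsg.Agent.S4207.aut_card_dvd hn hr (frattiniHom P).ker (fun α hα => mem_frattini_of_ker hα)
  obtain ⟨i, -, hi⟩ := (Nat.dvd_prime_pow Nat.prime_two).mp hd
  haveI : Group.IsNilpotent (frattiniHom P).ker := (IsPGroup.of_card hi).isNilpotent
  haveI : Group.IsSolvable (((frattiniHom P).comp A.subtype).ker) := by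
    refine Group.isSolvable_of_isSolvable_injective
      (f := ((A.subtype).comp ((frattiniHom P).comp A.subtype).ker.subtype).codRestrict (frattiniHom P).ker
        fun x => x.2) ?_
    intro x y e
    have e' := congrArg Subtype.val e
    exact Subtype.ext (Subtype.ext e')
  haveI := h
  exact Group.isSolvable_of_ker_le_range ((frattiniHom P).comp A.subtype).ker.subtype
    ((frattiniHom P).comp A.subtype).rangeRestrict (by rw [MonoidHom.ker_rangeRestrict, range_subtype])

/-- The Frattini quotient of a 2-group is elementary abelian. -/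
theorem frattini_quotient {P : Type u} [Group P] [Finite P] (hP : IsPGroup 2 P) :
    (∀ a b : P ⧸ frattini P, a * b = b * a) ∧ ∀ a : P ⧸ frattini P, a ^ 2 = 1 := by
  haveI : Fact (Nat.Prime 2) := ⟨Nat.prime_two⟩
  refine ⟨fun a b => ?_, fun a => ?_⟩
  · obtain ⟨a, rfl⟩ := QuotientGroup.mk'_surjective _ a
    obtain ⟨b, rfl⟩ := QuotientGroup.mk'_surjective _ b
    rw [← commutatorElement_eq_one_iff_mul_comm, ← map_commutatorElement]
    exact (QuotientGroup.eq_one_iff _).mpr
      (commutator_le_frattini_pGroup hP (commutator_mem_commutator (mem_top a) (mem_top b)))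
  · obtain ⟨a, rfl⟩ := QuotientGroup.mk'_surjective _ a
    rw [← map_pow]
    exact (QuotientGroup.eq_one_iff _).mpr (pow_mem_frattini_pGroup hP a)

/-- The order of an exponent two abelian group generated by three elements. -/
theorem card_dvd_of_gen {F : Type u} [Group F] [Finite F] (hc : ∀ a b : F, a * b = b * a)
    (h2 : ∀ a : F, a ^ 2 = 1) (s : Finset F) (hs : closure (s : Set F) = ⊤) : Nat.card F ∣ 2 ^ s.card := by
  classical
  suffices h : ∀ t : Finset F, Nat.card (closure (t : Set F)) ∣ 2 ^ t.card by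
    have := h s
    rwa [hs, card_top] at this
  intro t
  induction t using Finset.induction_on with
  | empty => simp
  | insert a t ha ih =>
    rw [Finset.coe_insert, Set.insert_eq, Subgroup.closure_union, ← zpowers_eq_closure,
      Finset.card_insert_of_notMem ha, pow_succ']
    haveI : (closure (t : Set F)).Normal := ⟨fun n hn g => by rw [hc g n, mul_inv_cancel_right]; exact hn⟩
    refine (CfsgLib.card_sup_dvd_mul _ _).trans (mul_dvd_mul ?_ ih)
    rw [Nat.card_zpowers]
    exact orderOf_dvd_of_pow_eq_one (h2 a)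

variable {G : Type u} [Group G] [Finite G]

/-- **S3066 (a), (b)**, given that groups of odd order are solvable. -/
theorem isSolvable_out_of_gen (odd : ∀ (H : Type u) [Group H] [Finite H], Odd (Nat.card H) → Group.IsSolvable H)
    [IsSimpleGroup G] (hG : ¬ IsMulCommutative G) (S : Sylow 2 G)
    (h : (∃ a b : ↥S, Subgroup.closure ({a, b} : Set ↥S) = ⊤) ∨
      ((∃ a b c : ↥S, Subgroup.closure ({a, b, c} : Set ↥S) = ⊤) ∧
        ∃ g ∈ Subgroup.normalizer ((S : Subgroup G) : Set G), Odd (orderOf g) ∧
          g ∉ Subgroup.centralizer ((S : Subgroup G) : Set G))) :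
    Group.IsSolvable (Cfsg.Out G) := by
  classical
  haveI : Fact (Nat.Prime 2) := ⟨Nat.prime_two⟩
  refine isSolvable_out odd hG S (isSolvable_of_frattini S.2 _ ?_)
  obtain ⟨hc, h2⟩ := frattini_quotient S.2
  obtain ⟨e, he, hdvd⟩ := card_mulAut_dvd hc h2
  set π := QuotientGroup.mk' (frattini (S : Subgroup G)) with hπ
  have hgen : ∀ s : Finset (S : Subgroup G), closure (s : Set (S : Subgroup G)) = ⊤ →
      Nat.card (↥(S : Subgroup G) ⧸ frattini (S : Subgroup G)) ∣ 2 ^ s.card := fun s hs => by
    refine (card_dvd_of_gen hc h2 (s.image π) ?_).trans (pow_dvd_pow 2 Finset.card_image_le)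
    rw [Finset.coe_image, ← MonoidHom.map_closure, hs,
      map_top_of_surjective π (QuotientGroup.mk'_surjective _)]
  set ρ := (frattiniHom (S : Subgroup G)).comp (restrict (S : Subgroup G)).range.subtype with hρ
  haveI : Finite (MulAut (↥(S : Subgroup G) ⧸ frattini (S : Subgroup G))) :=
    Finite.of_injective (fun f => (f : _ → _)) DFunLike.coe_injective
  have hY : Nat.card ρ.range ∣ ∏ i : Fin e, (2 ^ e - 2 ^ (i : ℕ)) := (card_subgroup_dvd_card _).trans hdvd
  rcases h with ⟨a, b, hab⟩ | ⟨⟨a, b, c, habc⟩, g, hg, hgo, hgc⟩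
  · have hle : e ≤ 2 := (Nat.pow_dvd_pow_iff_le_right (le_refl 2)).mp
      (he ▸ (hgen {a, b} (by simpa using hab)).trans (pow_dvd_pow 2 Finset.card_le_two))
    refine isSolvable_of_dvd (k := 1) Nat.prime_three (hY.trans ?_)
    interval_cases e <;> simp [Fin.prod_univ_two]
  · have hle : e ≤ 3 := (Nat.pow_dvd_pow_iff_le_right (le_refl 2)).mp
      (he ▸ (hgen {a, b, c} (by simpa using habc)).trans (pow_dvd_pow 2 Finset.card_le_three))
    have h168 : Nat.card ρ.range ∣ 168 := hY.trans (by
      interval_cases e <;> simp [Fin.prod_univ_two, Fin.prod_univ_three])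
    -- the image of the normalizer
    have hmem : ∀ n ∈ normalizer ((S : Subgroup G) : Set G), MulAut.conj n ∈ stab (S : Subgroup G) :=
      fun n hn x => (mem_normalizer_iff.mp hn x).symm
    let ν : normalizer ((S : Subgroup G) : Set G) →* ρ.range :=
      ρ.rangeRestrict.comp ((restrict (S : Subgroup G)).rangeRestrict.comp
        { toFun := fun n => ⟨MulAut.conj (n : G), hmem n n.2⟩
          map_one' := Subtype.ext (map_one MulAut.conj)
          map_mul' := fun x y => Subtype.ext (map_mul MulAut.conj (x : G) y) })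
    haveI : ν.range.Normal := ⟨by
      rintro _ ⟨n, rfl⟩ ⟨_, ⟨⟨_, φ, rfl⟩, rfl⟩⟩
      refine ⟨⟨(φ : MulAut G) n, ?_⟩, ?_⟩
      · rw [mem_normalizer_iff]
        intro x
        obtain ⟨y, rfl⟩ := (φ : MulAut G).surjective x
        rw [φ.2 y, ← map_inv, ← map_mul, ← map_mul, φ.2]
        exact mem_normalizer_iff.mp n.2 y
      · refine Subtype.ext ?_
        show frattiniHom _ (restrict (S : Subgroup G) ⟨MulAut.conj ((φ : MulAut G) n), _⟩) =
          frattiniHom _ (restrict (S : Subgroup G) φ) * frattiniHom _ (restrict (S : Subgroup G) ⟨MulAut.conj (n : G), _⟩) *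
            (frattiniHom _ (restrict (S : Subgroup G) φ))⁻¹
        refine Eq.trans (congrArg (fun z => frattiniHom _ (restrict (S : Subgroup G) z))
          (show _ = φ * ⟨MulAut.conj (n : G), hmem n n.2⟩ * φ⁻¹ from Subtype.ext (MulEquiv.ext fun x => ?_))) ?_
        · show (φ : MulAut G) n * x * ((φ : MulAut G) n)⁻¹ =
            (φ : MulAut G) ((n : G) * (φ : MulAut G).symm x * (n : G)⁻¹)
          rw [map_mul, map_mul, MulEquiv.apply_symm_apply, map_inv]
        · simp only [map_mul, map_inv]⟩
    refine isSolvable_of_dvd_168 h168 (X := ν.range) ?_ ?_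
    · -- inner automorphisms act trivially
      have hle' : (S : Subgroup G).subgroupOf (normalizer ((S : Subgroup G) : Set G)) ≤ ν.ker := by
        intro n hn
        refine MonoidHom.mem_ker.mpr (Subtype.ext (MulEquiv.ext fun x => ?_))
        obtain ⟨x, rfl⟩ := QuotientGroup.mk'_surjective _ x
        show π ((⟨(n : G), hn⟩ : (S : Subgroup G)) * x * (⟨(n : G), hn⟩ : (S : Subgroup G))⁻¹) = π x
        rw [map_mul, map_mul, hc, map_inv, ← mul_assoc, inv_mul_cancel, one_mul]
      have hd : Nat.card ν.range ∣ ((S : Subgroup G).subgroupOf (normalizer ((S : Subgroup G) : Set G))).index := by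
        rw [← index_ker]
        exact index_dvd_of_le hle'
      refine Nat.not_even_iff_odd.mp fun hev => ?_
      refine S.not_dvd_index ((hev.two_dvd.trans hd).trans ?_)
      exact relIndex_dvd_index_of_le Subgroup.le_normalizer
    · intro hbot
      refine hgc ?_
      have h1 : ν ⟨g, hg⟩ = 1 := mem_bot.mp (hbot ▸ ⟨_, rfl⟩)
      have h3 : restrict (S : Subgroup G) ⟨MulAut.conj g, hmem g hg⟩ = 1 := by
        refine CfsgLib.MetacyclicTwo.eq_one_of_trivial_mod_frattini S.2 _ ?_
          (mem_frattini_of_ker (congrArg Subtype.val h1))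
        refine hgo.of_dvd_nat ((orderOf_map_dvd _ _).trans ?_)
        rw [← Subgroup.orderOf_coe]
        exact orderOf_map_dvd MulAut.conj g
      refine mem_centralizer_iff.mpr fun x hx => ?_
      have h4 := congrArg (fun a : MulAut (S : Subgroup G) => ((a ⟨x, hx⟩ : (S : Subgroup G)) : G)) h3
      simp only [restrict_apply, MulAut.one_apply, MulAut.conj_apply] at h4
      rw [mul_inv_eq_iff_eq_mul] at h4
      exact h4.symm

end CfsgLib.AfterFT.OutSolvable
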