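import Cfsg.Agent.Lib.HallPi
import Cfsg.Agent.Lib.PSolvable

/-!
Finite `π`-separable groups satisfy `D_π`, once the groups of odd order are known to be solvable: then one of
two groups of coprime orders is solvable, so the conjugacy half of the Schur-Zassenhaus theorem holds in general.
-/

set_option autoImplicit false
set_option linter.unusedSectionVars false

namespace CfsgLib.AfterFT.PiSepHall

open Subgroup Cfsg CfsgLib
open scoped Pointwise

universe u

/-- A `π`-group or a `π'`-group. -/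
def PiOrPrime (π : Set ℕ) (n : ℕ) : Prop :=
  (∀ q : ℕ, q.Prime → q ∣ n → q ∈ π) ∨ ∀ q : ℕ, q.Prime → q ∣ n → q ∉ π

theorem PiOrPrime.of_dvd {π : Set ℕ} {m n : ℕ} (h : PiOrPrime π n) (hd : m ∣ n) : PiOrPrime π m :=
  h.imp (fun h q hq hqm => h q hq (hqm.trans hd)) fun h q hq hqm => h q hq (hqm.trans hd)

theorem solvable_of_coprime (odd : ∀ (H : Type u) [Group H] [Finite H], Odd (Nat.card H) → Group.IsSolvable H)
    {G : Type u} [Group G] [Finite G] {A B : Subgroup G} (h : (Nat.card A).Coprime (Nat.card B)) :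
    Group.IsSolvable A ∨ Group.IsSolvable B := by
  rcases Nat.even_or_odd (Nat.card A) with hA | hA
  · refine Or.inr (odd B (Nat.not_even_iff_odd.mp fun hB => ?_))
    have := Nat.dvd_gcd hA.two_dvd hB.two_dvd
    rw [h.gcd_eq_one] at this
    norm_num at this
  · exact Or.inl (odd A hA)

/-- `D_π`, by induction along the series. -/
theorem hall_dominance (odd : ∀ (H : Type u) [Group H] [Finite H], Odd (Nat.card H) → Group.IsSolvable H)
    (π : Set ℕ) (n : ℕ) : ∀ {G : Type u} [Group G] [Finite G] (H : Fin (n + 1) → Subgroup G), H 0 = ⊥ →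
      H (Fin.last n) = ⊤ → Monotone H → (∀ i, (H i).Normal) →
      (∀ i : Fin n, PiOrPrime π ((H i.castSucc).relIndex (H i.succ))) →
      (∃ K : Subgroup G, IsPiHall π K) ∧
        ∀ K : Subgroup G, IsPiHall π K → ∀ U : Subgroup G, (∀ q : ℕ, q.Prime → q ∣ Nat.card U → q ∈ π) →
          ∃ g : G, MulAut.conj g • U ≤ K := by
  induction n with
  | zero =>
    intro G _ _ H h0 hl _ _ _
    have e : (⊤ : Subgroup G) = ⊥ := by rw [← hl, ← h0]; rfl
    refine ⟨⟨⊥, fun q hq hd => ?_, fun q hq _ hd => ?_⟩, fun K _ U _ => ⟨1, fun x _ => ?_⟩⟩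
    · rw [card_bot] at hd; exact absurd (Nat.dvd_one.mp hd) hq.ne_one
    · rw [← e, index_top] at hd; exact absurd (Nat.dvd_one.mp hd) hq.ne_one
    · have : x ∈ (⊥ : Subgroup G) := e ▸ mem_top x
      rw [mem_bot.mp this]; exact one_mem K
  | succ n ih =>
    intro G _ _ H h0 hl hmono hnorm hidx
    set N := H (Fin.succ 0) with hN
    haveI : N.Normal := hnorm _
    have hNpi : PiOrPrime π (Nat.card N) := by
      have := hidx 0
      rwa [Fin.castSucc_zero, h0, relIndex_bot_left] at this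
    set f := QuotientGroup.mk' N with hf
    have hsurj : Function.Surjective f := QuotientGroup.mk'_surjective N
    have hker : f.ker = N := QuotientGroup.ker_mk' N
    have hNle : ∀ i : Fin (n + 1), N ≤ H i.succ := fun i => hmono (Fin.succ_le_succ_iff.mpr (Fin.zero_le i))
    obtain ⟨⟨K₁, hK₁⟩, hdom⟩ := ih (fun i => (H i.succ).map f)
      (show N.map f = ⊥ from (Subgroup.map_eq_bot_iff _).mpr hker.ge)
      (show (H (Fin.last n).succ).map f = ⊤ by
        rw [Fin.succ_last, hl, map_top_of_surjective f hsurj])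
      (fun i j hij => map_mono (hmono (Fin.succ_le_succ_iff.mpr hij)))
      (fun i => (hnorm _).map f hsurj)
      (fun i => (hidx i.succ).of_dvd (by
        rw [relIndex_map_map, hker, sup_eq_left.mpr (hNle _), sup_eq_left.mpr (hNle _),
          Fin.castSucc_succ]))
    have hcK : ∀ M : Subgroup (G ⧸ N), Nat.card (M.comap f) = Nat.card N * Nat.card M := fun M =>
      card_comap_mk N M
    have hiK : ∀ M : Subgroup (G ⧸ N), (M.comap f).index = M.index := fun M =>
      index_comap_of_surjective M hsurj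
    have himage : ∀ U : Subgroup G, (∀ q : ℕ, q.Prime → q ∣ Nat.card U → q ∈ π) →
        ∀ q : ℕ, q.Prime → q ∣ Nat.card (U.map f) → q ∈ π := fun U hU q hq hd =>
      hU q hq (hd.trans (card_map_dvd _ _))
    have himH : ∀ K : Subgroup G, IsPiHall π K → IsPiHall π (K.map f) := fun K hK =>
      ⟨himage K hK.1, fun q hq hqπ hd => hK.2 q hq hqπ (hd.trans (index_map_dvd _ hsurj))⟩
    have hmem : ∀ (x : G) (M : Subgroup G), f x ∈ M.map f → ∃ a ∈ M, ∃ m ∈ N, x = a * m := fun x M hx => by
      obtain ⟨a, ha, hax⟩ := hx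
      exact ⟨a, ha, a⁻¹ * x, QuotientGroup.eq.mp hax, by group⟩
    have hconj : ∀ (g : G) (M : Subgroup G), (MulAut.conj g • M).map f = MulAut.conj (f g) • M.map f := by
      intro g M
      ext y
      constructor
      · rintro ⟨x, hx, rfl⟩
        rw [mem_conj_smul_iff] at ⊢
        exact ⟨g⁻¹ * x * g, mem_conj_smul_iff.mp hx, by simp⟩
      · intro hy
        rw [mem_conj_smul_iff] at hy
        obtain ⟨z, hz, hze⟩ := hy
        exact ⟨g * z * g⁻¹, mem_conj_smul_iff.mpr (by simpa [mul_assoc] using hz), by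
          rw [map_mul, map_mul, map_inv, hze]; group⟩
    rcases hNpi with hπ | hπ
    · -- a normal `π`-subgroup lies in every Hall subgroup
      refine ⟨⟨K₁.comap f, fun q hq hd => ?_, fun q hq hqπ => by rw [hiK]; exact hK₁.2 q hq hqπ⟩, ?_⟩
      · rw [hcK] at hd
        exact (hq.dvd_mul.mp hd).elim (hπ q hq) (hK₁.1 q hq)
      intro K hK U hU
      have hNK : N ≤ K := by
        have hle : K ≤ (K.map f).comap f := le_comap_map f K
        have heq : K = (K.map f).comap f := by
          refine eq_of_le_of_card_ge hle (Nat.le_of_dvd Nat.card_pos ?_)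
          refine (coprime_of_pi (fun q hq hd => ?_) hK.2).dvd_of_dvd_mul_right
            (K.card_mul_index.symm ▸ card_subgroup_dvd_card _)
          rw [hcK] at hd
          exact (hq.dvd_mul.mp hd).elim (hπ q hq) ((himH K hK).1 q hq)
        rw [heq]
        exact hker.ge.trans (ker_le_comap _ _)
      obtain ⟨g₁, hg₁⟩ := hdom _ (himH K hK) _ (himage U hU)
      obtain ⟨g, rfl⟩ := hsurj g₁
      rw [← hconj] at hg₁
      refine ⟨g, fun x hx => ?_⟩
      obtain ⟨a, ha, m, hm, rfl⟩ := hmem x K (hg₁ ⟨x, hx, rfl⟩)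
      exact K.mul_mem ha (hNK hm)
    · -- a normal `π'`-subgroup: Schur-Zassenhaus
      have hcop : ∀ U : Subgroup G, (∀ q : ℕ, q.Prime → q ∣ Nat.card U → q ∈ π) →
          (Nat.card U).Coprime (Nat.card N) := fun U hU =>
        coprime_of_pi hU fun q hq hqπ hd => hπ q hq hd hqπ
      refine ⟨?_, ?_⟩
      · set L := K₁.comap f with hL
        have hNL : N ≤ L := hker.ge.trans (ker_le_comap _ _)
        have hidxL : (N.subgroupOf L).index = Nat.card K₁ := by
          have h1 := card_mul_relIndex hNL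
          rw [hcK] at h1
          exact Nat.eq_of_mul_eq_mul_left Nat.card_pos h1
        obtain ⟨C, hC⟩ := exists_right_complement'_of_coprime (N := N.subgroupOf L) (by
          rw [hidxL, Nat.card_congr (subgroupOfEquivOfLe hNL).toEquiv]
          exact (coprime_of_pi hK₁.1 fun q hq hqπ hd => hπ q hq hd hqπ).symm)
        have hCc : Nat.card (C.map L.subtype) = Nat.card K₁ := by
          rw [card_map_of_injective L.subtype_injective, ← hC.symm.index_eq_card, hidxL]
        refine ⟨C.map L.subtype, fun q hq hd => hK₁.1 q hq (hCc ▸ hd), fun q hq hqπ hd => ?_⟩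
        have h1 := (C.map L.subtype).card_mul_index
        have h2 : (C.map L.subtype).index = Nat.card N * K₁.index := by
          have h3 := L.card_mul_index
          rw [hcK, hiK, ← h1, hCc] at h3
          exact Nat.eq_of_mul_eq_mul_left Nat.card_pos (by rw [← h3]; ring)
        rw [h2] at hd
        exact (hq.dvd_mul.mp hd).elim (fun h => hπ q hq h hqπ) (hK₁.2 q hq hqπ)
      intro K hK U hU
      obtain ⟨g₁, hg₁⟩ := hdom _ (himH K hK) _ (himage U hU)
      obtain ⟨g, rfl⟩ := hsurj g₁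
      rw [← hconj] at hg₁
      set U' := MulAut.conj g • U with hU'
      have hU'c : Nat.card U' = Nat.card U := card_conj_smul g U
      have hU'π : ∀ q : ℕ, q.Prime → q ∣ Nat.card U' → q ∈ π := fun q hq hd => hU q hq (hU'c ▸ hd)
      have hU'N : U' ≤ normalizer (N : Set G) := by
        rw [normalizer_eq_top]; exact le_top
      set B := K ⊓ (N ⊔ U') with hB
      have hKN : ∀ x ∈ K, x ∈ N → x = 1 := fun x hx hxN =>
        disjoint_def.mp (disjoint_of_coprime_natCard (hcop K hK.1)) hx hxN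
      have hBc : Nat.card B = Nat.card U' := by
        have hex : ∀ u : U', ∃ b : B, (u : G)⁻¹ * b ∈ N := fun u => by
          obtain ⟨a, ha, m, hm, hum⟩ := hmem (u : G) K (hg₁ ⟨u, u.2, rfl⟩)
          have hm' : (u : G)⁻¹ * a ∈ N := by
            rw [hum, mul_inv_rev, mul_assoc, inv_mul_cancel, mul_one]; exact inv_mem hm
          refine ⟨⟨a, ha, ?_⟩, hm'⟩
          have h1 : a = (u : G) * ((u : G)⁻¹ * a) := by group
          rw [h1]
          exact mul_mem (mem_sup_right u.2) (mem_sup_left hm')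
        choose b hb using hex
        refine (Nat.card_congr (Equiv.ofBijective b ⟨fun x y e => ?_, fun z => ?_⟩)).symm
        · have h1 : (x : G)⁻¹ * y ∈ N := by
            have := mul_mem (hb x) (inv_mem (hb y))
            rw [e] at this
            simpa [mul_assoc] using this
          have h2 : (x : G)⁻¹ * y = 1 :=
            disjoint_def.mp (disjoint_of_coprime_natCard (hcop U' hU'π)) (mul_mem (inv_mem x.2) y.2) h1
          exact Subtype.ext (inv_mul_eq_one.mp h2)
        · obtain ⟨m, hm, u, hu, hzu⟩ := mem_sup_of_le_normalizer hU'N z.2.2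
          refine ⟨⟨u, hu⟩, Subtype.ext (inv_mul_eq_one.mp (hKN _ (K.mul_mem (inv_mem (b ⟨u, hu⟩).2.1) z.2.1) ?_))⟩
          have h1 : ((b ⟨u, hu⟩ : G))⁻¹ * (z : G) = ((u : G)⁻¹ * b ⟨u, hu⟩)⁻¹ * (u⁻¹ * m * u⁻¹⁻¹) := by
            rw [← hzu]; group
          rw [h1]
          exact mul_mem (inv_mem (hb ⟨u, hu⟩)) (Normal.conj_mem inferInstance m hm _)
      obtain ⟨m, -, hmB⟩ := exists_conj_complement hU'N (hcop U' hU'π)
        (solvable_of_coprime odd (hcop U' hU'π)) (B := B) inf_le_right hBc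
      refine ⟨m * g, ?_⟩
      rw [← conj_smul_mul, hmB]
      exact inf_le_left

/-- A finite `π`-separable group satisfies `D_π` (S1908). -/
theorem pi_separable_hall (odd : ∀ (H : Type u) [Group H] [Finite H], Odd (Nat.card H) → Group.IsSolvable H)
    {G : Type u} [Group G] [Finite G] (π : Set ℕ)
    (hsep : ∃ (n : ℕ) (H : Fin (n + 1) → Subgroup G), H 0 = ⊥ ∧ H (Fin.last n) = ⊤ ∧ Monotone H ∧ (∀ i, (H i).Normal) ∧
      ∀ i : Fin n, (∀ q : ℕ, q.Prime → q ∣ (H i.castSucc).relIndex (H i.succ) → q ∈ π) ∨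
        (∀ q : ℕ, q.Prime → q ∣ (H i.castSucc).relIndex (H i.succ) → q ∉ π)) :
    (∃ K : Subgroup G, Cfsg.IsPiHall π K) ∧
      (∀ K L : Subgroup G, Cfsg.IsPiHall π K → Cfsg.IsPiHall π L → ∃ g : G, L = K.map (MulAut.conj g).toMonoidHom) ∧
      ∀ U : Subgroup G, (∀ q : ℕ, q.Prime → q ∣ Nat.card U → q ∈ π) → ∃ K : Subgroup G, Cfsg.IsPiHall π K ∧ U ≤ K := by
  obtain ⟨n, H, h0, hl, hmono, hnorm, hidx⟩ := hsep
  obtain ⟨⟨K₀, hK₀⟩, hdom⟩ := hall_dominance odd π n H h0 hl hmono hnorm hidx
  have hcard : ∀ K L : Subgroup G, IsPiHall π K → IsPiHall π L → Nat.card K ∣ Nat.card L := fun K L hK hL =>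
    (coprime_of_pi hK.1 hL.2).dvd_of_dvd_mul_right (L.card_mul_index ▸ card_subgroup_dvd_card K)
  have hmap : ∀ (g : G) (K : Subgroup G), MulAut.conj g • K = K.map (MulAut.conj g).toMonoidHom := fun g K => by
    rw [Subgroup.pointwise_smul_def]; rfl
  refine ⟨⟨K₀, hK₀⟩, fun K L hK hL => ?_, fun U hU => ?_⟩
  · obtain ⟨g, hg⟩ := hdom L hL K hK.1
    refine ⟨g, ?_⟩
    rw [← hmap]
    refine (eq_of_le_of_card_ge hg ?_).symm
    rw [card_conj_smul]
    exact Nat.le_of_dvd Nat.card_pos (hcard L K hL hK)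
  · obtain ⟨g, hg⟩ := hdom K₀ hK₀ U hU
    refine ⟨MulAut.conj g⁻¹ • K₀, ⟨fun q hq hd => hK₀.1 q hq ?_, fun q hq hqπ hd => hK₀.2 q hq hqπ ?_⟩, ?_⟩
    · rwa [card_conj_smul] at hd
    · have h1 : Nat.card (MulAut.conj g⁻¹ • K₀ : Subgroup G) * (MulAut.conj g⁻¹ • K₀ : Subgroup G).index =
          Nat.card K₀ * K₀.index := by rw [card_mul_index, card_mul_index]
      rw [card_conj_smul] at h1
      rwa [Nat.eq_of_mul_eq_mul_left Nat.card_pos h1] at hd
    · intro x hx
      rw [mem_conj_smul_iff]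
      have := hg (show g * x * g⁻¹ ∈ MulAut.conj g • U from mem_conj_smul_iff.mpr (by simpa [mul_assoc] using hx))
      simpa using this

end CfsgLib.AfterFT.PiSepHall
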