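import Mathlib
import Cfsg.Agent.Lib.PrimClass.Main

/-!
The degree of a primitive character of a solvable group and a class size.
-/

set_option autoImplicit false

namespace CfsgLib.AfterFT

open Cfsg

/-- S4991 with solvability as a hypothesis. -/
theorem primitive_degree_le_class {G : Type*} [Group G] [Fintype G] [Group.IsSolvable G] (χ : G → ℂ)
    (hχ : IsIrrCharacter G χ)
    (hprim : ¬ ∃ (H : Subgroup G), H ≠ ⊤ ∧ ∃ θ : ↥H → ℂ, IsCharacter ↥H θ ∧ indFun H θ = χ)
    (p : ℕ) [Fact p.Prime] :
    ∃ g : G, (charDegree χ).factorization p ≤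
      ((Subgroup.centralizer ({g} : Set G)).index).factorization p := by
  obtain ⟨L, -, hb, g, hg⟩ := CfsgLib.PrimClass.main (p := p) hχ hprim
  exact ⟨g, hg.trans (hb g)⟩

end CfsgLib.AfterFT
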