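import Mathlib
import Cfsg.Prelude.Def_Solvable
import Cfsg.Agent.Lib.ActionStab.Constant
import Cfsg.Agent.Lib.PSolvable
import Cfsg.Agent.Lib.Basic

/-!
Solvable transitive linear groups of odd order.
-/

set_option autoImplicit false
set_option linter.unusedSectionVars false
set_option linter.style.haveILetI false

namespace CfsgLib.AfterFT

open Cfsg

variable {D E : Type*} [Group D] [Finite D] [AddCommGroup E] [Finite E] [Nontrivial E]
  [DistribMulAction D E] [FaithfulSMul D E]

/-- A normal `p`-subgroup of an odd order transitive linear group is cyclic and fixed point free. -/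
theorem normal_pSubgroup_cyclic (hodd : Odd (Nat.card D)) {q : ℕ} (hq : q.Prime) (hE : ∀ e : E, q • e = 0)
    (htrans : ∀ a b : E, a ≠ 0 → b ≠ 0 → ∃ d : D, d • a = b) {p : ℕ} [hp : Fact p.Prime] (P : Subgroup D) [P.Normal]
    (hP : IsPGroup p P) : IsCyclic P ∧ ∀ g : P, g ≠ 1 → ∀ a : E, g • a = a → a = 0 := by
  by_cases hbot : P = ⊥
  · subst hbot
    exact ⟨inferInstance, fun g hg => absurd (Subsingleton.elim g 1) hg⟩
  have hp2 : p ≠ 2 := by
    rintro rfl
    obtain ⟨k, hk⟩ := hP.exists_card_eq
    have h1 : k ≠ 0 := fun h => hbot ((Subgroup.card_eq_one).mp (by rw [hk, h, pow_zero]))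
    exact (Nat.not_even_iff_odd.mpr (hodd.of_dvd_nat P.card_subgroup_dvd_card))
      (by rw [hk]; exact (even_two.pow_of_ne_zero h1))
  haveI : FaithfulSMul P E := ⟨fun h => Subtype.ext (FaithfulSMul.eq_of_smul_eq_smul (α := E) h)⟩
  refine CfsgLib.ActionStab.constant_stabilizer hp2 hP hq hE ?_
  intro a b ha hb
  obtain ⟨d, rfl⟩ := htrans a b ha hb
  refine Nat.card_congr
    { toFun := fun x => ⟨⟨d * x.1.1 * d⁻¹, Subgroup.Normal.conj_mem inferInstance _ x.1.2 d⟩, ?_⟩
      invFun := fun y => ⟨⟨d⁻¹ * y.1.1 * d, by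
        simpa using Subgroup.Normal.conj_mem (H := P) inferInstance _ y.1.2 d⁻¹⟩, ?_⟩
      left_inv := fun x => by apply Subtype.ext; apply Subtype.ext; simp [mul_assoc]
      right_inv := fun y => by apply Subtype.ext; apply Subtype.ext; simp [mul_assoc] }
  · have hx : (x.1 : D) • a = a := x.2
    show (d * (x.1 : D) * d⁻¹) • d • a = d • a
    rw [mul_smul, mul_smul, inv_smul_smul, hx]
  · have hy : (y.1 : D) • d • a = d • a := y.2
    show (d⁻¹ * (y.1 : D) * d) • a = a
    rw [mul_smul, mul_smul, hy, inv_smul_smul]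

/-- S1161 with solvability as a hypothesis. -/
theorem transLinear_structure [Group.IsSolvable D] (hodd : Odd (Nat.card D)) {q : ℕ} (hq : q.Prime)
    (hE : ∀ e : E, q • e = 0) (htrans : ∀ a b : E, a ≠ 0 → b ≠ 0 → ∃ d : D, d • a = b) :
    IsCyclic ↥(fittingSubgroup D) ∧
      (∀ g ∈ fittingSubgroup D, g ≠ 1 → ∀ a : E, g • a = a → a = 0) ∧
      commutator D ≤ fittingSubgroup D := by
  haveI : Group.IsNilpotent (fittingSubgroup D) := CfsgLib.isNilpotent_fittingSubgroup
  haveI hFn : (fittingSubgroup D).Normal := inferInstance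
  set F := fittingSubgroup D
  have key : ∀ (p : ℕ) [Fact p.Prime] (P : Sylow p F),
      IsCyclic P ∧ ∀ g : D, g ∈ (P : Subgroup F).map F.subtype → g ≠ 1 → ∀ a : E, g • a = a → a = 0 := by
    intro p _ P
    haveI : (P : Subgroup F).Normal := inferInstance
    haveI : (P : Subgroup F).Characteristic := Sylow.characteristic_of_normal P inferInstance
    haveI : ((P : Subgroup F).map F.subtype).Normal := inferInstance
    have h := normal_pSubgroup_cyclic hodd hq hE htrans ((P : Subgroup F).map F.subtype) (P.isPGroup'.map _)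
    refine ⟨((Subgroup.equivMapOfInjective (P : Subgroup F) F.subtype F.subtype_injective).isCyclic).mpr h.1, ?_⟩
    exact fun g hg h1 a ha => h.2 ⟨g, hg⟩ (fun e => h1 (congrArg Subtype.val e)) a ha
  haveI : IsZGroup F := ⟨fun p hp P => by haveI := Fact.mk hp; exact (key p P).1⟩
  have hcyc : IsCyclic F := inferInstance
  refine ⟨hcyc, ?_, ?_⟩
  · intro g hg h1 a ha
    by_contra h0
    haveI : Nontrivial (MulAction.stabilizer F a) := by
      refine Subgroup.nontrivial_iff_ne_bot _ |>.mpr fun h => h1 ?_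
      have : (⟨g, hg⟩ : F) ∈ MulAction.stabilizer F a := ha
      rw [h, Subgroup.mem_bot] at this
      exact congrArg Subtype.val this
    obtain ⟨p, hp, hdvd⟩ := Nat.exists_prime_and_dvd (Finite.one_lt_card : 1 < Nat.card (MulAction.stabilizer F a)).ne'
    haveI := Fact.mk hp
    obtain ⟨x, hx⟩ := exists_prime_orderOf_dvd_card' p hdvd
    have hxF : orderOf (x : F) = p := by rw [Subgroup.orderOf_coe, hx]
    obtain ⟨P, hP⟩ := (IsPGroup.iff_card.mpr ⟨1, by rw [Nat.card_zpowers, hxF, pow_one]⟩ :
      IsPGroup p (Subgroup.zpowers (x : F))).exists_le_sylow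
    refine h0 ((key p P).2 ((x : F) : D) ⟨(x : F), hP (Subgroup.mem_zpowers _), rfl⟩ ?_ a x.2)
    intro e
    have : orderOf (x : F) = 1 := orderOf_eq_one_iff.mpr (Subtype.ext e)
    exact hp.ne_one (hxF ▸ this)
  · haveI : IsMulCommutative F := inferInstance
    letI := hcyc
    refine le_trans ?_ (CfsgLib.centralizer_fitting_le (G := D))
    have hk : (MulAut.conjNormal : D →* MulAut F).ker ≤ Subgroup.centralizer (F : Set D) := by
      intro d hd
      refine Subgroup.mem_centralizer_iff.mpr fun f hf => ?_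
      have h := congrArg Subtype.val (MulEquiv.congr_fun (MonoidHom.mem_ker.mp hd) ⟨f, hf⟩)
      simp only [MulAut.conjNormal_apply, MulAut.one_apply] at h
      calc f * d = (d * f * d⁻¹) * d := by rw [h]
        _ = d * f := by group
    refine le_trans ?_ hk
    rw [commutator_def, Subgroup.commutator_le]
    intro u _ v _
    rw [MonoidHom.mem_ker, map_commutatorElement, commutatorElement_eq_one_iff_mul_comm]
    exact (IsCyclic.mulAutMulEquiv F).injective (by rw [map_mul, map_mul, mul_comm])

end CfsgLib.AfterFT
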