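import Mathlib
import Cfsg.Prelude.Def_Solvable
import Cfsg.Agent.Lib.AfterFT.TransLinear
import Cfsg.Agent.Lib.MinSimpleOdd.FittingStructure
import Cfsg.Agent.Lib.Chev.Aut.FieldCyclic

/-!
Solvable transitive linear groups of odd order with a semiregular inverting automorphism.
-/

set_option autoImplicit false
set_option linter.unusedSectionVars false
set_option linter.style.haveILetI false

namespace CfsgLib.AfterFT

open Cfsg

section Stab

variable {R V : Type*} [Group R] [Finite R] [AddCommGroup V] [Finite V] [DistribMulAction R V]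
  [FaithfulSMul R V]

/-- The stabiliser of a vector embeds in the automorphism group of the field spanned by a regular abelian
normal subgroup containing its centraliser. -/
theorem stabilizer_cyclic_of_regular (F : Subgroup R) [F.Normal] (hab : ∀ f ∈ F, ∀ f' ∈ F, f * f' = f' * f)
    (hC : Subgroup.centralizer (F : Set R) ≤ F) {s : V} (hs : s ≠ 0)
    (hreg : ∀ x : V, x ≠ 0 → ∃ f ∈ F, f • s = x) (hfree : ∀ f ∈ F, f • s = s → f = 1) :
    IsCyclic (MulAction.stabilizer R s) := by
  classical
  let ρ : R →* AddMonoid.End V := DistribMulAction.toAddMonoidEnd R V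
  have hρ : ∀ (r : R) (x : V), ρ r x = r • x := fun _ _ => rfl
  let S : Set (AddMonoid.End V) := ρ '' (F : Set R)
  let L : Subring (AddMonoid.End V) := Subring.closure S
  have hSc : ∀ a ∈ S, ∀ b ∈ S, a * b = b * a := by
    rintro _ ⟨f, hf, rfl⟩ _ ⟨f', hf', rfl⟩
    rw [← map_mul, ← map_mul, hab f hf f' hf']
  haveI hLi : IsMulCommutative L := Subring.isMulCommutative_closure hSc
  letI hLc : CommRing L := { (inferInstance : Ring L) with mul_comm := fun a b => hLi.is_comm.comm a b }
  haveI : Finite (AddMonoid.End V) := Finite.of_injective (fun φ : AddMonoid.End V => (φ : V → V)) DFunLike.coe_injective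
  have hcomm : ∀ y ∈ L, ∀ f ∈ F, y * ρ f = ρ f * y := by
    intro y hy f hf
    exact congrArg Subtype.val (mul_comm (⟨y, hy⟩ : L) ⟨ρ f, Subring.subset_closure ⟨f, hf, rfl⟩⟩)
  have heval : ∀ y ∈ L, y s = 0 → y = 0 := by
    intro y hy h0
    apply DFunLike.ext
    intro x
    show y x = 0
    by_cases hx : x = 0
    · rw [hx, map_zero]
    obtain ⟨f, hf, rfl⟩ := hreg x hx
    have h := DFunLike.congr_fun (hcomm y hy f hf) s
    change y (ρ f s) = ρ f (y s) at h
    rw [h0, map_zero] at h
    exact h
  haveI : Nontrivial L := by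
    refine ⟨⟨0, 1, fun h => hs ?_⟩⟩
    have := DFunLike.congr_fun (congrArg Subtype.val h) s
    exact this.symm
  haveI : NoZeroDivisors L := by
    refine ⟨fun {x y} hxy => ?_⟩
    by_cases hy : (y : AddMonoid.End V) s = 0
    · exact Or.inr (Subtype.ext (heval _ y.2 hy))
    · refine Or.inl (Subtype.ext (heval _ x.2 ?_))
      obtain ⟨f, hf, hfe⟩ := hreg _ hy
      have h0 : (x : AddMonoid.End V) ((y : AddMonoid.End V) s) = 0 :=
        DFunLike.congr_fun (congrArg Subtype.val hxy) s
      have h := DFunLike.congr_fun (hcomm _ x.2 f hf) s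
      change (x : AddMonoid.End V) (ρ f s) = ρ f ((x : AddMonoid.End V) s) at h
      rw [hρ, hfe, h0, hρ] at h
      exact (smul_eq_zero_iff_eq f).mp h.symm
  haveI : IsDomain L := NoZeroDivisors.to_isDomain L
  haveI : Fintype L := Fintype.ofFinite L
  letI fld : Field L := Fintype.fieldOfDomain L
  haveI hcyc : IsCyclic (RingAut L) := CfsgLib.Chev.ringAut_cyclic_finite L
  -- conjugation by an element of `R`
  let c : R → (AddMonoid.End V →+* AddMonoid.End V) := fun r =>
    { toFun := fun y => ρ r * y * ρ r⁻¹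
      map_one' := by rw [mul_one, ← map_mul, mul_inv_cancel, map_one]
      map_mul' := fun y z => by
        calc ρ r * (y * z) * ρ r⁻¹ = ρ r * y * (ρ r⁻¹ * ρ r) * z * ρ r⁻¹ := by
              rw [← map_mul, inv_mul_cancel, map_one, mul_one]; simp only [mul_assoc]
          _ = _ := by simp only [mul_assoc]
      map_zero' := by rw [mul_zero, zero_mul]
      map_add' := fun y z => by rw [mul_add, add_mul] }
  have hcval : ∀ (r : R) (y : AddMonoid.End V), c r y = ρ r * y * ρ r⁻¹ := fun _ _ => rfl
  have hcL : ∀ (r : R), ∀ y ∈ L, c r y ∈ L := by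
    intro r y hy
    have : L ≤ L.comap (c r) := by
      refine Subring.closure_le.mpr ?_
      rintro _ ⟨f, hf, rfl⟩
      show c r (ρ f) ∈ L
      rw [hcval, ← map_mul, ← map_mul]
      exact Subring.subset_closure ⟨_, Subgroup.Normal.conj_mem inferInstance f hf r, rfl⟩
    exact this hy
  let e : R → L ≃+* L := fun r =>
    { toFun := fun (y : L) => ⟨c r y.1, hcL r _ y.2⟩
      invFun := fun (y : L) => ⟨c r⁻¹ y.1, hcL r⁻¹ _ y.2⟩
      left_inv := fun y => Subtype.ext (by
        show c r⁻¹ (c r y) = y
        rw [hcval, hcval, inv_inv, ← mul_assoc, ← mul_assoc, ← map_mul, inv_mul_cancel, map_one, one_mul,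
          mul_assoc, ← map_mul, inv_mul_cancel, map_one, mul_one])
      right_inv := fun y => Subtype.ext (by
        show c r (c r⁻¹ y) = y
        rw [hcval, hcval, inv_inv, ← mul_assoc, ← mul_assoc, ← map_mul, mul_inv_cancel, map_one, one_mul,
          mul_assoc, ← map_mul, mul_inv_cancel, map_one, mul_one])
      map_mul' := fun y z => Subtype.ext (map_mul (c r) y.1 z.1)
      map_add' := fun y z => Subtype.ext (map_add (c r) y.1 z.1) }
  let Φ : MulAction.stabilizer R s →* RingAut L :=
    { toFun := fun v => e v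
      map_one' := RingEquiv.ext fun y => Subtype.ext (by
        show c ((1 : MulAction.stabilizer R s) : R) y = y
        rw [hcval, OneMemClass.coe_one, inv_one, map_one, one_mul, mul_one])
      map_mul' := fun v w => RingEquiv.ext fun y => Subtype.ext (by
        show c ((v * w : MulAction.stabilizer R s) : R) y = c v (c w y)
        rw [hcval, hcval, hcval, Subgroup.coe_mul, mul_inv_rev, map_mul, map_mul]
        simp only [mul_assoc]) }
  refine isCyclic_of_injective Φ ((injective_iff_map_eq_one Φ).mpr fun v hv => ?_)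
  have hvF : (v : R) ∈ F := by
    refine hC (Subgroup.mem_centralizer_iff.mpr fun f hf => ?_)
    have h := congrArg Subtype.val (RingEquiv.congr_fun hv ⟨ρ f, Subring.subset_closure ⟨f, hf, rfl⟩⟩)
    change c v (ρ f) = ρ f at h
    rw [hcval, ← map_mul, ← map_mul] at h
    have h' : (v : R) * f * (v : R)⁻¹ = f := FaithfulSMul.eq_of_smul_eq_smul (α := V) fun x => by
      rw [← hρ, ← hρ, h]
    calc f * (v : R) = (v : R) * f * (v : R)⁻¹ * v := by rw [h']
      _ = v * f := by group
  exact Subtype.ext (hfree _ hvF v.2)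

end Stab

section Main

variable {R V : Type*} [Group R] [Finite R] [AddCommGroup V] [Finite V] [Nontrivial V] [DistribMulAction R V]
  [FaithfulSMul R V]

/-- The structure of a solvable transitive linear group of odd order with an involutory automorphism whose
fixed elements fix a vector and whose inverted elements are transitive. -/
theorem semilinear_structure [Group.IsSolvable R] (hodd : Odd (Nat.card R)) {q : ℕ} (hq : q.Prime)
    (hE : ∀ e : V, q • e = 0) (σ : R ≃* R) (hσ : ∀ r, σ (σ r) = r) {s : V} (hs : s ≠ 0)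
    (hfix : ∀ r, σ r = r → r • s = s) (htr : ∀ x : V, x ≠ 0 → ∃ r, σ r = r⁻¹ ∧ r • s = x) :
    IsCyclic (fittingSubgroup R) ∧ (∀ r, σ r = r⁻¹ → r ∈ fittingSubgroup R) ∧
      (∀ f ∈ fittingSubgroup R, f • s = s → f = 1) ∧ IsCyclic (MulAction.stabilizer R s) := by
  have htrans : ∀ a b : V, a ≠ 0 → b ≠ 0 → ∃ d : R, d • a = b := by
    intro a b ha hb
    obtain ⟨r, -, rfl⟩ := htr a ha
    obtain ⟨r', -, rfl⟩ := htr b hb
    exact ⟨r' * r⁻¹, by rw [mul_smul, inv_smul_smul]⟩
  obtain ⟨hcyc, hfpf, -⟩ := transLinear_structure hodd hq hE htrans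
  have hfree : ∀ f ∈ fittingSubgroup R, f • s = s → f = 1 := fun f hf h => by
    by_contra h1
    exact hs (hfpf f hf h1 s h)
  haveI := hcyc
  haveI : (fittingSubgroup R).Characteristic := CfsgLib.MinSimpleOdd.fitting_characteristic
  have hσF : ∀ f ∈ fittingSubgroup R, σ f ∈ fittingSubgroup R := fun f hf => by
    have h : (fittingSubgroup R).map σ.toMonoidHom = fittingSubgroup R :=
      Subgroup.characteristic_iff_map_eq.mp inferInstance σ
    rw [← h]
    exact ⟨f, hf, rfl⟩
  have hab : ∀ f ∈ fittingSubgroup R, ∀ f' ∈ fittingSubgroup R, f * f' = f' * f := fun f hf f' hf' => by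
    letI := IsCyclic.commGroup (α := fittingSubgroup R)
    exact congrArg Subtype.val (mul_comm (⟨f, hf⟩ : fittingSubgroup R) ⟨f', hf'⟩)
  have hinv : ∀ f ∈ fittingSubgroup R, σ f = f⁻¹ := by
    intro f hf
    have h1 : σ (f * σ f) = f * σ f := by rw [map_mul, hσ, hab _ (hσF f hf) _ hf]
    exact eq_inv_of_mul_eq_one_right (hfree _ (mul_mem hf (hσF f hf)) (hfix _ h1))
  have hC : Subgroup.centralizer (fittingSubgroup R : Set R) ≤ fittingSubgroup R := CfsgLib.centralizer_fitting_le
  have hmem : ∀ r, σ r = r⁻¹ → r ∈ fittingSubgroup R := by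
    intro r hr
    have h2 : r * r ∈ fittingSubgroup R := by
      refine hC (Subgroup.mem_centralizer_iff.mpr fun f hf => ?_)
      have hc := Subgroup.Normal.conj_mem (H := fittingSubgroup R) inferInstance f hf r
      have h := hinv _ hc
      rw [map_mul, map_mul, map_inv, hr, hinv f hf] at h
      have h' : r⁻¹ * f⁻¹ * r = r * f⁻¹ * r⁻¹ := by
        calc r⁻¹ * f⁻¹ * r = r⁻¹ * f⁻¹ * r⁻¹⁻¹ := by rw [inv_inv]
          _ = (r * f * r⁻¹)⁻¹ := h
          _ = _ := by group
      have h'' : r⁻¹ * f * r = r * f * r⁻¹ := by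
        have := congrArg (·⁻¹) h'
        simpa [mul_assoc] using this
      calc f * (r * r) = r * (r⁻¹ * f * r) * r := by group
        _ = r * (r * f * r⁻¹) * r := by rw [h'']
        _ = r * r * f := by group
    obtain ⟨m, hm⟩ : Odd (orderOf r) := hodd.of_dvd_nat (orderOf_dvd_natCard r)
    have h3 : r = (r * r) ^ (m + 1) := by
      calc r = r ^ (orderOf r + 1) := by rw [pow_succ, pow_orderOf_eq_one, one_mul]
        _ = (r * r) ^ (m + 1) := by rw [← pow_two, ← pow_mul, hm]; ring_nf
    rw [h3]
    exact pow_mem h2 _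
  refine ⟨hcyc, hmem, hfree, stabilizer_cyclic_of_regular _ hab hC hs (fun x hx => ?_) hfree⟩
  obtain ⟨r, hr, e⟩ := htr x hx
  exact ⟨r, hmem r hr, e⟩

end Main

end CfsgLib.AfterFT
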