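import Cfsg.Agent.Lib.RankOne.Central
import Cfsg.Agent.Lib.RankOne.Structure
import Cfsg.Agent.Lib.RankOne.Inverted
import Cfsg.Agent.Lib.AfterFT.SemilinearOdd

/-!
The two-point stabiliser of a split rank one group, given that groups of odd order are solvable.
-/

set_option autoImplicit false
set_option linter.unusedSectionVars false
set_option linter.style.haveILetI false

namespace CfsgLib.AfterFT.SplitRankOne

open MulAction Cfsg CfsgLib.RankOne

universe u v

variable {G : Type u} {Ω : Type v} [Group G] [Finite G] [MulAction G Ω] [FaithfulSMul G Ω] {a : Ω} {t : G}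
  {Q : Subgroup G} (hS : IsRankOneSetup G Ω a t Q)
  (h2 : ∃ x y : G, x ≠ 1 ∧ y ≠ 1 ∧ x ≠ y ∧ x * x = 1 ∧ y * y = 1 ∧ x * y = y * x)
  (odd : ∀ (H : Type u) [Group H] [Finite H], Odd (Nat.card H) → Group.IsSolvable H)

/-- The involutions of the point stabiliser together with the identity. -/
def invGroup : Subgroup G where
  carrier := {x | x ∈ stabilizer G a ∧ x * x = 1}
  one_mem' := ⟨one_mem _, mul_one 1⟩
  mul_mem' := fun {x y} hx hy => by
    refine ⟨mul_mem hx.1 hy.1, ?_⟩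
    have hc : x * y = y * x := by
      by_cases hx1 : x = 1
      · rw [hx1, one_mul, mul_one]
      exact invol_central hS h2 ⟨hx.1, hx1, hx.2⟩ (invol_mem_Q hS hy.1 hy.2)
    calc x * y * (x * y) = x * (y * x) * y := by group
      _ = x * x * (y * y) := by rw [← hc]; group
      _ = 1 := by rw [hx.2, hy.2, mul_one]
  inv_mem' := fun {x} hx => ⟨inv_mem hx.1, by rw [← mul_inv_rev, hx.2, inv_one]⟩

theorem mem_invGroup {x : G} : x ∈ invGroup hS h2 ↔ x ∈ stabilizer G a ∧ x * x = 1 := Iff.rfl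

instance invGroup_comm : IsMulCommutative (invGroup hS h2) := ⟨⟨fun x y => Subtype.ext <| by
  by_cases hx1 : (x : G) = 1
  · simp [hx1]
  exact invol_central hS h2 ⟨x.2.1, hx1, x.2.2⟩ (invol_mem_Q hS y.2.1 y.2.2)⟩⟩

theorem conj_mem_invGroup {d x : G} (hd : d ∈ D a t) (hx : x ∈ invGroup hS h2) :
    d * x * d⁻¹ ∈ invGroup hS h2 :=
  ⟨mul_mem (mul_mem (D_le hS hd) hx.1) (inv_mem (D_le hS hd)), by
    calc d * x * d⁻¹ * (d * x * d⁻¹) = d * (x * x) * d⁻¹ := by group
      _ = 1 := by rw [hx.2, mul_one, mul_inv_cancel]⟩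

/-- The conjugation action of the two-point stabiliser on the involutions of the point stabiliser. -/
def conjD : D a t →* MulAut (invGroup hS h2) where
  toFun d :=
    { toFun := fun x => ⟨d * x * (d : G)⁻¹, conj_mem_invGroup hS h2 d.2 x.2⟩
      invFun := fun x => ⟨(d : G)⁻¹ * x * d, by
        simpa using conj_mem_invGroup hS h2 (inv_mem d.2) x.2⟩
      left_inv := fun x => Subtype.ext (by group)
      right_inv := fun x => Subtype.ext (by group)
      map_mul' := fun x y => Subtype.ext (by simp only [Subgroup.coe_mul]; group) }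
  map_one' := MulEquiv.ext fun x => Subtype.ext (by simp)
  map_mul' d e := MulEquiv.ext fun x => Subtype.ext (by
    simp only [MulAut.mul_apply, MulEquiv.coe_mk, Equiv.coe_fn_mk, Subgroup.coe_mul]; group)

theorem conjD_apply (d : D a t) (x : invGroup hS h2) :
    ((conjD hS h2 d x : invGroup hS h2) : G) = d * x * (d : G)⁻¹ := rfl

theorem conjD_eq_one {d : G} (hd : d ∈ D a t) :
    conjD hS h2 ⟨d, hd⟩ = 1 ↔
      d ∈ D a t ⊓ Subgroup.centralizer (involutionsIn (stabilizer G a : Set G)) := by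
  constructor
  · intro h
    refine Subgroup.mem_inf.mpr ⟨hd, Subgroup.mem_centralizer_iff.mpr fun x hx => ?_⟩
    have := congrArg Subtype.val (MulEquiv.congr_fun h ⟨x, hx.1, hx.2.2⟩)
    rw [conjD_apply, MulAut.one_apply] at this
    calc x * d = d * x * d⁻¹ * d := by rw [this]
      _ = d * x := by group
  · intro h
    refine MulEquiv.ext fun x => Subtype.ext ?_
    rw [conjD_apply, MulAut.one_apply]
    by_cases hx1 : (x : G) = 1
    · simp [hx1]
    show d * (x : G) * d⁻¹ = x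
    rw [← Subgroup.mem_centralizer_iff.mp (Subgroup.mem_inf.mp h).2 x ⟨x.2.1, hx1, x.2.2⟩, mul_inv_cancel_right]

/-- The automorphism of `D` induced by `t`. -/
def tauD : D a t ≃* D a t where
  toFun d := ⟨t * d * t⁻¹, D_norm hS d d.2⟩
  invFun d := ⟨t * d * t⁻¹, D_norm hS d d.2⟩
  left_inv d := Subtype.ext (by
    show t * (t * d * t⁻¹) * t⁻¹ = d
    rw [inv_t hS]
    calc t * (t * d * t) * t = t * t * d * (t * t) := by group
      _ = d := by rw [hS.mul_self, one_mul, mul_one])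
  right_inv d := Subtype.ext (by
    show t * (t * d * t⁻¹) * t⁻¹ = d
    rw [inv_t hS]
    calc t * (t * d * t) * t = t * t * d * (t * t) := by group
      _ = d := by rw [hS.mul_self, one_mul, mul_one])
  map_mul' d e := Subtype.ext (by simp only [Subgroup.coe_mul]; group)

theorem tauD_tauD (d : D a t) : tauD hS (tauD hS d) = d := (tauD hS).left_inv d

include hS h2 odd in
/-- The combined structure: the inverted elements form a cyclic subgroup `C` normal in `D`, regular on the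
involutions, and `C_D(t)` is generated by the centraliser of the involutions and one further element. -/
theorem main :
    (∃ C : Subgroup G, (C : Set G) = invertedBy (D a t) t ∧ IsCyclic C ∧
        ∀ d ∈ D a t, ∀ c ∈ C, d * c * d⁻¹ ∈ C) ∧
      ∃ v ∈ D a t ⊓ Subgroup.centralizer {t},
        (D a t ⊓ Subgroup.centralizer {t} ⊓ Subgroup.centralizer (invertedBy (D a t) t)) ⊔ Subgroup.closure {v} =
          D a t ⊓ Subgroup.centralizer {t} := by
  classical
  obtain ⟨⟨s, r⟩, ⟨hs, hr, he⟩, -⟩ := structure_eq hS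
  have hW := cent_inverted hS
  set φ := conjD hS h2
  let R : Subgroup (MulAut (invGroup hS h2)) := φ.range
  let π : D a t →* R := φ.rangeRestrict
  have hπ : Function.Surjective π := φ.rangeRestrict_surjective
  have hπv : ∀ d, (π d : MulAut (invGroup hS h2)) = φ d := fun _ => rfl
  have hRodd : Odd (Nat.card R) := hS.odd_card.of_dvd_nat (Subgroup.card_dvd_of_surjective π hπ)
  haveI : Group.IsSolvable R := odd R hRodd
  -- elements of the kernel are fixed by `t`
  have hker : ∀ d : D a t, π d = 1 → t * (d : G) = d * t ∧ ∀ l ∈ invertedBy (D a t) t, l * (d : G) = d * l := by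
    intro d hd
    have h1 : φ d = 1 := by rw [← hπv, hd]; rfl
    have h' := (conjD_eq_one hS h2 d.2).mp h1
    rw [← hW] at h'
    obtain ⟨h3, h4⟩ := Subgroup.mem_inf.mp h'
    exact ⟨(Subgroup.mem_centralizer_singleton_iff.mp (Subgroup.mem_inf.mp h3).2).symm,
      fun l hl => Subgroup.mem_centralizer_iff.mp h4 l hl⟩
  have htau_ker : ∀ d : D a t, π d = 1 → tauD hS d = d := fun d hd => Subtype.ext (by
    show t * (d : G) * t⁻¹ = d
    rw [(hker d hd).1, mul_inv_cancel_right])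
  let σ₀ : R →* R := π.liftOfSurjective hπ ⟨π.comp (tauD hS).toMonoidHom, fun d hd => by
    rw [MonoidHom.mem_ker] at hd ⊢
    show π (tauD hS d) = 1
    rw [htau_ker d hd, hd]⟩
  have hσ₀ : ∀ d, σ₀ (π d) = π (tauD hS d) := fun d =>
    MonoidHom.liftOfRightInverse_comp_apply _ _ _ _ _
  have hσ₀2 : ∀ x, σ₀ (σ₀ x) = x := fun x => by
    obtain ⟨d, rfl⟩ := hπ x
    rw [hσ₀, hσ₀, tauD_tauD]
  let σ : R ≃* R :=
    { toFun := σ₀, invFun := σ₀, left_inv := hσ₀2, right_inv := hσ₀2, map_mul' := map_mul σ₀ }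
  -- the linear action
  letI act : DistribMulAction R (Additive (invGroup hS h2)) :=
    { smul := fun x e => Additive.ofMul ((x : MulAut (invGroup hS h2)) e.toMul)
      one_smul := fun e => rfl
      mul_smul := fun x y e => rfl
      smul_zero := fun x => congrArg Additive.ofMul (map_one (x : MulAut (invGroup hS h2)))
      smul_add := fun x e f => congrArg Additive.ofMul (map_mul (x : MulAut (invGroup hS h2)) e.toMul f.toMul) }
  letI : CommGroup (invGroup hS h2) :=
    { (inferInstance : Group (invGroup hS h2)) with mul_comm := fun x y => IsMulCommutative.is_comm.comm x y }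
  haveI : FaithfulSMul R (Additive (invGroup hS h2)) :=
    ⟨fun {x y} h => Subtype.ext (MulEquiv.ext fun e => Additive.ofMul.injective (h (Additive.ofMul e)))⟩
  haveI : Nontrivial (Additive (invGroup hS h2)) :=
    ⟨⟨Additive.ofMul ⟨s, hs.1, hs.2.2⟩, 0, fun h => hs.2.1 (congrArg Subtype.val (Additive.ofMul.injective h))⟩⟩
  have hsmul : ∀ (d : D a t) (x : invGroup hS h2),
      ((π d • Additive.ofMul x : Additive (invGroup hS h2)).toMul : G) = d * x * (d : G)⁻¹ := fun d x => rfl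
  set sv : Additive (invGroup hS h2) := Additive.ofMul ⟨s, hs.1, hs.2.2⟩ with hsv
  have hsv0 : sv ≠ 0 := fun h => hs.2.1 (congrArg Subtype.val (Additive.ofMul.injective h))
  have hfix : ∀ x, σ x = x → x • sv = sv := by
    intro x hx
    obtain ⟨d, rfl⟩ := hπ x
    have hx' : π (tauD hS d) = π d := by rw [← hσ₀]; exact hx
    set w := d⁻¹ * tauD hS d with hw
    have hw1 : π w = 1 := by rw [hw, map_mul, map_inv, hx', inv_mul_cancel]
    have hdw : tauD hS d = d * w := by rw [hw]; group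
    have h3 : w * w = 1 := by
      have h4 : tauD hS (tauD hS d) = d := tauD_tauD hS d
      rw [hdw, map_mul, htau_ker w hw1, hdw] at h4
      calc w * w = d⁻¹ * (d * w * w) := by group
        _ = 1 := by rw [h4, inv_mul_cancel]
    have h5 : (w : G) = 1 := D_mul_self hS w.2 (by rw [← Subgroup.coe_mul, h3, OneMemClass.coe_one])
    have h6 : t * (d : G) * t⁻¹ = d := by
      have := congrArg Subtype.val hdw
      rw [Subgroup.coe_mul, h5, mul_one] at this
      exact this
    refine Additive.toMul.injective (Subtype.ext ?_)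
    rw [hsv, hsmul]
    show (d : G) * s * (d : G)⁻¹ = s
    rw [← cent_s_of_cent_t hS hs hr he d.2 (mul_inv_eq_iff_eq_mul.mp h6), mul_inv_cancel_right]
  have htr : ∀ y : Additive (invGroup hS h2), y ≠ 0 → ∃ x, σ x = x⁻¹ ∧ x • sv = y := by
    intro y hy
    have hy1 : ((y.toMul : invGroup hS h2) : G) ∈ involutionsIn (stabilizer G a : Set G) :=
      ⟨y.toMul.2.1, fun h => hy (Additive.toMul.injective (Subtype.ext h)), y.toMul.2.2⟩
    obtain ⟨k, hk, hke⟩ := exists_conj_inverted hS hs hy1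
    refine ⟨π ⟨k⁻¹, inv_mem hk.1⟩, ?_, Additive.toMul.injective (Subtype.ext ?_)⟩
    · show σ₀ _ = _
      rw [hσ₀, ← map_inv]
      congr 1
      apply Subtype.ext
      show t * k⁻¹ * t⁻¹ = k⁻¹⁻¹
      rw [show t * k⁻¹ * t⁻¹ = (t * k * t⁻¹)⁻¹ by group, hk.2]
    · rw [hsv, hsmul]
      show k⁻¹ * s * k⁻¹⁻¹ = _
      rw [inv_inv, hke]
  have hq : ∀ e : Additive (invGroup hS h2), 2 • e = 0 := fun e => by
    apply Additive.toMul.injective
    rw [toMul_nsmul, pow_two]
    exact Subtype.ext e.toMul.2.2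
  obtain ⟨hcyc, hmem, hfree, hstab⟩ := semilinear_structure hRodd Nat.prime_two hq σ hσ₀2 hsv0 hfix htr
  -- inverted elements
  have hKmem : ∀ k (hk : k ∈ invertedBy (D a t) t), π ⟨k, hk.1⟩ ∈ fittingSubgroup R := fun k hk => hmem _ (by
    show σ₀ _ = _
    rw [hσ₀, ← map_inv]
    exact congrArg π (Subtype.ext hk.2))
  have hKinj : ∀ k k' (hk : k ∈ invertedBy (D a t) t) (hk' : k' ∈ invertedBy (D a t) t),
      π ⟨k, hk.1⟩ = π ⟨k', hk'.1⟩ → k = k' := by
    intro k k' hk hk' e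
    have hw : π (⟨k, hk.1⟩ * ⟨k', hk'.1⟩⁻¹) = 1 := by rw [map_mul, map_inv, e, mul_inv_cancel]
    have hd := Inverted.decomp hS.odd_card (D_norm hS) hS.mul_self hk.1
    have h1 : (k * k'⁻¹, k') = ((1 : G), k) := hd.unique
      ⟨Subgroup.mem_inf.mpr ⟨mul_mem hk.1 (inv_mem hk'.1), Subgroup.mem_centralizer_singleton_iff.mpr
        (hker _ hw).1.symm⟩, hk', by group⟩
      ⟨one_mem _, hk, (one_mul k).symm⟩
    exact (congrArg Prod.snd h1).symm
  have hV : ∀ v ∈ D a t ⊓ Subgroup.centralizer {t}, ∀ (hv : v ∈ D a t),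
      π ⟨v, hv⟩ ∈ MulAction.stabilizer R sv := by
    intro v hv hvD
    refine MulAction.mem_stabilizer_iff.mpr (Additive.toMul.injective (Subtype.ext ?_))
    rw [hsv, hsmul]
    show v * s * v⁻¹ = s
    rw [← cent_s_of_cent_t hS hs hr he hvD
      (Subgroup.mem_centralizer_singleton_iff.mp (Subgroup.mem_inf.mp hv).2).symm, mul_inv_cancel_right]
  have hKsurj : ∀ f ∈ fittingSubgroup R, ∃ k, ∃ hk : k ∈ invertedBy (D a t) t, π ⟨k, hk.1⟩ = f := by
    intro f hf
    obtain ⟨d, rfl⟩ := hπ f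
    obtain ⟨⟨v, k⟩, ⟨hv, hk, e⟩, -⟩ := Inverted.decomp hS.odd_card (D_norm hS) hS.mul_self d.2
    have hde : d = ⟨v, (Subgroup.mem_inf.mp hv).1⟩ * ⟨k, hk.1⟩ := Subtype.ext e
    rw [hde, map_mul] at hf ⊢
    have hv1 := hfree _ (by simpa using mul_mem hf (inv_mem (hKmem k hk)))
      (MulAction.mem_stabilizer_iff.mp (hV v hv _))
    exact ⟨k, hk, by rw [hv1, one_mul]⟩
  obtain ⟨g, hg⟩ := hcyc.exists_generator
  obtain ⟨k₀, hk₀, hk₀e⟩ := hKsurj g g.2
  have hpow : ∀ i : ℤ, k₀ ^ i ∈ invertedBy (D a t) t := fun i => ⟨zpow_mem hk₀.1 i, by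
    rw [← conj_zpow, hk₀.2, inv_zpow]⟩
  have hset : (Subgroup.zpowers k₀ : Set G) = invertedBy (D a t) t := by
    apply Set.Subset.antisymm
    · rintro _ ⟨i, rfl⟩
      exact hpow i
    · intro k hk
      obtain ⟨i, hi⟩ := Subgroup.mem_zpowers_iff.mp (hg ⟨π ⟨k, hk.1⟩, hKmem k hk⟩)
      refine ⟨i, (hKinj k _ hk (hpow i) ?_).symm⟩
      have h1 : π ⟨k, hk.1⟩ = (g : R) ^ i := (congrArg Subtype.val hi).symm
      rw [h1, ← hk₀e, ← map_zpow]
      exact congrArg π (Subtype.ext (by simp))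
  refine ⟨⟨Subgroup.zpowers k₀, hset, inferInstance, fun d hd c hc => ?_⟩, ?_⟩
  · obtain ⟨⟨v, l⟩, ⟨hv, hl, rfl⟩, -⟩ := Inverted.decomp hS.odd_card (D_norm hS) hS.mul_self hd
    have hl' : l ∈ Subgroup.zpowers k₀ := by rw [← SetLike.mem_coe, hset]; exact hl
    obtain ⟨i, rfl⟩ := Subgroup.mem_zpowers_iff.mp hc
    obtain ⟨j, rfl⟩ := Subgroup.mem_zpowers_iff.mp hl'
    obtain ⟨hvD, hvt⟩ := Subgroup.mem_inf.mp hv
    rw [← SetLike.mem_coe, hset]
    refine ⟨mul_mem (mul_mem hd (zpow_mem hk₀.1 i)) (inv_mem hd), ?_⟩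
    have e : v * k₀ ^ j * k₀ ^ i * (v * k₀ ^ j)⁻¹ = v * k₀ ^ i * v⁻¹ := by group
    rw [e]
    have hvt' : t * v = v * t := (Subgroup.mem_centralizer_singleton_iff.mp hvt).symm
    calc t * (v * k₀ ^ i * v⁻¹) * t⁻¹ = (t * v) * k₀ ^ i * (t * v)⁻¹ := by group
      _ = v * (t * k₀ ^ i * t⁻¹) * v⁻¹ := by rw [hvt']; group
      _ = (v * k₀ ^ i * v⁻¹)⁻¹ := by rw [(hpow i).2]; group
  · haveI := hstab
    let V := D a t ⊓ Subgroup.centralizer {t}
    let ψ : V →* MulAction.stabilizer R sv :=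
      (π.comp (Subgroup.inclusion inf_le_left)).codRestrict _ fun v => hV v.1 v.2 (Subgroup.mem_inf.mp v.2).1
    obtain ⟨⟨_, v₀, rfl⟩, hgen⟩ := (isCyclic_iff_exists_zpowers_eq_top.mp
      (Subgroup.isCyclic ψ.range)).imp fun x hx => hx
    refine ⟨v₀, v₀.2, le_antisymm (sup_le inf_le_left ((Subgroup.closure_le _).mpr (Set.singleton_subset_iff.mpr v₀.2))) fun v hv => ?_⟩
    obtain ⟨i, hi⟩ := Subgroup.mem_zpowers_iff.mp (show (⟨ψ ⟨v, hv⟩, ⟨v, hv⟩, rfl⟩ : ψ.range) ∈ _ from
      hgen ▸ Subgroup.mem_top _)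
    have h1 : ψ (v₀ ^ i) = ψ ⟨v, hv⟩ := by
      rw [map_zpow]
      exact congrArg Subtype.val hi
    have h2' : ψ (⟨v, hv⟩ * (v₀ ^ i)⁻¹) = 1 := by rw [map_mul, map_inv, h1, mul_inv_cancel]
    set w : V := ⟨v, hv⟩ * (v₀ ^ i)⁻¹
    have hw : π ⟨(w : G), (Subgroup.mem_inf.mp w.2).1⟩ = 1 := congrArg Subtype.val h2'
    have hwmem : (w : G) ∈ D a t ⊓ Subgroup.centralizer {t} ⊓ Subgroup.centralizer (invertedBy (D a t) t) :=
      Subgroup.mem_inf.mpr ⟨w.2, Subgroup.mem_centralizer_iff.mpr fun l hl => (hker _ hw).2 l hl⟩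
    have e : v = (w : G) * (v₀ : G) ^ i := by simp [w]
    rw [e]
    exact Subgroup.mul_mem_sup hwmem (zpow_mem (Subgroup.subset_closure (Set.mem_singleton _)) i)

end CfsgLib.AfterFT.SplitRankOne
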