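import Cfsg.Agent.Lib.AfterFT.RankOne

/-!
A Sylow 2-subgroup of the regular normal subgroup of a split rank one group.
-/

set_option autoImplicit false
set_option linter.unusedSectionVars false
set_option linter.style.haveILetI false

namespace CfsgLib.AfterFT.SplitRankOne

open MulAction Cfsg CfsgLib.RankOne

universe u v

variable {G : Type u} {Ω : Type v} [Group G] [Finite G] [MulAction G Ω] [FaithfulSMul G Ω] {a : Ω} {t : G}
  {Q : Subgroup G}

/-- A Sylow 2-subgroup of `Q` is abelian or a Suzuki 2-group. -/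
theorem sylow_suzuki (hS : IsRankOneSetup G Ω a t Q)
    (h2 : ∃ x y : G, x ≠ 1 ∧ y ≠ 1 ∧ x ≠ y ∧ x * x = 1 ∧ y * y = 1 ∧ x * y = y * x)
    (odd : ∀ (H : Type u) [Group H] [Finite H], Odd (Nat.card H) → Group.IsSolvable H)
    (S : Sylow 2 Q) : IsMulCommutative (S : Subgroup Q) ∨ IsSuzukiTwoGroup (S : Subgroup Q) := by
  classical
  haveI := Fact.mk Nat.prime_two
  haveI := nilpotent_Q hS h2
  haveI hSn : (S : Subgroup Q).Normal := inferInstance
  obtain ⟨⟨C, hC, hCcyc, -⟩, -⟩ := main hS h2 odd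
  by_cases hcomm : IsMulCommutative (S : Subgroup Q)
  · exact Or.inl hcomm
  refine Or.inr ⟨inferInstance, S.isPGroup', ?_, ?_, ?_⟩
  · by_contra h
    push Not at h
    exact hcomm ⟨⟨h⟩⟩
  · -- every involution of `Q` lies in `S`
    have hmem : ∀ x ∈ involutionsIn (stabilizer G a : Set G), ∃ y : (S : Subgroup Q), ((y : Q) : G) = x := by
      intro x hx
      have hxQ : x ∈ Q := invol_mem_Q hS hx.1 hx.2.2
      have hp : IsPGroup 2 (Subgroup.zpowers (⟨x, hxQ⟩ : Q)) := IsPGroup.iff_card.mpr ⟨1, by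
        rw [Nat.card_zpowers, pow_one]
        exact orderOf_eq_prime (Subtype.ext (by simpa [pow_two] using hx.2.2)) fun e => hx.2.1 (congrArg Subtype.val e)⟩
      obtain ⟨P, hP⟩ := hp.exists_le_sylow
      haveI := Sylow.unique_of_normal S hSn
      have hPS : P = S := Subsingleton.elim _ _
      subst hPS
      exact ⟨⟨_, hP (Subgroup.mem_zpowers _)⟩, rfl⟩
    obtain ⟨s₁, hs₁, s₂, hs₂, hne⟩ := two_le_card_invol hS h2
    obtain ⟨y₁, hy₁⟩ := hmem s₁ hs₁
    obtain ⟨y₂, hy₂⟩ := hmem s₂ hs₂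
    refine ⟨y₁, y₂, fun e => hne (by rw [← hy₁, ← hy₂, e]), ?_, ?_, ?_, ?_⟩
    · intro e; exact hs₁.2.1 (by rw [← hy₁, e]; rfl)
    · exact Subtype.ext (Subtype.ext (by simpa [hy₁] using hs₁.2.2))
    · intro e; exact hs₂.2.1 (by rw [← hy₂, e]; rfl)
    · exact Subtype.ext (Subtype.ext (by simpa [hy₂] using hs₂.2.2))
  · -- the action of the inverted elements
    have hCD : ∀ c : C, (c : G) ∈ D a t := fun c => (hC ▸ c.2 : (c : G) ∈ invertedBy (D a t) t).1
    have hconj : ∀ (c : C) (y : (S : Subgroup Q)), ∃ z : (S : Subgroup Q),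
        ((z : Q) : G) = c * ((y : Q) : G) * (c : G)⁻¹ := by
      intro c y
      have hcQ : ∀ x ∈ Q, (c : G) * x * (c : G)⁻¹ ∈ Q := fun x hx => conj_Q hS ((mem_D hS).mp (hCD c)).1 hx
      let e : Q ≃* Q :=
        { toFun := fun x => ⟨c * x * (c : G)⁻¹, hcQ x x.2⟩
          invFun := fun x => ⟨(c : G)⁻¹ * x * c, conj_Q' hS ((mem_D hS).mp (hCD c)).1 x.2⟩
          left_inv := fun x => Subtype.ext (by group)
          right_inv := fun x => Subtype.ext (by group)
          map_mul' := fun x y => Subtype.ext (by simp only [Subgroup.coe_mul]; group) }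
      haveI : (S : Subgroup Q).Characteristic := Sylow.characteristic_of_normal S hSn
      have : e (y : Q) ∈ (S : Subgroup Q) := by
        have h := Subgroup.characteristic_iff_map_eq.mp (inferInstance : (S : Subgroup Q).Characteristic) e
        exact h.le ⟨y, y.2, rfl⟩
      exact ⟨⟨e y, this⟩, rfl⟩
    choose act hact using hconj
    let f : C →* MulAut (S : Subgroup Q) :=
      { toFun := fun c =>
          { toFun := act c
            invFun := act c⁻¹
            left_inv := fun y => Subtype.ext (Subtype.ext (by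
              rw [hact, hact]; push_cast; group))
            right_inv := fun y => Subtype.ext (Subtype.ext (by
              rw [hact, hact]; push_cast; group))
            map_mul' := fun y z => Subtype.ext (Subtype.ext (by
              rw [hact, Subgroup.coe_mul, Subgroup.coe_mul, Subgroup.coe_mul, Subgroup.coe_mul, hact, hact]
              group)) }
        map_one' := MulEquiv.ext fun y => Subtype.ext (Subtype.ext (by
          show ((act 1 y : Q) : G) = _
          rw [hact]; simp))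
        map_mul' := fun c d => MulEquiv.ext fun y => Subtype.ext (Subtype.ext (by
          show ((act (c * d) y : Q) : G) = ((act c (act d y) : Q) : G)
          rw [hact, hact, hact, Subgroup.coe_mul]; group)) }
    have hf : ∀ c y, ((f c y : Q) : G) = (c : G) * ((y : Q) : G) * (c : G)⁻¹ := hact
    refine ⟨f.range, isCyclic_of_surjective f.rangeRestrict f.rangeRestrict_surjective, ?_⟩
    intro x y hx1 hx2 hy1 hy2
    have hinv : ∀ z : (S : Subgroup Q), z ≠ 1 → z * z = 1 → ((z : Q) : G) ∈ involutionsIn (stabilizer G a : Set G) :=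
      fun z hz1 hz2 => ⟨hS.le (z : Q).2, fun e => hz1 (Subtype.ext (Subtype.ext e)),
        congrArg (fun w : (S : Subgroup Q) => ((w : Q) : G)) hz2⟩
    obtain ⟨k, hk, hke⟩ := exists_conj_inverted hS (hinv x hx1 hx2) (hinv y hy1 hy2)
    have hkC : k⁻¹ ∈ C := inv_mem (by rw [← SetLike.mem_coe, hC]; exact hk)
    refine ⟨⟨f ⟨k⁻¹, hkC⟩, ⟨_, rfl⟩⟩, ?_, ?_⟩
    · show f ⟨k⁻¹, hkC⟩ x = y
      refine Subtype.ext (Subtype.ext ?_)
      rw [hf]
      simpa using hke
    · rintro ⟨_, c, rfl⟩ hc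
      refine Subtype.ext (congrArg f (Subtype.ext ?_))
      show (c : G) = k⁻¹
      obtain ⟨⟨s, r⟩, ⟨hs, hr, he⟩, -⟩ := structure_eq hS
      obtain ⟨k₁, hk₁, hk₁e⟩ := exists_conj_inverted hS hs (hinv x hx1 hx2)
      have hcI : (c : G)⁻¹ ∈ invertedBy (D a t) t := hC ▸ inv_mem c.2
      have h1 : (c : G) * ((x : Q) : G) * (c : G)⁻¹ = ((y : Q) : G) := by rw [← hf]; exact congrArg (fun w : (S : Subgroup Q) => ((w : Q) : G)) hc
      have := inverted_inj hS hs hr he hk₁ hcI hk (by
        calc (k₁ * (c : G)⁻¹)⁻¹ * s * (k₁ * (c : G)⁻¹) = c * (k₁⁻¹ * s * k₁) * (c : G)⁻¹ := by group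
          _ = k⁻¹ * (k₁⁻¹ * s * k₁) * k := by rw [hk₁e, h1, hke]
          _ = _ := by group)
      rw [← this, inv_inv]

end CfsgLib.AfterFT.SplitRankOne
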