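import Mathlib

/-!
An automorphism of odd order of a 2-group without real elements of order at least 4 which fixes the involutions
is trivial.
-/

set_option autoImplicit false
set_option linter.style.haveILetI false

namespace CfsgLib.AfterFT

open Subgroup
open scoped commutatorElement

universe u
variable {G : Type u} [Group G] [Finite G]

theorem commute_of_realFree {u : G} (hu : Odd (orderOf u)) : ∀ (n : ℕ) (P : Subgroup G), Nat.card P = n →
    IsPGroup 2 P → (∀ x ∈ P, u * x * u⁻¹ ∈ P) →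
    (∀ s ∈ P, (∃ h ∈ P, h * s * h⁻¹ = s⁻¹) → s * s = 1) →
    (∀ x ∈ P, x * x = 1 → Commute u x) → ∀ x ∈ P, Commute u x := by
  classical
  haveI : Fact (Nat.Prime 2) := ⟨Nat.prime_two⟩
  intro n
  induction n using Nat.strong_induction_on with
  | _ n ih =>
  intro P hn hP hinv hreal hom
  subst hn
  have hsub : ∀ A : Subgroup G, A ≤ P → A ≠ P → (∀ x ∈ A, u * x * u⁻¹ ∈ A) → ∀ x ∈ A, Commute u x :=
    fun A hA hne hAu => ih _ (Set.Finite.card_lt_card (Set.toFinite _) (SetLike.coe_ssubset_coe.mpr (lt_of_le_of_ne hA hne))) A rfl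
      (hP.to_le hA) hAu (fun s hs ⟨h, hh, he⟩ => hreal s (hA hs) ⟨h, hA hh, he⟩) (fun x hx => hom x (hA hx))
  -- a fixed commutator with `u` is trivial
  have hfin : ∀ x ∈ P, Commute u (x⁻¹ * (u * x * u⁻¹)) → Commute u x := by
    intro x hx hc
    set c := x⁻¹ * (u * x * u⁻¹) with hcdef
    have hpow : ∀ m : ℕ, u ^ m * x * (u ^ m)⁻¹ = x * c ^ m := fun m => by
      induction m with
      | zero => simp
      | succ m ihm =>
        calc u ^ (m + 1) * x * (u ^ (m + 1))⁻¹ = u * (u ^ m * x * (u ^ m)⁻¹) * u⁻¹ := by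
              rw [pow_succ']; group
          _ = u * x * u⁻¹ * (u * c ^ m * u⁻¹) := by rw [ihm]; group
          _ = x * c * c ^ m := by
              rw [show u * c ^ m * u⁻¹ = c ^ m by rw [(hc.pow_right m).eq, mul_inv_cancel_right], hcdef]; group
          _ = x * c ^ (m + 1) := by rw [pow_succ', mul_assoc]
    have h1 : c ^ orderOf u = 1 := by
      have := hpow (orderOf u)
      rw [pow_orderOf_eq_one, one_mul, inv_one, mul_one] at this
      exact mul_left_cancel (this.symm.trans (mul_one x).symm)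
    obtain ⟨j, hj⟩ := IsPGroup.iff_orderOf.mp hP ⟨c, P.mul_mem (P.inv_mem hx) (hinv x hx)⟩
    rw [Subgroup.orderOf_mk] at hj
    have hc1 : c = 1 := orderOf_eq_one_iff.mp (Nat.eq_one_of_dvd_coprimes
      (Nat.Coprime.pow_left j hu.coprime_two_left) (hj ▸ dvd_refl _) (orderOf_dvd_of_pow_eq_one h1))
    have h2 : u * x * u⁻¹ = x := by rw [← mul_right_inj x⁻¹, inv_mul_cancel]; exact hc1
    exact mul_inv_eq_iff_eq_mul.mp h2
  intro x hx
  by_cases hbot : P = ⊥
  · rw [hbot, Subgroup.mem_bot] at hx; subst hx; exact Commute.one_right u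
  -- the subgroup of squares
  set S0 := Subgroup.closure {y : G | ∃ a ∈ P, y = a * a} with hS0
  have hS0P : S0 ≤ P := (closure_le P).mpr fun y ⟨a, ha, e⟩ => e ▸ P.mul_mem ha ha
  have hS0ne : S0 ≠ P := by
    intro e
    haveI : Nontrivial P := Subgroup.nontrivial_iff_ne_bot P |>.mpr hbot
    obtain ⟨k, hk⟩ := IsPGroup.iff_card.mp hP
    rcases k with _ | k
    · rw [pow_zero, Subgroup.card_eq_one] at hk; exact hbot hk
    obtain ⟨M, hM⟩ := Sylow.exists_subgroup_card_pow_prime 2 (n := k) (G := P) (hk ▸ pow_dvd_pow 2 (Nat.le_succ k))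
    have hi : M.index = 2 := by
      have h' := M.card_mul_index
      rw [hM, hk, pow_succ] at h'
      exact Nat.eq_of_mul_eq_mul_left (Nat.two_pow_pos k) h'
    have hle : S0 ≤ M.map P.subtype := (closure_le _).mpr fun y ⟨a, ha, e⟩ =>
      ⟨⟨a, ha⟩ * ⟨a, ha⟩, Subgroup.mul_self_mem_of_index_two hi _, by simp [e]⟩
    rw [e] at hle
    have hMt : M = ⊤ := eq_top_iff.mpr fun y _ => by
      obtain ⟨z, hz, hzy⟩ := hle y.2
      exact (Subtype.ext hzy : z = y) ▸ hz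
    rw [hMt, Subgroup.index_top] at hi
    omega
  have hsq : ∀ a ∈ P, a * a ∈ S0 := fun a ha => subset_closure ⟨a, ha, rfl⟩
  have hconjS : ∀ g : G, (∀ a ∈ P, g * a * g⁻¹ ∈ P) → ∀ s ∈ S0, g * s * g⁻¹ ∈ S0 := fun g hg s hs => by
    induction hs using Subgroup.closure_induction with
    | mem y hy =>
      obtain ⟨a, ha, e⟩ := hy
      rw [e, show g * (a * a) * g⁻¹ = (g * a * g⁻¹) * (g * a * g⁻¹) by group]
      exact hsq _ (hg a ha)
    | one => simp
    | mul a b _ _ ha hb => rw [show g * (a * b) * g⁻¹ = (g * a * g⁻¹) * (g * b * g⁻¹) by group]; exact S0.mul_mem ha hb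
    | inv a _ ha => rw [show g * a⁻¹ * g⁻¹ = (g * a * g⁻¹)⁻¹ by group]; exact S0.inv_mem ha
  have hPc : ∀ p ∈ P, ∀ a ∈ P, p * a * p⁻¹ ∈ P := fun p hp a ha => P.mul_mem (P.mul_mem hp ha) (P.inv_mem hp)
  have hSfix : ∀ s ∈ S0, Commute u s := hsub S0 hS0P hS0ne (hconjS u hinv)
  -- `S0` is central, or we are done
  set c := x⁻¹ * (u * x * u⁻¹) with hcdef
  have hcP : c ∈ P := P.mul_mem (P.inv_mem hx) (hinv x hx)
  have hcS : ∀ y ∈ P, ∀ s ∈ S0, Commute (y⁻¹ * (u * y * u⁻¹)) s := by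
    intro y hy s hs
    have h1 : u * (y * s * y⁻¹) * u⁻¹ = y * s * y⁻¹ := by
      rw [(hSfix _ (hconjS y (hPc y hy) s hs)).eq, mul_inv_cancel_right]
    have h2 : u * s * u⁻¹ = s := by rw [(hSfix s hs).eq, mul_inv_cancel_right]
    refine mul_inv_eq_iff_eq_mul.mp ?_
    calc y⁻¹ * (u * y * u⁻¹) * s * (y⁻¹ * (u * y * u⁻¹))⁻¹
        = y⁻¹ * (u * y * u⁻¹) * (u * s * u⁻¹) * (y⁻¹ * (u * y * u⁻¹))⁻¹ := by rw [h2]
      _ = y⁻¹ * (u * (y * s * y⁻¹) * u⁻¹) * y := by group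
      _ = s := by rw [h1]; group
  by_cases hcen : ∀ s ∈ S0, ∀ y ∈ P, Commute s y
  swap
  · set D := P ⊓ centralizer (S0 : Set G) with hD
    have hDne : D ≠ P := fun e => hcen fun s hs y hy => Subgroup.mem_centralizer_iff.mp (e.ge hy).2 s hs
    have hDu : ∀ y ∈ D, u * y * u⁻¹ ∈ D := fun y hy => ⟨hinv y hy.1, Subgroup.mem_centralizer_iff.mpr fun s hs => by
      have h1 := Subgroup.mem_centralizer_iff.mp hy.2 s hs
      have h2 : u * s * u⁻¹ = s := by rw [(hSfix s hs).eq, mul_inv_cancel_right]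
      calc s * (u * y * u⁻¹) = (u * s * u⁻¹) * (u * y * u⁻¹) := by rw [h2]
        _ = u * (s * y) * u⁻¹ := by group
        _ = u * (y * s) * u⁻¹ := by rw [h1]
        _ = (u * y * u⁻¹) * (u * s * u⁻¹) := by group
        _ = (u * y * u⁻¹) * s := by rw [h2]⟩
    exact hfin x hx (hsub D inf_le_left hDne hDu c ⟨hcP, Subgroup.mem_centralizer_iff.mpr fun s hs =>
      (hcS x hx s hs).symm.eq⟩)
  -- commutators
  have hcomS : ∀ a ∈ P, ∀ b ∈ P, ⁅a, b⁆ ∈ S0 := fun a ha b hb => by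
    rw [show ⁅a, b⁆ = a * a * ((a⁻¹ * b) * (a⁻¹ * b)) * (b * b)⁻¹ by rw [commutatorElement_def]; group]
    exact S0.mul_mem (S0.mul_mem (hsq a ha) (hsq _ (P.mul_mem (P.inv_mem ha) hb))) (S0.inv_mem (hsq b hb))
  set v := u * x * u⁻¹ with hv
  have hvP : v ∈ P := hinv x hx
  have hc2 : c * c = ⁅x⁻¹, v⁆ := by
    have hvv : v * v = x * x := by
      rw [hv, show u * x * u⁻¹ * (u * x * u⁻¹) = u * (x * x) * u⁻¹ by group, (hSfix _ (hsq x hx)).eq,
        mul_inv_cancel_right]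
    have hcx : Commute (x * x)⁻¹ v := (hcen _ (hsq x hx) v hvP).inv_left
    calc c * c = x⁻¹ * v * x * ((x * x)⁻¹ * v) := by rw [hcdef]; group
      _ = x⁻¹ * v * x * (v * (x * x)⁻¹) := by rw [hcx.eq]
      _ = x⁻¹ * v * x * (v⁻¹ * (v * v) * (x * x)⁻¹) := by group
      _ = ⁅x⁻¹, v⁆ := by rw [hvv, commutatorElement_def]; group
  -- `[c, P]`
  let L : Subgroup G :=
    { carrier := {g | ∃ h ∈ P, g = ⁅c, h⁆}
      one_mem' := ⟨1, P.one_mem, by rw [commutatorElement_one_right]⟩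
      mul_mem' := by
        rintro _ _ ⟨a, ha, rfl⟩ ⟨b, hb, rfl⟩
        refine ⟨a * b, P.mul_mem ha hb, ?_⟩
        have hb' := (hcen _ (hcomS c hcP b hb) a ha).eq
        calc ⁅c, a⁆ * ⁅c, b⁆ = ⁅c, a⁆ * (⁅c, b⁆ * a) * a⁻¹ := by group
          _ = ⁅c, a⁆ * (a * ⁅c, b⁆) * a⁻¹ := by rw [hb']
          _ = ⁅c, a * b⁆ := by rw [commutatorElement_def, commutatorElement_def, commutatorElement_def]; group
      inv_mem' := by
        rintro _ ⟨a, ha, rfl⟩
        refine ⟨a⁻¹, P.inv_mem ha, ?_⟩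
        have ha' := ((hcen _ (hcomS c hcP a ha) a ha).inv_left).eq
        calc ⁅c, a⁆⁻¹ = a⁻¹ * (a * ⁅c, a⁆⁻¹) := by group
          _ = a⁻¹ * (⁅c, a⁆⁻¹ * a) := by rw [ha']
          _ = ⁅c, a⁻¹⁆ := by rw [commutatorElement_def, commutatorElement_def]; group }
  let A : Subgroup G :=
    { carrier := {a | a ∈ P ∧ ∀ h ∈ P, ⁅a, h⁆ ∈ L}
      one_mem' := ⟨P.one_mem, fun h _ => by rw [commutatorElement_one_left]; exact L.one_mem⟩
      mul_mem' := by
        rintro a b ⟨ha, ha'⟩ ⟨hb, hb'⟩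
        refine ⟨P.mul_mem ha hb, fun h hh => ?_⟩
        have hc' := (hcen _ (hcomS b hb h hh) a ha).eq
        rw [show ⁅a * b, h⁆ = (a * ⁅b, h⁆) * a⁻¹ * ⁅a, h⁆ by simp [commutatorElement_def, mul_assoc], ← hc',
          mul_inv_cancel_right]
        exact L.mul_mem (hb' h hh) (ha' h hh)
      inv_mem' := by
        rintro a ⟨ha, ha'⟩
        refine ⟨P.inv_mem ha, fun h hh => ?_⟩
        have hc' := ((hcen _ (hcomS a ha h hh) a⁻¹ (P.inv_mem ha)).inv_left).eq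
        rw [show ⁅a⁻¹, h⁆ = (a⁻¹ * ⁅a, h⁆⁻¹) * a by simp [commutatorElement_def, mul_assoc], ← hc', mul_assoc,
          inv_mul_cancel, mul_one]
        exact L.inv_mem (ha' h hh) }
  refine hfin x hx ?_
  by_cases hA : A = P
  · obtain ⟨h, hh, he⟩ : c * c ∈ L := by
      rw [hc2]; exact (hA.ge (P.inv_mem hx) : x⁻¹ ∈ A).2 v hvP
    refine hom c hcP (hreal c hcP ⟨h, hh, ?_⟩)
    have he' : c * c = c * h * c⁻¹ * h⁻¹ := he
    calc h * c * h⁻¹ = (c * h * c⁻¹ * h⁻¹)⁻¹ * c := by group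
      _ = (c * c)⁻¹ * c := by rw [he']
      _ = c⁻¹ := by group
  · refine hsub A (fun a ha => ha.1) hA (fun a ha => ⟨hinv a ha.1, fun h hh => ?_⟩) c
      ⟨hcP, fun h hh => ⟨h, hh, rfl⟩⟩
    have hinv' : ∀ y ∈ P, u⁻¹ * y * u ∈ P := fun y hy => by
      have hk : ∀ m : ℕ, ∀ y ∈ P, u ^ m * y * (u ^ m)⁻¹ ∈ P := fun m => by
        induction m with
        | zero => intro y hy; simpa using hy
        | succ m ihm => intro y hy; rw [pow_succ']; simpa [mul_assoc] using hinv _ (ihm y hy)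
      have hu1 : u ^ (orderOf u - 1) = u⁻¹ := eq_inv_of_mul_eq_one_left (by
        rw [← pow_succ, Nat.sub_add_cancel (orderOf_pos u), pow_orderOf_eq_one])
      simpa [hu1] using hk (orderOf u - 1) y hy
    have h1 := ha.2 _ (hinv' h hh)
    have h2 : u * ⁅a, u⁻¹ * h * u⁆ * u⁻¹ = ⁅u * a * u⁻¹, h⁆ := by
      rw [commutatorElement_def, commutatorElement_def]; group
    rw [← h2, (hSfix _ (hcomS a ha.1 _ (hinv' h hh))).eq, mul_inv_cancel_right]
    exact h1

end CfsgLib.AfterFT
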