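import Cfsg.Agent.Lib.AfterFT.ClassSizeGraphComplete
import Cfsg.Agent.Lib.AfterFT.RealFreeTwoGroup
import Cfsg.Agent.Lib.Fusion.Hyperfocal
import Cfsg.Prelude.Def_Transfer

/-!
Row 4193 given the odd order theorem: if all non-central real class sizes have the same 2-part and the real
elements of a Sylow 2-subgroup are central in it, then the group is soluble and its 2-elements generate a
2-nilpotent subgroup.
-/

set_option autoImplicit false
set_option linter.style.haveILetI false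

namespace CfsgLib.AfterFT

open Cfsg Subgroup

universe u
variable {G : Type u} [Group G] [Finite G]

theorem hasNormalTwoComplement_of_realFree {H : Type u} [Group H] [Finite H]
    (hreal : ∀ Q : Subgroup H, IsPGroup 2 Q → ∀ s ∈ Q, (∃ h ∈ Q, h * s * h⁻¹ = s⁻¹) → s * s = 1)
    (hinv : ∀ i : H, i * i = 1 → i ∈ center H) : HasNormalPComplement 2 H := by
  haveI : Fact (Nat.Prime 2) := ⟨Nat.prime_two⟩
  obtain ⟨S⟩ : Nonempty (Sylow 2 H) := inferInstance
  refine Cfsg.FusionSystem.hasNormalPComplement_of_centralizes S fun Q hQ g hg hgp => Subgroup.mem_centralizer_iff.mpr fun q hq => ?_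
  exact (commute_of_realFree (Nat.coprime_two_right.mp hgp) _ Q rfl (S.2.to_le hQ)
    (fun x hx => (Subgroup.mem_normalizer_iff.mp hg x).mp hx) (hreal Q (S.2.to_le hQ))
    (fun x _ h2 => Subgroup.mem_center_iff.mp (hinv x h2) g) q hq).symm.eq

/-- Row 4193 given the odd order theorem. -/
theorem real_class_two_part_solvable
    (odd : ∀ (H : Type u) [Group H] [Finite H], Odd (Nat.card H) → Group.IsSolvable H)
    (a : ℕ) (h : ∀ x : G, IsConj x x⁻¹ → x ∉ center G →
      ((centralizer ({x} : Set G)).index).factorization 2 = a)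
    (S : Sylow 2 G) (hS : ∀ s : ↥(S : Subgroup G), IsConj s s⁻¹ → s ∈ center ↥(S : Subgroup G)) :
    Group.IsSolvable G ∧ HasNormalPComplement 2 ↥(Subgroup.closure {g : G | ∃ k : ℕ, orderOf g = 2 ^ k}) := by
  classical
  haveI : Fact (Nat.Prime 2) := ⟨Nat.prime_two⟩
  set T := Subgroup.closure {g : G | ∃ k : ℕ, orderOf g = 2 ^ k} with hT
  have hconjS : ∀ Q : Subgroup G, IsPGroup 2 Q → ∃ k : G, ∀ q ∈ Q, k * q * k⁻¹ ∈ (S : Subgroup G) := fun Q hQ => by
    obtain ⟨P, hP⟩ := hQ.exists_le_sylow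
    obtain ⟨k, hk⟩ := MulAction.exists_smul_eq G P S
    refine ⟨k, fun q hq => ?_⟩
    rw [← hk, Sylow.coe_subgroup_smul]
    exact ⟨q, hP hq, rfl⟩
  by_cases hB : ∀ i : G, i * i = 1 → i ∈ center G
  · have hreal : ∀ Q : Subgroup G, IsPGroup 2 Q → ∀ s ∈ Q, (∃ h ∈ Q, h * s * h⁻¹ = s⁻¹) → s * s = 1 := by
      rintro Q hQ s hs ⟨g, hg, hgs⟩
      obtain ⟨k, hk⟩ := hconjS Q hQ
      set s' : (S : Subgroup G) := ⟨k * s * k⁻¹, hk s hs⟩ with hs'
      set g' : (S : Subgroup G) := ⟨k * g * k⁻¹, hk g hg⟩ with hg'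
      have he : g' * s' * g'⁻¹ = s'⁻¹ := Subtype.ext (by
        show k * g * k⁻¹ * (k * s * k⁻¹) * (k * g * k⁻¹)⁻¹ = (k * s * k⁻¹)⁻¹
        calc k * g * k⁻¹ * (k * s * k⁻¹) * (k * g * k⁻¹)⁻¹ = k * (g * s * g⁻¹) * k⁻¹ := by group
          _ = (k * s * k⁻¹)⁻¹ := by rw [hgs]; group)
      have hc := Subgroup.mem_center_iff.mp (hS s' (isConj_iff.mpr ⟨g', he⟩)) g'
      rw [hc, mul_inv_cancel_right] at he
      have h1 : k * s * k⁻¹ = (k * s * k⁻¹)⁻¹ := congrArg Subtype.val he
      have h2 : k * (s * s) * k⁻¹ = 1 := by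
        calc k * (s * s) * k⁻¹ = k * s * k⁻¹ * (k * s * k⁻¹) := by group
          _ = 1 := by nth_rw 2 [h1]; exact mul_inv_cancel _
      rwa [mul_inv_eq_one, mul_eq_left] at h2
    obtain ⟨P, N, hN, hc⟩ := hasNormalTwoComplement_of_realFree hreal hB
    haveI := hN
    refine ⟨?_, hasNormalTwoComplement_of_realFree ?_ ?_⟩
    · have hodd : Odd (Nat.card N) := by
        rw [Nat.odd_iff, ← Nat.two_dvd_ne_zero, ← hc.index_eq_card]
        exact P.not_dvd_index
      haveI := odd N hodd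
      haveI : Group.IsNilpotent (G ⧸ N) := by
        obtain ⟨k, hk⟩ := IsPGroup.iff_card.mp P.2
        refine (IsPGroup.of_card (p := 2) (n := k) ?_).isNilpotent
        rw [← Subgroup.index_eq_card, hc.symm.index_eq_card, hk]
      exact Group.isSolvable_of_ker_le_range N.subtype (QuotientGroup.mk' N)
        (by rw [QuotientGroup.ker_mk', Subgroup.range_subtype])
    · rintro Q hQ s hs ⟨g, hg, hgs⟩
      exact Subtype.ext (hreal _ (hQ.map T.subtype) s ⟨s, hs, rfl⟩ ⟨g, ⟨g, hg, rfl⟩, congrArg Subtype.val hgs⟩)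
    · intro i hi
      exact Subgroup.mem_center_iff.mpr fun g =>
        Subtype.ext (Subgroup.mem_center_iff.mp (hB i (congrArg Subtype.val hi)) g)
  push Not at hB
  obtain ⟨i, hi, hiZ⟩ := hB
  -- the common 2-part is trivial
  have ha : a = 0 := by
    have hio : ∃ j, orderOf i = 2 ^ j := by
      obtain h1 | h1 := (Nat.dvd_prime Nat.prime_two).mp (orderOf_dvd_of_pow_eq_one (x := i) (n := 2) (by rw [pow_two]; exact hi))
      · exact ⟨0, h1⟩
      · exact ⟨1, h1⟩
    obtain ⟨j, hj⟩ := hio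
    obtain ⟨k, hk⟩ := hconjS (zpowers i) (IsPGroup.of_card (n := j) (by rw [Nat.card_zpowers, hj]))
    set i' := k * i * k⁻¹ with hi'
    have hii : i' * i' = 1 := by rw [hi', show k * i * k⁻¹ * (k * i * k⁻¹) = k * (i * i) * k⁻¹ by group, hi]; group
    have hinvi : i'⁻¹ = i' := inv_eq_of_mul_eq_one_right hii
    set s : (S : Subgroup G) := ⟨i', hk i (mem_zpowers i)⟩ with hsdef
    have hs : s⁻¹ = s := Subtype.ext hinvi
    have hsc := hS s (by rw [hs])
    have hle : (S : Subgroup G) ≤ centralizer ({i'} : Set G) := fun y hy =>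
      Subgroup.mem_centralizer_singleton_iff.mpr (congrArg Subtype.val (Subgroup.mem_center_iff.mp hsc ⟨y, hy⟩))
    have hnd : ¬ 2 ∣ (centralizer ({i'} : Set G)).index := fun hd =>
      S.not_dvd_index (hd.trans (Subgroup.index_dvd_of_le hle))
    have hiZ' : i' ∉ center G := fun hm => hiZ (by
      simpa [hi', mul_assoc] using (inferInstance : (center G).Normal).conj_mem _ hm k⁻¹)
    rw [← h i' (by rw [hinvi]) hiZ', Nat.factorization_eq_zero_of_not_dvd hnd]
  -- hence `G / O₂(G)` has odd order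
  have hO : Odd (Nat.card (G ⧸ pCore 2 G)) := by
    rcases Nat.even_or_odd (Nat.card (G ⧸ pCore 2 G)) with he | ho
    swap
    · exact ho
    exfalso
    obtain ⟨w, y, q, b, hq, hq2, hy, hw, hinv⟩ := exists_two_element_inverts he
    have hyZ : y ∉ center G := fun hm => by
      rw [Subgroup.mem_center_iff.mp hm w, mul_inv_cancel_right] at hinv
      have : y ^ 2 = 1 := by rw [pow_two]; nth_rw 1 [hinv]; exact inv_mul_cancel y
      exact hq2 ((Nat.prime_dvd_prime_iff_eq hq Nat.prime_two).mp (hy ▸ orderOf_dvd_of_pow_eq_one this))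
    set C := centralizer ({y} : Set G) with hC
    have hCodd : ¬ 2 ∣ C.index := fun hd => by
      have h0 := h y (isConj_iff.mpr ⟨w, hinv⟩) hyZ
      rw [ha] at h0
      have hpos := Nat.Prime.factorization_pos_of_dvd Nat.prime_two Subgroup.FiniteIndex.index_ne_zero hd
      exact absurd h0 hpos.ne'
    have hyC : ∀ c ∈ C, w * c * w⁻¹ ∈ C ∧ w⁻¹ * c * w ∈ C := fun c hc => by
      have hc' : c * y = y * c := Subgroup.mem_centralizer_singleton_iff.mp hc
      have hinv2 : w⁻¹ * y * w = y⁻¹ := by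
        calc w⁻¹ * y * w = w⁻¹ * (y⁻¹)⁻¹ * w := by rw [inv_inv]
          _ = w⁻¹ * (w * y * w⁻¹)⁻¹ * w := by rw [hinv]
          _ = y⁻¹ := by group
      have hcm : Commute c y⁻¹ := Commute.inv_right hc'
      constructor <;> refine Subgroup.mem_centralizer_singleton_iff.mpr ?_
      · calc w * c * w⁻¹ * y = w * (c * (w⁻¹ * y * w)) * w⁻¹ := by group
          _ = w * ((w⁻¹ * y * w) * c) * w⁻¹ := by rw [hinv2, hcm.eq]
          _ = y * (w * c * w⁻¹) := by group
      · calc w⁻¹ * c * w * y = w⁻¹ * (c * (w * y * w⁻¹)) * w := by group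
          _ = w⁻¹ * ((w * y * w⁻¹) * c) * w := by rw [hinv, hcm.eq]
          _ = y * (w⁻¹ * c * w) := by group
    set D := C ⊔ zpowers w with hD
    haveI : (C.subgroupOf D).Normal := (Subgroup.normal_subgroupOf_iff_le_normalizer le_sup_left).mpr
      (sup_le le_normalizer (zpowers_le.mpr (Subgroup.mem_normalizer_iff.mpr fun c =>
        ⟨fun hc => (hyC c hc).1, fun hc => by simpa [mul_assoc] using (hyC _ hc).2⟩)))
    set wD : D := ⟨w, mem_sup_right (mem_zpowers w)⟩
    have h2 : 2 ∣ (C.subgroupOf D).index := by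
      have hne : (QuotientGroup.mk wD : D ⧸ C.subgroupOf D) ≠ 1 := fun e => hyZ (by
        exfalso
        have hwC : w * y = y * w := Subgroup.mem_centralizer_singleton_iff.mp (Subgroup.mem_subgroupOf.mp ((QuotientGroup.eq_one_iff wD).mp e))
        rw [hwC, mul_inv_cancel_right] at hinv
        have : y ^ 2 = 1 := by rw [pow_two]; nth_rw 1 [hinv]; exact inv_mul_cancel y
        exact hq2 ((Nat.prime_dvd_prime_iff_eq hq Nat.prime_two).mp (hy ▸ orderOf_dvd_of_pow_eq_one this)))
      rw [Subgroup.index_eq_card]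
      refine dvd_trans ?_ (_root_.orderOf_dvd_natCard (QuotientGroup.mk wD : D ⧸ C.subgroupOf D))
      obtain ⟨c, -, hc⟩ := (Nat.dvd_prime_pow Nat.prime_two).mp
        ((orderOf_map_dvd (QuotientGroup.mk' (C.subgroupOf D)) wD).trans
          (dvd_of_eq ((orderOf_injective D.subtype D.subtype_injective wD).symm.trans hw)))
      rcases c with _ | c
      · rw [pow_zero, orderOf_eq_one_iff] at hc; exact absurd hc hne
      · rw [show orderOf (QuotientGroup.mk wD : D ⧸ C.subgroupOf D) = 2 ^ (c + 1) from hc]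
        exact dvd_pow_self 2 (Nat.succ_ne_zero c)
    exact hCodd (dvd_trans h2 ⟨_, (Subgroup.relIndex_mul_index (le_sup_left : C ≤ D)).symm⟩)
  haveI := odd _ hO
  haveI : Group.IsNilpotent (pCore 2 G) := (isPGroup_pCore (G := G) 2).isNilpotent
  refine ⟨Group.isSolvable_of_ker_le_range (pCore 2 G).subtype (QuotientGroup.mk' (pCore 2 G))
    (by rw [QuotientGroup.ker_mk', Subgroup.range_subtype]), ?_⟩
  have hTle : T ≤ pCore 2 G := (closure_le _).mpr fun g ⟨k, hk⟩ => (QuotientGroup.eq_one_iff g).mp (by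
    refine orderOf_eq_one_iff.mp (Nat.eq_one_of_dvd_coprimes (Nat.Coprime.pow_left k hO.coprime_two_left) ?_ (_root_.orderOf_dvd_natCard _))
    exact hk ▸ orderOf_map_dvd (QuotientGroup.mk' (pCore 2 G)) g)
  have hTp : IsPGroup 2 T := (isPGroup_pCore (G := G) 2).to_le hTle
  obtain ⟨P⟩ : Nonempty (Sylow 2 T) := inferInstance
  refine ⟨P, ⊥, inferInstance, ?_⟩
  rw [show (P : Subgroup T) = ⊤ from (P.3 (hTp.of_equiv Subgroup.topEquiv.symm) le_top).symm]
  exact Subgroup.isComplement'_bot_top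

end CfsgLib.AfterFT
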