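import Cfsg.Agent.Lib.AfterFT.InvolutionComponent
import Cfsg.Prelude.Def_CaseTheorems

/-!
A standard subgroup centralized by an involution, when groups of odd order are solvable.
-/

set_option autoImplicit false
set_option linter.unusedSectionVars false
set_option linter.style.haveILetI false

namespace CfsgLib.AfterFT

open Cfsg Subgroup CfsgLib CfsgLib.Comp
open scoped commutatorElement

universe u

variable {G : Type u} [Group G] [Finite G]

/-- An element centralizing an involution of `C(A)` normalizes the standard subgroup `A`. -/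
theorem standard_fix {A : Subgroup G} (hA : IsStandardSubgroup A) {z : G} (hz : orderOf z = 2)
    (hzA : z ∈ Subgroup.centralizer (A : Set G)) {g : G} (hg : g * z = z * g) :
    g ∈ Subgroup.normalizer (A : Set G) := by
  by_contra hn
  rw [hA.2.2.2] at hn
  have h := hA.2.1.2 g hn
  have hzI : z ∈ Subgroup.centralizer (A : Set G) ⊓
      (Subgroup.centralizer (A : Set G)).map (MulAut.conj g).toMonoidHom :=
    Subgroup.mem_inf.mpr ⟨hzA, z, hzA, show g * z * g⁻¹ = z by rw [hg, mul_inv_cancel_right]⟩
  have h2 : orderOf z ∣ Nat.card ↥(Subgroup.centralizer (A : Set G) ⊓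
      (Subgroup.centralizer (A : Set G)).map (MulAut.conj g).toMonoidHom) := Subgroup.orderOf_dvd_natCard _ hzI
  rw [hz] at h2
  exact (Nat.not_even_iff_odd.mpr h) (even_iff_two_dvd.mpr h2)

/-- When `O(G) = 1` the `2`-layer is the layer. -/
theorem pLayer_two_eq_layer (odd : ∀ (H : Type u) [Group H] [Finite H], Odd (Nat.card H) → Group.IsSolvable H)
    (hO : oddCore G = ⊥) : pLayer 2 G = layer G := by
  refine le_antisymm (sSup_le fun K hK => ?_) (sSup_le fun K hK => le_sSup (component_isPComponent odd hK))
  have hinj : Function.Injective (bar 2 G) := by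
    rw [← MonoidHom.ker_eq_bot_iff, QuotientGroup.ker_mk']
    exact hO
  exact le_layer ⟨hK.1, isQuasisimple_of_equiv
    (K.equivMapOfInjective (bar 2 G) hinj).symm hK.2.1.2⟩

section Simple

variable (odd : ∀ (H : Type u) [Group H] [Finite H], Odd (Nat.card H) → Group.IsSolvable H)
  {A : Subgroup G} (hA : IsStandardSubgroup A)

include odd hA

/-- A subgroup of the layer containing `A` with no involution of `C(A)` central in it. -/
theorem no_component_centralized {D : Subgroup G} (hDN : ¬ D ≤ Subgroup.normalizer (A : Set G))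
    {K : Subgroup G} (hK : IsComponent K) (hKA : K ≤ Subgroup.centralizer (A : Set G))
    (hKD : K ≤ Subgroup.centralizer (D : Set G)) : False := by
  have hev : Even (Nat.card ↥K) := by
    rw [← Nat.not_odd_iff_even]
    exact fun h => isQuasisimple_not_isSolvable hK.2 (odd _ h)
  obtain ⟨x, hx⟩ := exists_prime_orderOf_dvd_card' (hp := ⟨Nat.prime_two⟩) 2 hev.two_dvd
  exact hDN fun g hg => standard_fix hA (z := (x : G)) (by rw [Subgroup.orderOf_coe, hx]) (hKA x.2)
    (hKD x.2 g hg)

end Simple

/-- No involution is centralized by `D` and `A` when `D` does not normalise `A`; so cores vanish. -/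
theorem center_eq_bot_of_standard {A : Subgroup G} (hA : IsStandardSubgroup A) (hO : oddCore G = ⊥)
    {D N : Subgroup G} (hDN : ¬ D ≤ Subgroup.normalizer (A : Set G)) (hN : N.IsSubnormal)
    (hab : ∀ x ∈ N, ∀ y ∈ N, x * y = y * x) (hNA : N ≤ Subgroup.centralizer (A : Set G))
    (hND : N ≤ Subgroup.centralizer (D : Set G)) : N = ⊥ := by
  have hodd : (Nat.card ↥N).Coprime 2 := by
    rw [Nat.coprime_two_right, ← Nat.not_even_iff_odd]
    intro hev
    obtain ⟨x, hx⟩ := exists_prime_orderOf_dvd_card' (hp := ⟨Nat.prime_two⟩) 2 hev.two_dvd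
    exact hDN fun g hg => standard_fix hA (z := (x : G)) (by rw [Subgroup.orderOf_coe, hx]) (hNA x.2)
      (hND x.2 g hg)
  rw [← le_bot_iff, ← hO]
  exact subnormal_coprime_le hN hodd

/-- The centre of a component is subnormal and abelian. -/
theorem center_map_facts {D : Subgroup G} (hD : IsComponent D) :
    ((Subgroup.center ↥D).map D.subtype).IsSubnormal ∧
      ∀ x ∈ (Subgroup.center ↥D).map D.subtype, ∀ y ∈ D, x * y = y * x := by
  refine ⟨(Subgroup.Normal.isSubnormal (H := Subgroup.center ↥D) inferInstance).trans' hD.1, ?_⟩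
  rintro _ ⟨x, hx, rfl⟩ y hy
  exact congrArg Subtype.val (Subgroup.mem_center_iff.mp hx ⟨y, hy⟩).symm

/-- S1347 with solvability of groups of odd order as a hypothesis. -/
theorem standard_cases (odd : ∀ (H : Type u) [Group H] [Finite H], Odd (Nat.card H) → Group.IsSolvable H)
    (A : Subgroup G) (hA : IsStandardSubgroup A) (hO : oddCore G = ⊥) (t : G) (ht : orderOf t = 2)
    (htA : t ∈ Subgroup.centralizer (A : Set G)) :
    A.Normal ∨ (∃ X : Subgroup G, IsSimpleGroup ↥X ∧ ¬ IsMulCommutative ↥X ∧ Nonempty (↥X ≃* ↥A) ∧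
      (∀ a ∈ X, ∀ b ∈ X.map (MulAut.conj t).toMonoidHom, a * b = b * a) ∧
      X ⊓ X.map (MulAut.conj t).toMonoidHom = ⊥ ∧ X ⊔ X.map (MulAut.conj t).toMonoidHom = layer G ∧
      Subgroup.centralizer (A : Set G) = Subgroup.zpowers t) ∨
      (A ≤ layer G ∧ IsSimpleGroup ↥(layer G) ∧ ¬ IsMulCommutative ↥(layer G)) := by
  classical
  have htt : t * t = 1 := by rw [← pow_two, ← ht, pow_orderOf_eq_one]
  have htinv : t⁻¹ = t := inv_eq_of_mul_eq_one_right htt
  have hAC : A ≤ Subgroup.centralizer ({t} : Set G) := fun a ha =>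
    Subgroup.mem_centralizer_singleton_iff.mpr (htA a ha)
  have hCN : Subgroup.centralizer ({t} : Set G) ≤ Subgroup.normalizer (A : Set G) := fun g hg =>
    standard_fix hA ht htA (Subgroup.mem_centralizer_singleton_iff.mp hg)
  haveI hAn : (A.subgroupOf (Subgroup.centralizer ({t} : Set G))).Normal :=
    (Subgroup.normal_subgroupOf_iff_le_normalizer hAC).mpr hCN
  have hAc : IsComponent (A.subgroupOf (Subgroup.centralizer ({t} : Set G))) :=
    ⟨Subgroup.Normal.isSubnormal inferInstance,
      isQuasisimple_of_equiv (Subgroup.subgroupOfEquivOfLe hAC).symm hA.1⟩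
  obtain ⟨D, hD, hcase⟩ := component_of_centralizer odd (pLayer_two_eq_layer odd hO) t ht A hAC hAc
  have hAna : ∀ {X : Subgroup G}, IsQuasisimple ↥X → (∀ a ∈ X, ∀ b ∈ X, a * b = b * a) → False := fun hX h =>
    isQuasisimple_not_isSolvable hX (Group.isSolvable_of_comm fun a b => Subtype.ext (h a a.2 b b.2))
  rcases hcase with rfl | ⟨hlt, hcomm⟩ | ⟨hmove, hAeq⟩
  · -- `A` is a component
    refine Or.inl ⟨fun a ha g => ?_⟩
    have hgA : IsComponent (A.map (MulAut.conj g).toMonoidHom) := isComponent_map_equiv (MulAut.conj g) hD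
    have he : A.map (MulAut.conj g).toMonoidHom = A := by
      by_contra hne
      exact hA.2.2.1 g hne ((components_eq_or_commute hD hgA).resolve_left (Ne.symm hne))
    exact he.le ⟨a, ha, rfl⟩
  · -- one component
    have hDA : ¬ D ≤ Subgroup.normalizer (A : Set G) := by
      intro h
      haveI : (A.subgroupOf D).Normal := (Subgroup.normal_subgroupOf_iff_le_normalizer hlt.le).mpr h
      rcases quasisimple_normal_le_center_or_eq_top hD.2 (A.subgroupOf D) with h1 | h1
      · exact hAna hA.1 fun a ha b hb => congrArg Subtype.val (Subgroup.mem_center_iff.mp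
          (h1 (show (⟨b, hlt.le hb⟩ : ↥D) ∈ A.subgroupOf D from hb)) ⟨a, hlt.le ha⟩)
      · exact hlt.not_ge (Subgroup.subgroupOf_eq_top.mp h1)
    have honly : ∀ K, IsComponent K → K = D := by
      intro K hK
      by_contra hne
      have hKD : K ≤ Subgroup.centralizer (D : Set G) :=
        Subgroup.commutator_eq_bot_iff_le_centralizer.mp ((components_eq_or_commute hK hD).resolve_left hne)
      exact no_component_centralized odd hA hDA hK (hKD.trans (Subgroup.centralizer_le hlt.le)) hKD
    have hlay : layer G = D := le_antisymm (sSup_le fun K hK => (honly K hK).le) (le_layer hD)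
    have hZ : Subgroup.center ↥D = ⊥ := by
      obtain ⟨hsn, hc⟩ := center_map_facts hD
      have h := center_eq_bot_of_standard hA hO hDA hsn (fun x hx y hy => hc x hx y (Subgroup.map_subtype_le _ hy))
        (fun x hx a ha => (hc x hx a (hlt.le ha)).symm) (fun x hx a ha => (hc x hx a ha).symm)
      exact (Subgroup.map_eq_bot_iff_of_injective _ D.subtype_injective).mp h
    have hs : IsSimpleGroup ↥D := by
      haveI := hD.2.2
      exact ((QuotientGroup.quotientMulEquivOfEq hZ).trans QuotientGroup.quotientBot).isSimpleGroup_congr.mp hD.2.2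
    refine Or.inr (Or.inr ?_)
    rw [hlay]
    exact ⟨hlt.le, hs, fun h => hAna hD.2 fun a ha b hb =>
      congrArg Subtype.val (h.is_comm.comm (⟨a, ha⟩ : ↥D) ⟨b, hb⟩)⟩
  · -- two components
    refine Or.inr (Or.inl ?_)
    set D' := D.map (MulAut.conj t).toMonoidHom with hD'def
    have hD' : IsComponent D' := isComponent_map_equiv (MulAut.conj t) hD
    have hc : ⁅D, D'⁆ = ⊥ := (components_eq_or_commute hD hD').resolve_left (Ne.symm hmove)
    have hcm : ∀ a ∈ D, ∀ b ∈ D', Commute a b := fun a ha b hb => comm_of_commutator_eq_bot hc ha hb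
    have hconj : ∀ d ∈ D, t * d * t⁻¹ ∈ D' := fun d hd => ⟨d, hd, rfl⟩
    have hAM : A ≤ (D ⊔ D') ⊓ Subgroup.centralizer ({t} : Set G) := hAeq.le.trans (Subgroup.map_subtype_le _)
    have hdiag : ∀ d ∈ D, d * (t * d * t⁻¹) ∈ Subgroup.centralizer ({t} : Set G) := by
      intro d hd
      rw [Subgroup.mem_centralizer_singleton_iff]
      calc d * (t * d * t⁻¹) * t = (t * d * t⁻¹) * d * t := by rw [(hcm d hd _ (hconj d hd)).eq]
        _ = t * (d * (t⁻¹ * d * t)) := by group
        _ = t * (d * (t * d * t⁻¹)) := by rw [htinv]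
    have hA1 : ¬ A ≤ D := fun h => hmove (by
      rcases components_eq_or_commute hD hD' with e | e
      · exact e.symm
      · exfalso
        refine hAna hA.1 fun a ha b hb => (comm_of_commutator_eq_bot e (h ha) ?_)
        exact ⟨b, h hb, by
          show t * b * t⁻¹ = b
          rw [← Subgroup.mem_centralizer_singleton_iff.mp (hAC hb), mul_inv_cancel_right]⟩)
    have hDA : ¬ D ≤ Subgroup.normalizer (A : Set G) := by
      intro h
      have h1 : ⁅D, A⁆ ≤ A := by
        rw [Subgroup.commutator_le]
        intro d hd a ha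
        rw [commutatorElement_def]
        exact A.mul_mem ((Subgroup.mem_normalizer_iff.mp (h hd) a).mp ha) (A.inv_mem ha)
      have h2 : ⁅D, A⁆ ≤ D := by
        rw [Subgroup.commutator_le]
        intro d hd a ha
        obtain ⟨x, hx, y, hy, rfl⟩ := mem_sup_of_commutator_eq_bot hc (Subgroup.mem_inf.mp (hAM ha)).1
        have : x * y * d⁻¹ * (x * y)⁻¹ = x * d⁻¹ * x⁻¹ := by
          calc x * y * d⁻¹ * (x * y)⁻¹ = x * (y * d⁻¹) * y⁻¹ * x⁻¹ := by group
            _ = x * (d⁻¹ * y) * y⁻¹ * x⁻¹ := by rw [(hcm _ (D.inv_mem hd) y hy).eq]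
            _ = x * d⁻¹ * x⁻¹ := by group
        rw [commutatorElement_def, mul_assoc d, mul_assoc d, this]
        exact D.mul_mem hd (D.mul_mem (D.mul_mem hx (D.inv_mem hd)) (D.inv_mem hx))
      haveI : ((D ⊓ A).subgroupOf A).Normal := by
        refine (Subgroup.normal_subgroupOf_iff_le_normalizer inf_le_right).mpr fun a ha =>
          mem_normalizer_of_maps fun x hx => Subgroup.mem_inf.mpr ⟨?_,
            A.mul_mem (A.mul_mem ha (Subgroup.mem_inf.mp hx).2) (A.inv_mem ha)⟩
        have hx1 := (Subgroup.mem_inf.mp hx).1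
        have h3 := h2 (Subgroup.commutator_mem_commutator hx1 ha)
        rw [commutatorElement_def] at h3
        have h4 : a * x⁻¹ * a⁻¹ ∈ D := by
          have := D.mul_mem (D.inv_mem hx1) h3
          simpa [mul_assoc] using this
        have := D.inv_mem h4
        simpa [mul_assoc] using this
      rcases quasisimple_normal_le_center_or_eq_top hA.1 ((D ⊓ A).subgroupOf A) with e | e
      · have h4 : ⁅D, A⁆ ≤ (Subgroup.center ↥A).map A.subtype := fun x hx =>
          ⟨⟨x, h1 hx⟩, e (Subgroup.mem_inf.mpr ⟨h2 hx, h1 hx⟩), rfl⟩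
        -- `D` centralizes `A`
        have hperf : ⁅A, A⁆ = A := by
          haveI := hA.1.1
          have hh : commutator ↥A = ⊤ := Group.IsPerfect.commutator_eq_top
          rw [commutator_def] at hh
          have hh' := congrArg (Subgroup.map A.subtype) hh
          rwa [Subgroup.map_commutator, ← MonoidHom.range_eq_map, A.range_subtype] at hh'
        have hZA : ⁅(Subgroup.center ↥A).map A.subtype, A⁆ = ⊥ := by
          rw [Subgroup.commutator_eq_bot_iff_le_centralizer]
          rintro _ ⟨z, hz, rfl⟩ y hy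
          exact congrArg Subtype.val (Subgroup.mem_center_iff.mp hz ⟨y, hy⟩)
        have h5 : ⁅⁅A, A⁆, D⁆ = ⊥ := by
          refine Subgroup.commutator_commutator_eq_bot_of_rotate ?_ ?_
          · rw [Subgroup.commutator_comm A D, eq_bot_iff, ← hZA]
            exact Subgroup.commutator_mono h4 le_rfl
          · rw [eq_bot_iff, ← hZA]
            exact Subgroup.commutator_mono h4 le_rfl
        rw [hperf] at h5
        refine hAna hD.2 fun a ha b hb => ?_
        -- conjugation by `b * tbt⁻¹ ∈ A` acts as `b` on `D`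
        have hAd : b * (t * b * t⁻¹) ∈ A := by
          have hD'c : D ⊔ D' ≤ Subgroup.normalizer (A : Set G) := sup_le h (by
            rintro _ ⟨d, hd, rfl⟩
            show t * d * t⁻¹ ∈ _
            have htN : t ∈ Subgroup.normalizer (A : Set G) :=
              standard_fix hA ht htA rfl
            exact mul_mem (mul_mem htN (h hd)) (inv_mem htN))
          rw [hAeq]
          exact ⟨⟨_, Subgroup.mem_inf.mpr ⟨Subgroup.mul_mem_sup hb (hconj b hb), hdiag b hb⟩⟩,
            diag_mem_layer htt hD hmove hb, rfl⟩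
        have h6 := comm_of_commutator_eq_bot h5 hAd ha
        have h7 := (hcm a ha _ (hconj b hb)).eq
        calc a * b = a * (b * (t * b * t⁻¹)) * (t * b * t⁻¹)⁻¹ := by group
          _ = b * ((t * b * t⁻¹) * a) * (t * b * t⁻¹)⁻¹ := by rw [← h6]; group
          _ = b * a := by rw [← h7]; group
      · exact hA1 ((Subgroup.subgroupOf_eq_top.mp e).trans inf_le_left)
    have honly : ∀ K, IsComponent K → K ≤ D ⊔ D' := by
      intro K hK
      by_cases h1 : K = D
      · exact le_sup_of_le_left h1.le
      by_cases h2 : K = D'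
      · exact le_sup_of_le_right h2.le
      exfalso
      have hKD : K ≤ Subgroup.centralizer ((D ⊔ D' : Subgroup G) : Set G) := by
        rw [Subgroup.le_centralizer_iff]
        refine sup_le ?_ ?_ <;> rw [Subgroup.le_centralizer_iff]
        · exact Subgroup.commutator_eq_bot_iff_le_centralizer.mp ((components_eq_or_commute hK hD).resolve_left h1)
        · exact Subgroup.commutator_eq_bot_iff_le_centralizer.mp ((components_eq_or_commute hK hD').resolve_left h2)
      exact no_component_centralized odd hA hDA hK (hKD.trans (Subgroup.centralizer_le (hAM.trans inf_le_left)))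
        (hKD.trans (Subgroup.centralizer_le (SetLike.coe_subset_coe.mpr (le_sup_left : D ≤ D ⊔ D'))))
    have hlay : D ⊔ D' = layer G := le_antisymm (sup_le (le_layer hD) (le_layer hD')) (sSup_le honly)
    have hEabs : ∀ N : Subgroup G, N.IsSubnormal → (∀ x ∈ N, ∀ y ∈ N, x * y = y * x) →
        N ≤ Subgroup.centralizer ((layer G : Subgroup G) : Set G) → N = ⊥ := by
      intro N hN hab hNE
      refine center_eq_bot_of_standard hA hO hDA hN hab ?_ (hNE.trans (Subgroup.centralizer_le (SetLike.coe_subset_coe.mpr ((le_sup_left : D ≤ D ⊔ D').trans hlay.le))))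
      exact hNE.trans (Subgroup.centralizer_le (SetLike.coe_subset_coe.mpr ((hAM.trans inf_le_left).trans hlay.le)))
    obtain ⟨hZsn, hZc⟩ := center_map_facts hD
    have hZ : Subgroup.center ↥D = ⊥ := by
      refine (Subgroup.map_eq_bot_iff_of_injective _ D.subtype_injective).mp
        (hEabs _ hZsn (fun x hx y hy => hZc x hx y (Subgroup.map_subtype_le _ hy)) ?_)
      intro x hx y hy
      rw [← hlay] at hy
      obtain ⟨a, ha, b, hb, rfl⟩ := mem_sup_of_commutator_eq_bot hc hy
      exact ((Commute.mul_right (hZc x hx a ha) (hcm x (Subgroup.map_subtype_le _ hx) b hb))).eq.symm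
    have hint : D ⊓ D' = ⊥ := by
      rw [eq_bot_iff]
      intro x hx
      obtain ⟨h1, h2⟩ := Subgroup.mem_inf.mp hx
      have h3 : (⟨x, h1⟩ : ↥D) ∈ Subgroup.center ↥D :=
        Subgroup.mem_center_iff.mpr fun d => Subtype.ext (hcm d d.2 x h2).eq
      rw [hZ, Subgroup.mem_bot] at h3
      exact congrArg Subtype.val h3
    have hsD : IsSimpleGroup ↥D :=
      ((QuotientGroup.quotientMulEquivOfEq hZ).trans QuotientGroup.quotientBot).isSimpleGroup_congr.mp hD.2.2
    -- `d ↦ d * tdt⁻¹` is an isomorphism onto `A`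
    let φ : ↥D →* G :=
      { toFun := fun d => (d : G) * (t * d * t⁻¹)
        map_one' := by simp
        map_mul' := fun a b => by
          have h := (hcm b b.2 (t * (a : G) * t⁻¹) (hconj a a.2)).eq
          calc ((a * b : ↥D) : G) * (t * (a * b : ↥D) * t⁻¹)
              = a * ((b : G) * (t * a * t⁻¹)) * (t * b * t⁻¹) := by rw [Subgroup.coe_mul]; group
            _ = a * ((t * a * t⁻¹) * b) * (t * b * t⁻¹) := by rw [h]
            _ = (a : G) * (t * a * t⁻¹) * ((b : G) * (t * b * t⁻¹)) := by group }
    have hsplit : ∀ a ∈ D, ∀ b ∈ D', a * b = 1 → a = 1 := fun a ha b hb hab => by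
      have h : a ∈ D ⊓ D' := Subgroup.mem_inf.mpr ⟨ha, by
        rw [eq_inv_of_mul_eq_one_left hab]; exact D'.inv_mem hb⟩
      rwa [hint, Subgroup.mem_bot] at h
    have hφinj : Function.Injective φ := (injective_iff_map_eq_one φ).mpr fun d hd =>
      Subtype.ext (hsplit d d.2 _ (hconj d d.2) hd)
    have hφA : φ.range = A := by
      apply le_antisymm
      · rintro _ ⟨d, rfl⟩
        rw [hAeq]
        exact ⟨⟨_, Subgroup.mem_inf.mpr ⟨Subgroup.mul_mem_sup d.2 (hconj d d.2), hdiag d d.2⟩⟩,
          diag_mem_layer htt hD hmove d.2, rfl⟩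
      · intro x hx
        obtain ⟨hx1, hx2⟩ := Subgroup.mem_inf.mp (hAM hx)
        obtain ⟨d, hd, e, he, rfl⟩ := mem_sup_of_commutator_eq_bot hc hx1
        refine ⟨⟨d, hd⟩, ?_⟩
        have he' : t * e * t⁻¹ ∈ D := by
          obtain ⟨e₀, he₀, rfl⟩ := he
          show t * (t * e₀ * t⁻¹) * t⁻¹ ∈ D
          have : t * (t * e₀ * t⁻¹) * t⁻¹ = (t * t) * e₀ * (t * t)⁻¹ := by group
          rw [this, htt]; simpa using he₀
        have hfix : d * e = (t * e * t⁻¹) * (t * d * t⁻¹) := by
          calc d * e = t * (d * e) * t⁻¹ := by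
                rw [← Subgroup.mem_centralizer_singleton_iff.mp hx2, mul_inv_cancel_right]
            _ = t * (e * d) * t⁻¹ := by rw [(hcm d hd e he).eq]
            _ = _ := by group
        have h1 : (t * e * t⁻¹)⁻¹ * d * (e * (t * d * t⁻¹)⁻¹) = 1 := by
          calc (t * e * t⁻¹)⁻¹ * d * (e * (t * d * t⁻¹)⁻¹) = (t * e * t⁻¹)⁻¹ * (d * e) * (t * d * t⁻¹)⁻¹ := by group
            _ = 1 := by rw [hfix]; group
        have h2 := hsplit _ (D.mul_mem (D.inv_mem he') hd) _ (D'.mul_mem he (D'.inv_mem (hconj d hd))) h1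
        show d * (t * d * t⁻¹) = d * e
        rw [hfix, inv_mul_eq_one.mp h2]
    refine ⟨D, hsD, fun h => hAna hD.2 fun a ha b hb =>
        congrArg Subtype.val (h.is_comm.comm (⟨a, ha⟩ : ↥D) ⟨b, hb⟩), ⟨(MonoidHom.ofInjective hφinj).trans
        (MulEquiv.subgroupCongr hφA)⟩, fun a ha b hb => (hcm a ha b hb).eq, hint, hlay, ?_⟩
    -- the centralizer of `A`
    have hF : fittingSubgroup G = ⊥ := by
      by_contra hF
      have hnil := CfsgLib.isNilpotent_fittingSubgroup (G := G)
      haveI : Nontrivial ↥(fittingSubgroup G) := (Subgroup.nontrivial_iff_ne_bot _).mpr hF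
      set Z := (Subgroup.center ↥(fittingSubgroup G)).map (fittingSubgroup G).subtype with hZdef
      have hZb : Z = ⊥ := by
        refine hEabs Z ((Subgroup.Normal.isSubnormal (H := Subgroup.center ↥(fittingSubgroup G)) inferInstance).trans'
          (Subgroup.Normal.isSubnormal inferInstance)) ?_ ?_
        · rintro _ ⟨x, hx, rfl⟩ _ ⟨y, -, rfl⟩
          exact congrArg Subtype.val (Subgroup.mem_center_iff.mp hx y).symm
        · exact (Subgroup.map_subtype_le _).trans (Subgroup.le_centralizer_iff.mp layer_le_centralizer_fitting)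
      rw [hZdef, Subgroup.map_eq_bot_iff_of_injective _ (fittingSubgroup G).subtype_injective] at hZb
      exact Group.IsNilpotent.center_ne_bot (G := ↥(fittingSubgroup G)) hZb
    have hCE : Subgroup.centralizer ((layer G : Subgroup G) : Set G) = ⊥ := by
      have hgf : generalizedFittingSubgroup G = layer G := by
        rw [generalizedFittingSubgroup, hF, sup_bot_eq]
      have hle : Subgroup.centralizer ((layer G : Subgroup G) : Set G) ≤ layer G := by
        rw [← hgf]; exact centralizer_generalizedFitting_le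
      rw [eq_bot_iff]
      intro x hx
      have hx' := hle hx
      rw [← hlay] at hx'
      obtain ⟨a, ha, b, hb, rfl⟩ := mem_sup_of_commutator_eq_bot hc hx'
      have key : ∀ (P : Subgroup G), P ≤ layer G → ∀ w ∈ P, ∀ v : G, (∀ y ∈ P, Commute v y) →
          (a * b = w * v) → Subgroup.center ↥P = ⊥ → w = 1 := by
        intro P hP w hw v hv hab hZP
        have : (⟨w, hw⟩ : ↥P) ∈ Subgroup.center ↥P := Subgroup.mem_center_iff.mpr fun y => Subtype.ext (by
          show (y : G) * w = w * y
          have h1 : (y : G) * (a * b) = (a * b) * y := hx y (hP y.2)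
          rw [hab] at h1
          calc (y : G) * w = y * (w * v) * v⁻¹ := by group
            _ = w * (v * y) * v⁻¹ := by rw [h1]; group
            _ = w * (y * v) * v⁻¹ := by rw [(hv y y.2).eq]
            _ = w * y := by group)
        rw [hZP, Subgroup.mem_bot] at this
        exact congrArg Subtype.val this
      have ha1 : a = 1 := key D (le_layer hD) a ha b (fun y hy => (hcm y hy b hb).symm) rfl hZ
      have hZ' : Subgroup.center ↥D' = ⊥ := by
        have h := congrArg (Subgroup.map ((MulAut.conj t).subgroupMap D).toMonoidHom) hZ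
        rw [CfsgLib.Comp.map_center_of_equiv, Subgroup.map_bot] at h
        exact h
      have hb1 : b = 1 := key D' (le_layer hD') b hb a (fun y hy => hcm a ha y hy) (hcm a ha b hb).eq hZ'
      rw [ha1, hb1, mul_one]
      exact Subgroup.one_mem _
    refine le_antisymm (fun g hg => ?_) (Subgroup.zpowers_le.mpr htA)
    have hfixD : ∀ g ∈ Subgroup.centralizer (A : Set G), D.map (MulAut.conj g).toMonoidHom = D → g = 1 := by
      intro g hg hgD
      have hgt : ∀ d ∈ D, g * d * g⁻¹ = d := by
        intro d hd
        have hdA : d * (t * d * t⁻¹) ∈ A := hφA ▸ ⟨⟨d, hd⟩, rfl⟩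
        have h1 : g * (d * (t * d * t⁻¹)) * g⁻¹ = d * (t * d * t⁻¹) := by
          rw [← hg _ hdA, mul_inv_cancel_right]
        have hgd : g * d * g⁻¹ ∈ D := hgD.le ⟨d, hd, rfl⟩
        have hgD' : g * (t * d * t⁻¹) * g⁻¹ ∈ D' := by
          have hgc : IsComponent (D'.map (MulAut.conj g).toMonoidHom) := isComponent_map_equiv (MulAut.conj g) hD'
          have hne : D'.map (MulAut.conj g).toMonoidHom ≠ D := fun e => hmove
            ((Subgroup.map_injective (MulAut.conj g).injective) (e.trans hgD.symm))
          rcases components_eq_or_commute hgc hD' with e | e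
          · exact e.le ⟨_, hconj d hd, rfl⟩
          · exfalso
            have hcD := (components_eq_or_commute hgc hD).resolve_left hne
            have hle := honly _ hgc
            refine hAna hgc.2 fun u hu v hv => ?_
            obtain ⟨p, hp, q, hq, rfl⟩ := mem_sup_of_commutator_eq_bot hc (hle hv)
            exact (Commute.mul_right (comm_of_commutator_eq_bot hcD hu hp) (comm_of_commutator_eq_bot e hu hq)).eq
        have h2 : (d⁻¹ * (g * d * g⁻¹)) * ((g * (t * d * t⁻¹) * g⁻¹) * (t * d * t⁻¹)⁻¹) = 1 := by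
          calc _ = d⁻¹ * (g * (d * (t * d * t⁻¹)) * g⁻¹) * (t * d * t⁻¹)⁻¹ := by group
            _ = 1 := by rw [h1]; group
        exact (inv_mul_eq_one.mp (hsplit _ (D.mul_mem (D.inv_mem hd) hgd) _
          (D'.mul_mem hgD' (D'.inv_mem (hconj d hd))) h2)).symm
      have hgE : g ∈ Subgroup.centralizer ((layer G : Subgroup G) : Set G) := by
        rw [← hlay]
        have hD1 : D ≤ Subgroup.centralizer ({g} : Set G) := fun d hd => by
          rw [Subgroup.mem_centralizer_singleton_iff]
          calc d * g = g * d * g⁻¹ * g := by rw [hgt d hd]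
            _ = g * d := by group
        intro y hy
        obtain ⟨a, ha, b, hb, rfl⟩ := mem_sup_of_commutator_eq_bot hc hy
        have hbg : b * g = g * b := by
          obtain ⟨d, hd, rfl⟩ := hb
          have hdA : d * (t * d * t⁻¹) ∈ A := hφA ▸ ⟨⟨d, hd⟩, rfl⟩
          have h1 := hg _ hdA
          have h2 := Subgroup.mem_centralizer_singleton_iff.mp (hD1 hd)
          show t * d * t⁻¹ * g = g * (t * d * t⁻¹)
          calc t * d * t⁻¹ * g = d⁻¹ * (d * (t * d * t⁻¹) * g) := by group
            _ = d⁻¹ * (g * d) * (t * d * t⁻¹) := by rw [h1]; group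
            _ = g * (t * d * t⁻¹) := by rw [← h2]; group
        calc a * b * g = a * (b * g) := mul_assoc _ _ _
          _ = (a * g) * b := by rw [hbg, ← mul_assoc]
          _ = g * (a * b) := by rw [Subgroup.mem_centralizer_singleton_iff.mp (hD1 ha), mul_assoc]
      rw [hCE, Subgroup.mem_bot] at hgE
      exact hgE
    have hgc : IsComponent (D.map (MulAut.conj g).toMonoidHom) := isComponent_map_equiv (MulAut.conj g) hD
    by_cases e1 : D.map (MulAut.conj g).toMonoidHom = D
    · rw [hfixD g hg e1]; exact one_mem _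
    rcases components_eq_or_commute hgc hD' with e2 | e2
    · have h : D.map (MulAut.conj (t * g)).toMonoidHom = D := by
        rw [show (D.map (MulAut.conj (t * g)).toMonoidHom) = cj (t * g) D from rfl, cj_mul]
        show cj t (D.map (MulAut.conj g).toMonoidHom) = D
        rw [e2]
        exact cj_cj_self htt D
      have := hfixD _ (mul_mem htA hg) h
      rw [eq_inv_of_mul_eq_one_right this]
      exact inv_mem (Subgroup.mem_zpowers t)
    · exfalso
      have hcD := (components_eq_or_commute hgc hD).resolve_left e1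
      have hle := honly _ hgc
      refine hAna hgc.2 fun u hu v hv => ?_
      obtain ⟨p, hp, q, hq, rfl⟩ := mem_sup_of_commutator_eq_bot hc (hle hv)
      exact (Commute.mul_right (comm_of_commutator_eq_bot hcD hu hp) (comm_of_commutator_eq_bot e2 hu hq)).eq

end CfsgLib.AfterFT
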