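import Cfsg.Agent.Lib.AfterFT.FixInvolutions
import Cfsg.Agent.Lib.CharTheory.Burnside
import Cfsg.Agent.Lib.Basic
import Cfsg.Agent.S4207
import Cfsg.Agent.S2904
import Cfsg.Agent.Lib.AfterFT.OutSmallRank

/-!
A group of automorphisms of an elementary abelian 2-group which is transitive on the non-identity elements has a
Sylow subgroup whose normaliser in the whole automorphism group is solvable.
-/

set_option autoImplicit false
set_option linter.unusedSectionVars false
set_option linter.style.haveILetI false

namespace CfsgLib.AfterFT.TransNormalizer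

open Subgroup
open scoped Pointwise

universe u

variable {E : Type u} [Group E] [Finite E]

instance : Finite (MulAut E) := Finite.of_injective (fun f => (f : E → E)) DFunLike.coe_injective

/-- Automorphisms of an elementary abelian group embed in a general linear group. -/
theorem card_mulAut_dvd_three {F : Type u} [Group F] [Finite F] (hc : ∀ a b : F, a * b = b * a)
    (h3 : ∀ a : F, a ^ 3 = 1) :
    ∃ e : ℕ, Nat.card F = 3 ^ e ∧ Nat.card (MulAut F) ∣ ∏ i : Fin e, (3 ^ e - 3 ^ (i : ℕ)) := by
  classical
  haveI : Fact (Nat.Prime 3) := ⟨Nat.prime_three⟩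
  letI : CommGroup F := { (inferInstance : Group F) with mul_comm := hc }
  letI : Module (ZMod 3) (Additive F) := AddCommGroup.zmodModule (n := 3) fun x => by
    show Additive.ofMul ((Additive.toMul x) ^ 3) = 0
    rw [h3]; rfl
  haveI : Module.Finite (ZMod 3) (Additive F) := Module.Finite.of_finite
  let b := Module.finBasis (ZMod 3) (Additive F)
  refine ⟨Module.finrank (ZMod 3) (Additive F), ?_, ?_⟩
  · have h := Nat.card_congr b.equivFun.toEquiv
    rw [Nat.card_fun, Nat.card_zmod, Nat.card_fin] at h
    exact (Nat.card_congr Additive.ofMul).trans h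
  · let l : MulAut F →* (Additive F →ₗ[ZMod 3] Additive F)ˣ :=
      MonoidHom.toHomUnits
        { toFun := fun φ => (MonoidHom.toAdditive (φ : F ≃* F).toMonoidHom).toZModLinearMap 3
          map_one' := LinearMap.ext fun _ => rfl
          map_mul' := fun _ _ => LinearMap.ext fun _ => rfl }
    have hl : Function.Injective l := fun φ ψ e => MulEquiv.ext fun x =>
      congrArg Additive.toMul
        (LinearMap.congr_fun (congrArg Units.val e) (Additive.ofMul x) :)
    let m : MulAut F →* GL (Fin (Module.finrank (ZMod 3) (Additive F))) (ZMod 3) :=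
      (Units.map (LinearMap.toMatrixAlgEquiv b).toMulEquiv.toMonoidHom).comp l
    have hm : Function.Injective m := by
      intro φ ψ e
      refine hl (Units.ext ((LinearMap.toMatrixAlgEquiv b).injective ?_))
      exact congrArg Units.val e
    refine (Subgroup.card_dvd_of_injective m hm).trans (dvd_of_eq ?_)
    rw [Matrix.card_GL_field]
    simp

/-- A finite group is solvable if every perfect subgroup is trivial. -/
theorem isSolvable_of_perfect_trivial {G : Type u} [Group G] [Finite G]
    (h : ∀ H : Subgroup G, _root_.commutator H = ⊤ → H = ⊥) : Group.IsSolvable G := by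
  suffices ∀ n, ∀ H : Subgroup G, Nat.card H = n → Group.IsSolvable H by
    haveI := this _ ⊤ rfl
    exact Group.isSolvable_of_surjective (f := (⊤ : Subgroup G).subtype) fun x => ⟨⟨x, mem_top x⟩, rfl⟩
  intro n
  induction n using Nat.strong_induction_on with
  | _ n ih =>
    intro H hH
    by_cases htop : _root_.commutator H = ⊤
    · obtain rfl := h H htop
      infer_instance
    · have hlt : Nat.card ((_root_.commutator H).map H.subtype) < n := by
        rw [Subgroup.card_subtype, ← hH]
        exact lt_of_le_of_ne (Subgroup.card_le_card_group _) fun e => htop (Subgroup.eq_top_of_card_eq _ e)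
      haveI := ih _ hlt _ rfl
      haveI : Group.IsSolvable (_root_.commutator H) :=
        Group.isSolvable_of_isSolvable_injective
          (f := (Subgroup.equivMapOfInjective (_root_.commutator H) H.subtype H.subtype_injective).toMonoidHom)
          (MulEquiv.injective _)
      haveI : Group.IsSolvable (Abelianization H) := Group.isSolvable_of_comm fun a b => mul_comm a b
      exact Group.isSolvable_of_ker_le_range (_root_.commutator H).subtype Abelianization.of
        (by rw [Abelianization.ker_of, range_subtype])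

/-- A free action of a cyclic group divides the number of points. -/
theorem orderOf_dvd_card (z : MulAut E) (s : Set E) (hs : ∀ x ∈ s, z x ∈ s)
    (hfree : ∀ j : ℕ, z ^ j ≠ 1 → ∀ x ∈ s, (z ^ j) x ≠ x) : orderOf z ∣ Nat.card s := by
  classical
  have hpow : ∀ j : ℕ, ∀ x ∈ s, (z ^ j) x ∈ s := by
    intro j
    induction j with
    | zero => intro x hx; exact hx
    | succ j ih => intro x hx; rw [pow_succ', MulAut.mul_apply]; exact hs _ (ih x hx)
  letI : MulAction (zpowers z) s :=
    { smul := fun g x => ⟨(g : MulAut E) x, by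
        obtain ⟨j, hj⟩ := (isOfFinOrder_of_finite z).mem_powers_iff_mem_zpowers.mpr g.2
        rw [← show z ^ j = (g : MulAut E) from hj]
        exact hpow j x x.2⟩
      one_smul := fun x => Subtype.ext rfl
      mul_smul := fun g h x => Subtype.ext rfl }
  have hst : ∀ x : s, MulAction.stabilizer (zpowers z) x = ⊥ := by
    intro x
    refine eq_bot_iff.mpr fun g hg => ?_
    obtain ⟨j, hj⟩ := (isOfFinOrder_of_finite z).mem_powers_iff_mem_zpowers.mpr g.2
    have hj' : z ^ j = (g : MulAut E) := hj
    by_contra hne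
    refine hfree j (fun e => hne (Subtype.ext (by rw [← hj', e]; rfl))) x x.2 ?_
    rw [hj']
    exact congrArg Subtype.val (MulAction.mem_stabilizer_iff.mp hg)
  haveI : Fintype s := Fintype.ofFinite s
  rw [Nat.card_congr (MulAction.selfEquivSigmaOrbits (zpowers z) s)]
  haveI : Fintype (MulAction.orbitRel.Quotient (zpowers z) s) := Fintype.ofFinite _
  rw [Nat.card_sigma]
  refine Finset.dvd_sum fun o _ => dvd_of_eq ?_
  rw [← Nat.card_zpowers]
  have h := Nat.card_congr (MulAction.orbitEquivQuotientStabilizer (zpowers z) o.out)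
  rw [hst, ← Subgroup.index_eq_card, Subgroup.index_bot] at h
  exact h.symm

/-- The fixed points of an automorphism. -/
def fix (a : MulAut E) : Subgroup E where
  carrier := {v | a v = v}
  one_mem' := map_one a
  mul_mem' := fun {x y} hx hy => by
    show a (x * y) = x * y
    rw [map_mul, show a x = x from hx, show a y = y from hy]
  inv_mem' := fun {x} hx => by
    show a x⁻¹ = x⁻¹
    rw [map_inv, show a x = x from hx]

theorem mem_fix {a : MulAut E} {v : E} : v ∈ fix a ↔ a v = v := Iff.rfl

theorem fix_invariant {a g : MulAut E} (h : g * a = a * g) {v : E} (hv : v ∈ fix a) : g v ∈ fix a := by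
  show a (g v) = g v
  rw [← MulAut.mul_apply, ← h, MulAut.mul_apply, show a v = v from hv]

/-- The invariant subgroups of an automorphism of order `m` whose proper powers have no fixed points. -/
theorem irreducible_of_free {n m : ℕ} (hn : Nat.card E = 2 ^ n) (z : MulAut E) (hz : orderOf z = m)
    (hfree : ∀ j : ℕ, z ^ j ≠ 1 → ∀ x : E, x ≠ 1 → (z ^ j) x ≠ x)
    (hm : ∀ c, 0 < c → c < n → ¬ m ∣ 2 ^ c - 1) (U : Subgroup E) (hU : ∀ v ∈ U, z v ∈ U) : U = ⊥ ∨ U = ⊤ := by
  haveI : Fact (Nat.Prime 2) := ⟨Nat.prime_two⟩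
  obtain ⟨c, hc⟩ := ((IsPGroup.of_card hn).to_subgroup U).exists_card_eq
  have hd : m ∣ Nat.card ((U : Set E) \ {1} : Set E) := by
    rw [← hz]
    refine orderOf_dvd_card z _ (fun x hx => ⟨hU x hx.1, fun h => hx.2 ?_⟩) fun j hj x hx => hfree j hj x hx.2
    exact z.injective (h.trans (map_one z).symm)
  have hcard : Nat.card ((U : Set E) \ {1} : Set E) = 2 ^ c - 1 := by
    rw [Nat.card_coe_set_eq, Set.ncard_diff_singleton_of_mem (one_mem U), ← Nat.card_coe_set_eq]
    exact congrArg (· - 1) hc
  rw [hcard] at hd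
  rcases Nat.eq_zero_or_pos c with rfl | hc0
  · exact Or.inl (Subgroup.card_eq_one.mp (by rw [hc, pow_zero]))
  · have hcn : c ≤ n := (Nat.pow_le_pow_iff_right (by norm_num : 1 < 2)).mp (hn ▸ hc ▸ Subgroup.card_le_card_group U)
    rcases hcn.eq_or_lt with rfl | hlt
    · exact Or.inr (Subgroup.eq_top_of_card_eq U (hc.trans hn.symm))
    · exact absurd hd (hm c hc0 hlt)

/-- An automorphism whose only invariant subgroups are trivial has a cyclic centraliser. -/
theorem cyclic_centralizer (hcomm : ∀ a b : E, a * b = b * a) [Nontrivial E] (z : MulAut E)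
    (hirr : ∀ U : Subgroup E, (∀ v ∈ U, z v ∈ U) → U = ⊥ ∨ U = ⊤) :
    IsCyclic (Subgroup.centralizer ({z} : Set (MulAut E))) := by
  classical
  letI : CommGroup E := { (inferInstance : Group E) with mul_comm := hcomm }
  let V := Additive E
  haveI : Finite (AddMonoid.End V) := Finite.of_injective (fun φ : AddMonoid.End V => (φ : V → V)) DFunLike.coe_injective
  let ι : MulAut E →* AddMonoid.End V :=
    { toFun := fun φ => (φ : E ≃* E).toMonoidHom.toAdditive
      map_one' := rfl
      map_mul' := fun _ _ => rfl }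
  let D : Subring (AddMonoid.End V) := Subring.centralizer {ι z}
  have hD : ∀ d ∈ D, ∀ x, d (ι z x) = ι z (d x) := fun d hd x =>
    (DFunLike.congr_fun (Subring.mem_centralizer_iff.mp hd _ rfl) x).symm
  obtain ⟨e₀, he₀⟩ := exists_ne (1 : E)
  have hx₁ : Additive.ofMul e₀ ≠ (0 : V) := he₀
  have hDinj : ∀ d ∈ D, ∀ x, x ≠ 0 → d x = 0 → d = 0 := by
    intro d hd x hx h0
    let U : Subgroup E :=
      { carrier := {v | d (Additive.ofMul v) = 0}
        one_mem' := map_zero d
        mul_mem' := fun {a b} ha hb => by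
          show d (Additive.ofMul a + Additive.ofMul b) = 0
          rw [map_add, show d (Additive.ofMul a) = 0 from ha, show d (Additive.ofMul b) = 0 from hb, add_zero]
        inv_mem' := fun {a} ha => by
          show d (- Additive.ofMul a) = 0
          rw [map_neg, show d (Additive.ofMul a) = 0 from ha, neg_zero] }
    rcases hirr U (fun v hv => by
      show d (ι z (Additive.ofMul v)) = 0
      rw [hD d hd, show d (Additive.ofMul v) = 0 from hv, map_zero]) with h | h
    · have h1 : Additive.toMul x ∈ U := h0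
      rw [h, Subgroup.mem_bot] at h1
      exact absurd h1 hx
    · exact DFunLike.ext _ _ fun y => (show y.toMul ∈ U from h ▸ mem_top _)
  haveI : Nontrivial D := ⟨⟨0, 1, fun e => hx₁ (by
    have := DFunLike.congr_fun (congrArg Subtype.val e) (Additive.ofMul e₀)
    exact this.symm)⟩⟩
  haveI : NoZeroDivisors D := by
    refine ⟨fun {d e} hde => ?_⟩
    by_cases hy : (e : AddMonoid.End V) (Additive.ofMul e₀) = 0
    · exact Or.inr (Subtype.ext (hDinj _ e.2 _ hx₁ hy))
    · exact Or.inl (Subtype.ext (hDinj _ d.2 _ hy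
        (DFunLike.congr_fun (congrArg Subtype.val hde) (Additive.ofMul e₀))))
  haveI : IsDomain D := NoZeroDivisors.to_isDomain D
  letI : CommRing D :=
    { (inferInstance : Ring D) with mul_comm := fun a b => (Finite.isDomain_to_isField D).mul_comm a b }
  haveI : IsDomain D := NoZeroDivisors.to_isDomain D
  let f : Subgroup.centralizer ({z} : Set (MulAut E)) →* D :=
    { toFun := fun c => ⟨ι c, Subring.mem_centralizer_iff.mpr (by
        rintro _ rfl
        rw [← map_mul, ← map_mul, Subgroup.mem_centralizer_singleton_iff.mp c.2])⟩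
      map_one' := Subtype.ext (map_one ι)
      map_mul' := fun a b => Subtype.ext (map_mul ι _ _) }
  exact isCyclic_of_subgroup_isDomain f fun a b h => Subtype.ext (MulEquiv.ext fun x =>
    congrArg Additive.toMul (DFunLike.congr_fun (congrArg Subtype.val h) (Additive.ofMul x)))

/-- The normaliser of a subgroup is solvable once its centraliser and the automizer are. -/
theorem normalizer_solvable {M : Type u} [Group M] [Finite M] (R : Subgroup M)
    (hC : Group.IsSolvable (Subgroup.centralizer (R : Set M)))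
    (hA : ∀ Q : Subgroup (MulAut R), Nat.card Q ∣ Nat.card M → Group.IsSolvable Q) :
    Group.IsSolvable (normalizer (R : Set M)) := by
  set f := Subgroup.normalizerMonoidHom R
  haveI : Group.IsSolvable f.range := hA _ ((Subgroup.card_range_dvd f).trans (Subgroup.card_subgroup_dvd_card _))
  haveI : Group.IsSolvable f.ker := by
    refine Group.isSolvable_of_isSolvable_injective
      (f := (((normalizer (R : Set M)).subtype).comp f.ker.subtype).codRestrict (Subgroup.centralizer (R : Set M))
        fun x => ?_) ?_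
    · obtain ⟨y, hy⟩ := x
      rw [Subgroup.normalizerMonoidHom_ker] at hy
      exact hy
    · intro x y e
      refine Subtype.ext (Subtype.ext ?_)
      simpa using congrArg Subtype.val e
  exact Group.isSolvable_of_ker_le_range f.ker.subtype f.rangeRestrict
    (by rw [MonoidHom.ker_rangeRestrict, range_subtype])

/-- A matrix of order nine, as a map. -/
def nine (x : Fin 6 → ZMod 2) : Fin 6 → ZMod 2 := ![x 5, x 0, x 1, x 2 + x 5, x 3, x 4]

/-- Its inverse. -/
def nineInv (x : Fin 6 → ZMod 2) : Fin 6 → ZMod 2 := ![x 1, x 2, x 3 + x 0, x 4, x 5, x 0]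

set_option maxRecDepth 20000 in
theorem nine_inv : ∀ v, nineInv (nine v) = v ∧ nine (nineInv v) = v := by decide

set_option maxRecDepth 20000 in
theorem nine_pow : (∀ v, nine^[9] v = v) ∧ nine^[3] ![1, 0, 0, 0, 0, 0] ≠ ![1, 0, 0, 0, 0, 0] := by decide

/-- An automorphism of order nine of an elementary abelian group of order 64. -/
theorem exists_orderOf_nine (hcomm : ∀ a b : E, a * b = b * a) (h2 : ∀ a : E, a ^ 2 = 1)
    (hn : Nat.card E = 2 ^ 6) : ∃ g : MulAut E, orderOf g = 9 := by
  classical
  haveI : Fact (Nat.Prime 2) := ⟨Nat.prime_two⟩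
  haveI : Fact (Nat.Prime 3) := ⟨Nat.prime_three⟩
  letI : CommGroup E := { (inferInstance : Group E) with mul_comm := hcomm }
  letI : Module (ZMod 2) (Additive E) := AddCommGroup.zmodModule (n := 2) fun x => by
    show Additive.ofMul ((Additive.toMul x) ^ 2) = 0
    rw [h2]; rfl
  haveI : Module.Finite (ZMod 2) (Additive E) := Module.Finite.of_finite
  have hfr : Module.finrank (ZMod 2) (Additive E) = 6 := by
    have h := Module.natCard_eq_pow_finrank (K := ZMod 2) (V := Additive E)
    rw [Nat.card_zmod, ← Nat.card_congr Additive.ofMul, hn] at h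
    exact (Nat.pow_right_injective le_rfl h).symm
  let e := ((Module.finBasisOfFinrankEq (ZMod 2) (Additive E) hfr).equivFun).toAddEquiv
  let c : (Fin 6 → ZMod 2) ≃+ (Fin 6 → ZMod 2) :=
    { toFun := nine
      invFun := nineInv
      left_inv := fun x => (nine_inv x).1
      right_inv := fun x => (nine_inv x).2
      map_add' := fun x y => by funext i; fin_cases i <;> simp [nine, add_add_add_comm] }
  let t := (e.trans c).trans e.symm
  let g : MulAut E :=
    { toFun := fun x => (t (Additive.ofMul x)).toMul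
      invFun := fun x => (t.symm (Additive.ofMul x)).toMul
      left_inv := fun x => congrArg Additive.toMul (t.symm_apply_apply (Additive.ofMul x))
      right_inv := fun x => congrArg Additive.toMul (t.apply_symm_apply (Additive.ofMul x))
      map_mul' := fun x y => congrArg Additive.toMul (map_add t (Additive.ofMul x) (Additive.ofMul y)) }
  have hg : ∀ (k : ℕ) (x : E), (g ^ k) x = (e.symm ((nine^[k]) (e (Additive.ofMul x)))).toMul := by
    intro k
    induction k with
    | zero => intro x; simp
    | succ k ih =>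
      intro x
      rw [pow_succ', MulAut.mul_apply, ih, Function.iterate_succ_apply']
      show (e.symm (nine (e (Additive.ofMul _)))).toMul = _
      rw [ofMul_toMul, e.apply_symm_apply]
  refine ⟨g, orderOf_eq_prime_pow (p := 3) (n := 1) ?_ ?_⟩
  · intro h
    have h1 := MulEquiv.congr_fun h (e.symm ![1, 0, 0, 0, 0, 0]).toMul
    rw [hg, MulAut.one_apply, ofMul_toMul, e.apply_symm_apply] at h1
    have h2 := e.symm.injective (Additive.toMul.injective h1)
    exact nine_pow.2 (by simpa using h2)
  · refine MulEquiv.ext fun x => ?_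
    rw [hg, MulAut.one_apply]
    have h9 : nine^[3 ^ (1 + 1)] (e (Additive.ofMul x)) = e (Additive.ofMul x) := nine_pow.1 _
    rw [h9, e.symm_apply_apply]
    rfl

/-- An identity in groups of exponent two. -/
theorem four_lines {V : Type u} [CommGroup V] (h : ∀ w : V, w * w = 1) (x0 x1 x2 x3 x4 x5 x6 x7 x8 : V) :
    (x0 * x1 * x2) * (x0 * x3 * x4) * (x0 * x5 * x6) * (x0 * x7 * x8) *
      (x0 * x1 * x2 * x3 * x5 * x7 * x4 * x8 * x6) = x0 := by
  calc _ = x0 * (x0 * x0) * (x0 * x0) * ((x1 * x1) * (x2 * x2) * (x3 * x3) * (x4 * x4) * (x5 * x5) * (x6 * x6) *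
          (x7 * x7) * (x8 * x8)) := by ac_rfl
    _ = x0 := by simp only [h, mul_one]

/-- For two commuting automorphisms of order three, the fixed points of the four lines generate. -/
theorem le_of_lines (hcomm : ∀ a b : E, a * b = b * a) (h2 : ∀ a : E, a ^ 2 = 1) {a b : MulAut E}
    (U K : Subgroup E) (haU : ∀ v ∈ U, a v ∈ U) (hbU : ∀ v ∈ U, b v ∈ U) (hab : ∀ v ∈ U, a (b v) = b (a v))
    (ha : ∀ v ∈ U, a (a (a v)) = v) (hb : ∀ v ∈ U, b (b (b v)) = v)
    (f1 : ∀ v ∈ U, a v = v → v ∈ K) (f2 : ∀ v ∈ U, b v = v → v ∈ K) (f3 : ∀ v ∈ U, a (b v) = v → v ∈ K)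
    (f4 : ∀ v ∈ U, a (a (b v)) = v → v ∈ K) : U ≤ K := by
  intro v hv
  letI : CommGroup E := { (inferInstance : Group E) with mul_comm := hcomm }
  have h : ∀ w : E, w * w = 1 := fun w => (pow_two w).symm.trans (h2 w)
  -- the orbit products are fixed
  have key : ∀ c : MulAut E, (∀ w ∈ U, c w ∈ U) → c (c (c v)) = v → (∀ w ∈ U, c w = w → w ∈ K) →
      v * c v * c (c v) ∈ K := by
    intro c hcU hc3 hf
    refine hf _ (mul_mem (mul_mem hv (hcU v hv)) (hcU _ (hcU v hv))) ?_
    rw [map_mul, map_mul, hc3]
    simp only [mul_comm, mul_left_comm, mul_assoc]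
  have k1 := key a haU (ha v hv) f1
  have k2 := key b hbU (hb v hv) f2
  have hsw : ∀ w ∈ U, b (a w) = a (b w) := fun w hw => (hab w hw).symm
  have hbv := hbU v hv
  have hbbv := hbU _ hbv
  have habv := haU _ hbv
  have k3 := key (a * b) (fun w hw => haU _ (hbU w hw)) (by
    simp only [MulAut.mul_apply]
    rw [hsw _ hbv, hsw _ (haU _ hbbv), hsw _ hbbv, hb v hv, ha v hv]) (fun w hw => f3 w hw)
  have k4 := key (a * (a * b)) (fun w hw => haU _ (haU _ (hbU w hw))) (by
    simp only [MulAut.mul_apply]
    rw [hsw _ habv, hsw _ hbv, ha _ (haU _ hbbv), hsw _ hbbv, hb v hv, ha v hv]) (fun w hw => f4 w hw)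
  simp only [MulAut.mul_apply] at k3 k4
  rw [hsw _ habv, hsw _ hbv] at k4
  rw [hsw _ hbv] at k3
  -- `v` is the product of the four orbit products and the total product
  set T := v * a v * a (a v) * b v * b (a v) * b (a (a v)) * b (b v) * b (b (a v)) * b (b (a (a v))) with hT
  have kT : T ∈ K := by
    have e : T = (v * a v * a (a v)) * b (v * a v * a (a v)) * b (b (v * a v * a (a v))) := by
      rw [hT]; simp only [map_mul, mul_comm, mul_left_comm, mul_assoc]
    have hn : v * a v * a (a v) ∈ U := mul_mem (mul_mem hv (haU v hv)) (haU _ (haU v hv))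
    rw [e]
    refine f2 _ (mul_mem (mul_mem hn (hbU _ hn)) (hbU _ (hbU _ hn))) ?_
    rw [map_mul b, map_mul b, hb _ hn]
    simp only [mul_comm, mul_left_comm]
  have hid : (v * a v * a (a v)) * (v * b v * b (b v)) * (v * a (b v) * a (a (b (b v)))) *
      (v * a (a (b v)) * a (b (b v))) * T = v := by
    rw [hT, hsw _ (haU v hv), hsw v hv, hsw _ (haU _ hbv), hsw _ hbv]
    exact four_lines h _ _ _ _ _ _ _ _ _
  have ha4 : a (a (a (a (b (b v))))) = a (b (b v)) := ha _ (haU _ hbbv)
  rw [ha4] at k4
  rw [← hid]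
  exact mul_mem (mul_mem (mul_mem (mul_mem k1 k2) k3) k4) kT

/-- The centraliser of a Sylow 3-subgroup, all of whose elements have order three, in a transitive group on the
63 non-identity elements. -/
theorem centralizer_solvable_of_exp (hcomm : ∀ a b : E, a * b = b * a) (h2 : ∀ a : E, a ^ 2 = 1)
    (hn : Nat.card E = 2 ^ 6) (R : Subgroup (MulAut E)) {k : ℕ} (hR : Nat.card R = 3 ^ k) (hk2 : 2 ≤ k) (hk3 : k ≤ 3)
    (hexp : ∀ g ∈ R, g * g * g = 1)
    (hstab : ∀ S ≤ R, (∃ v : E, v ≠ 1 ∧ ∀ g ∈ S, g v = v) → 9 * Nat.card S ∣ Nat.card R) :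
    Group.IsSolvable (Subgroup.centralizer (R : Set (MulAut E))) := by
  classical
  haveI : Fact (Nat.Prime 3) := ⟨Nat.prime_three⟩
  haveI : Fact (Nat.Prime 2) := ⟨Nat.prime_two⟩
  have hR27 : Nat.card R ∣ 27 := hR ▸ Nat.pow_dvd_pow 3 hk3
  have hord : ∀ g ∈ R, g ≠ 1 → orderOf g = 3 := fun g hg h1 =>
    orderOf_eq_prime (by rw [pow_succ, pow_two]; exact hexp g hg) h1
  have happ : ∀ g ∈ R, ∀ v, g (g (g v)) = v := fun g hg v => by
    rw [← MulAut.mul_apply, ← MulAut.mul_apply, hexp g hg]; rfl
  -- a stabiliser has order at most three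
  have hsmall : ∀ g ∈ R, g ≠ 1 → ∀ h ∈ R, ∀ v : E, v ≠ 1 → g v = v → h v = v → h ∈ zpowers g := by
    intro g hg hg1 h hh v hv hgv hhv
    let S : Subgroup (MulAut E) :=
      R ⊓ { carrier := {f | f v = v}
            one_mem' := rfl
            mul_mem' := fun {f f'} hf hf' => by
              show f (f' v) = v
              rw [show f' v = v from hf', show f v = v from hf]
            inv_mem' := fun {f} hf => by
              show f.symm v = v
              rw [MulEquiv.symm_apply_eq]; exact hf.symm }
    have hS := hstab S inf_le_left ⟨v, hv, fun f hf => hf.2⟩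
    have h3 : Nat.card S ≤ 3 := by
      have := Nat.le_of_dvd (by norm_num) (hS.trans hR27)
      omega
    have hle : zpowers g ≤ S := zpowers_le.mpr ⟨hg, hgv⟩
    rw [Subgroup.eq_of_le_of_card_ge hle (by rw [Nat.card_zpowers, hord g hg hg1]; exact h3)]
    exact ⟨hh, hhv⟩
  -- two independent commuting elements have a common fixed line
  have hline : ∀ (U : Subgroup E) (g h : MulAut E), g ∈ R → h ∈ R → (∀ v ∈ U, g v ∈ U) → (∀ v ∈ U, h v ∈ U) →
      (∀ v ∈ U, g (h v) = h (g v)) → U ≠ ⊥ →
      ∃ f ∈ ({g, h, g * h, g * g * h} : Set (MulAut E)), f ∈ R ∧ ∃ v ∈ U, v ≠ 1 ∧ f v = v := by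
    intro U g h hg hh hgU hhU hgh hU
    by_contra hno
    push Not at hno
    refine hU (eq_bot_iff.mpr (le_of_lines hcomm h2 U ⊥ hgU hhU hgh (fun v _ => happ g hg v) (fun v _ => happ h hh v)
      ?_ ?_ ?_ ?_))
    · exact fun v hv e => Subgroup.mem_bot.mpr (by_contra fun h1 => hno g (by simp) hg v hv h1 e)
    · exact fun v hv e => Subgroup.mem_bot.mpr (by_contra fun h1 => hno h (by simp) hh v hv h1 e)
    · exact fun v hv e => Subgroup.mem_bot.mpr (by_contra fun h1 => hno (g * h) (by simp) (mul_mem hg hh) v hv h1 e)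
    · exact fun v hv e => Subgroup.mem_bot.mpr (by_contra fun h1 =>
        hno (g * g * h) (by simp) (mul_mem (mul_mem hg hg) hh) v hv h1 e)
  haveI : Nontrivial E := Finite.one_lt_card_iff_nontrivial.mp (by rw [hn]; norm_num)
  -- central elements of `R` have no fixed points
  have hR9 : 9 ≤ Nat.card R := hR ▸ (le_trans (by norm_num) (Nat.pow_le_pow_right (by norm_num : 0 < 3) hk2))
  have hcen : ∀ z ∈ R, z ≠ 1 → (∀ g ∈ R, g * z = z * g) → ∀ v, z v = v → v = 1 := by
    intro z hz hz1 hzc v hzv
    by_contra hv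
    have h27 : Nat.card R = 27 := by
      have h := hstab (zpowers z) (zpowers_le.mpr hz) ⟨v, hv, fun g hg => by
        obtain ⟨j, rfl⟩ := (isOfFinOrder_of_finite z).mem_powers_iff_mem_zpowers.mpr hg
        show (z ^ j) v = v
        induction j with
        | zero => rfl
        | succ j ih => rw [pow_succ', MulAut.mul_apply, ih (Subgroup.npow_mem_zpowers z j), hzv]⟩
      rw [Nat.card_zpowers, hord z hz hz1] at h
      exact Nat.dvd_antisymm hR27 h
    let z' : R := ⟨z, hz⟩
    haveI hzn : (zpowers z').Normal := ⟨fun n hn g => by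
      obtain ⟨j, rfl⟩ := hn
      have : g * z' = z' * g := Subtype.ext (hzc g g.2)
      rw [show g * z' ^ j * g⁻¹ = z' ^ j from by
        rw [(Commute.zpow_right this j).eq, mul_inv_cancel_right]]
      exact ⟨j, rfl⟩⟩
    have hidx : (zpowers z').index = 3 ^ 2 := by
      have h1 := (zpowers z').card_mul_index
      rw [Nat.card_zpowers, show orderOf z' = 3 from (Subgroup.orderOf_coe z').symm.trans (hord z hz hz1), h27] at h1
      omega
    have hcomR : ∀ g h : R, g⁻¹ * h⁻¹ * g * h ∈ zpowers z' := fun g h => by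
      rw [← QuotientGroup.eq_one_iff]
      have hq := (IsPGroup.commGroupOfCardEqPrimeSq (p := 3) (G := R ⧸ zpowers z') hidx).mul_comm
      show ((QuotientGroup.mk' (zpowers z')) (g⁻¹ * h⁻¹ * g * h)) = 1
      simp only [map_mul, map_inv]
      generalize QuotientGroup.mk' (zpowers z') g = x
      generalize QuotientGroup.mk' (zpowers z') h = y
      calc x⁻¹ * y⁻¹ * x * y = x⁻¹ * (y⁻¹ * x) * y := by group
        _ = x⁻¹ * (x * y⁻¹) * y := by rw [show y⁻¹ * x = x * y⁻¹ from hq _ _]
        _ = 1 := by group
    obtain ⟨b, hb, hbz⟩ : ∃ b ∈ R, b ∉ zpowers z := by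
      by_contra hno
      push Not at hno
      have := Subgroup.card_le_of_le (show R ≤ zpowers z from hno)
      rw [Nat.card_zpowers, hord z hz hz1] at this
      omega
    obtain ⟨c, hc, hcS⟩ : ∃ c ∈ R, c ∉ closure ({z, b} : Set (MulAut E)) := by
      by_contra hno
      push Not at hno
      have hle : R ≤ zpowers z ⊔ zpowers b := by
        rw [zpowers_eq_closure, zpowers_eq_closure, ← Subgroup.closure_union]
        exact hno
      have hnorm : zpowers b ≤ normalizer ((zpowers z : Subgroup (MulAut E)) : Set (MulAut E)) :=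
        (zpowers_le.mpr (Subgroup.mem_centralizer_iff.mpr fun y hy => by
          obtain ⟨j, rfl⟩ := hy
          exact ((show Commute b z from hzc b hb).zpow_right j).eq.symm)).trans (Subgroup.centralizer_le_normalizer _)
      have h1 : Nat.card (zpowers z ⊔ zpowers b : Subgroup (MulAut E)) ≤ 9 := by
        have h2' : ((zpowers z ⊔ zpowers b : Subgroup (MulAut E)) : Set (MulAut E)) =
            ((zpowers z : Set (MulAut E)) * (zpowers b : Set (MulAut E))) :=
          Subgroup.coe_mul_of_right_le_normalizer_left _ _ hnorm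
        calc Nat.card (zpowers z ⊔ zpowers b : Subgroup (MulAut E))
            = Set.ncard ((zpowers z : Set (MulAut E)) * (zpowers b : Set (MulAut E))) := by
              rw [← h2', ← Nat.card_coe_set_eq]; rfl
          _ ≤ Set.ncard (zpowers z : Set (MulAut E)) * Set.ncard (zpowers b : Set (MulAut E)) := Set.natCard_mul_le
          _ ≤ 3 * 3 := by
              refine Nat.mul_le_mul ?_ ?_
              · rw [← Nat.card_coe_set_eq]; exact le_of_eq ((Nat.card_zpowers z).trans (hord z hz hz1))
              · rw [← Nat.card_coe_set_eq]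
                exact le_of_eq ((Nat.card_zpowers b).trans (hord b hb fun e => hbz (e ▸ one_mem _)))
      have := Subgroup.card_le_of_le hle
      omega
    have hU : fix z ≠ ⊥ := fun e => hv (Subgroup.mem_bot.mp (e ▸ (hzv : v ∈ fix z)))
    have hcm : ∀ w ∈ fix z, b (c w) = c (b w) := by
      intro w hw
      obtain ⟨j, hj⟩ := (isOfFinOrder_of_finite z').mem_powers_iff_mem_zpowers.mpr (hcomR ⟨b, hb⟩ ⟨c, hc⟩)
      have hj' : z ^ j = b⁻¹ * c⁻¹ * b * c := congrArg Subtype.val hj
      have hfix : ∀ i : ℕ, (z ^ i) w = w := by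
        intro i
        induction i with
        | zero => rfl
        | succ i ih => rw [pow_succ', MulAut.mul_apply, ih, show z w = w from hw]
      have e : b * c = c * b * z ^ j := by rw [hj']; group
      calc b (c w) = (b * c) w := rfl
        _ = c (b ((z ^ j) w)) := by rw [e]; rfl
        _ = c (b w) := by rw [hfix]
    obtain ⟨f, hf, hfR, w, hw, hw1, hfw⟩ := hline (fix z) b c hb hc (fun _ => fix_invariant (hzc b hb))
      (fun _ => fix_invariant (hzc c hc)) hcm hU
    have hfz : f ∈ zpowers z := hsmall z hz hz1 f hfR w hw1 hw hfw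
    have hzle : zpowers z ≤ closure ({z, b} : Set (MulAut E)) := zpowers_le.mpr (subset_closure (by simp))
    have hb' : b ∈ closure ({z, b} : Set (MulAut E)) := subset_closure (by simp)
    rcases hf with rfl | rfl | rfl | rfl
    · exact hbz hfz
    · exact hcS (hzle hfz)
    · exact hcS ((Subgroup.mul_mem_cancel_left _ hb').mp (hzle hfz))
    · exact hcS ((Subgroup.mul_mem_cancel_left _ (mul_mem hb' hb')).mp (hzle hfz))
  -- some element of `R` fixes a point
  haveI : Nontrivial R := Finite.one_lt_card_iff_nontrivial.mp (by omega)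
  obtain ⟨z, hzZ, hz1⟩ := Subgroup.nontrivial_iff_exists_ne_one _ |>.mp
    ((IsPGroup.of_card hR).center_nontrivial)
  have hzc : ∀ g ∈ R, g * (z : MulAut E) = z * g := fun g hg =>
    congrArg Subtype.val (Subgroup.mem_center_iff.mp hzZ ⟨g, hg⟩)
  have hzne : (z : MulAut E) ≠ 1 := fun e => hz1 (Subtype.ext e)
  obtain ⟨b₀, hb₀, hbz₀⟩ : ∃ b ∈ R, b ∉ zpowers (z : MulAut E) := by
    by_contra hno
    push Not at hno
    have := Subgroup.card_le_of_le (show R ≤ zpowers (z : MulAut E) from hno)
    rw [Nat.card_zpowers, hord z z.2 hzne] at this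
    omega
  obtain ⟨a, haS, haR, v₀, -, hv₀, hav₀⟩ := hline ⊤ z b₀ z.2 hb₀ (fun _ _ => mem_top _) (fun _ _ => mem_top _)
    (fun v _ => by rw [← MulAut.mul_apply, ← MulAut.mul_apply, hzc b₀ hb₀]) top_ne_bot
  have ha1 : a ≠ 1 := by
    rintro rfl
    rcases haS with h | h | h | h
    · exact hzne h.symm
    · exact hbz₀ (h ▸ one_mem _)
    · exact hbz₀ (eq_inv_of_mul_eq_one_right h.symm ▸ inv_mem (mem_zpowers _))
    · exact hbz₀ (eq_inv_of_mul_eq_one_right h.symm ▸ inv_mem (mul_mem (mem_zpowers _) (mem_zpowers _)))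
  obtain ⟨b, hb, hba⟩ : ∃ b ∈ R, b * a ≠ a * b := by
    by_contra hno
    push Not at hno
    exact hv₀ (hcen a haR ha1 hno v₀ hav₀)
  set c := b * a * b⁻¹ * a⁻¹ with hcdef
  have hcR : c ∈ R := mul_mem (mul_mem (mul_mem hb haR) (inv_mem hb)) (inv_mem haR)
  have hc1 : c ≠ 1 := fun e => hba (by
    calc b * a = c * a * b := by rw [hcdef]; group
      _ = a * b := by rw [e, one_mul])
  have hcc : ∀ g ∈ R, g * c = c * g := by
    intro g hg
    have hidx : (Subgroup.center R).index ∣ 3 ^ 2 := by
      have h1 := (Subgroup.center R).card_mul_index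
      obtain ⟨i, hi⟩ := (IsPGroup.of_card hR).to_subgroup (Subgroup.center R) |>.exists_card_eq
      have hi0 : i ≠ 0 := fun e => hz1 (Subtype.ext (by
        have : Subgroup.center R = ⊥ := Subgroup.card_eq_one.mp (by rw [hi, e, pow_zero])
        rw [this, Subgroup.mem_bot] at hzZ
        exact congrArg Subtype.val hzZ))
      have h3 : 3 * (Subgroup.center R).index ∣ 27 := (h1 ▸ Nat.mul_dvd_mul_right (hi ▸ dvd_pow_self 3 hi0) _).trans hR27
      exact (Nat.mul_dvd_mul_iff_left (show 0 < 3 by norm_num)).mp h3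
    obtain ⟨i, hi2, hi⟩ := (Nat.dvd_prime_pow Nat.prime_three).mp hidx
    have hab : ∀ x y : R ⧸ Subgroup.center R, x * y = y * x := by
      rcases (show i = 0 ∨ i = 1 ∨ i = 2 by omega) with rfl | rfl | rfl
      · haveI : Subsingleton (R ⧸ Subgroup.center R) := (Nat.card_eq_one_iff_unique.mp hi).1
        exact fun x y => Subsingleton.elim _ _
      · haveI := isCyclic_of_prime_card (p := 3) (hi.trans (pow_one 3))
        exact fun x y => (IsCyclic.commGroup (α := R ⧸ Subgroup.center R)).mul_comm x y
      · exact fun x y => (IsPGroup.commGroupOfCardEqPrimeSq (p := 3) hi).mul_comm x y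
    have hmem : (⟨c, hcR⟩ : R) ∈ Subgroup.center R := by
      rw [← QuotientGroup.eq_one_iff, show (⟨c, hcR⟩ : R) =
        ⟨b, hb⟩ * ⟨a, haR⟩ * (⟨b, hb⟩ : R)⁻¹ * (⟨a, haR⟩ : R)⁻¹ from rfl]
      simp only [QuotientGroup.mk_mul, QuotientGroup.mk_inv]
      rw [hab ((⟨b, hb⟩ : R) : R ⧸ Subgroup.center R)]; group
    exact congrArg Subtype.val (Subgroup.mem_center_iff.mp hmem ⟨g, hg⟩)
  have hcfix := hcen c hcR hc1 hcc
  have hac : a * c = c * a := hcc a haR
  -- the three pieces have order four
  have hba' : b * a = c * a * b := by rw [hcdef]; group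
  have hbc : b * (c * a) = c * (c * a) * b := by
    rw [← mul_assoc, hcc b hb, mul_assoc, hba', ← mul_assoc]
  have hinj : ∀ f f' : MulAut E, b * f = f' * b → Nat.card (fix f) ≤ Nat.card (fix f') := by
    intro f f' hff
    refine Nat.card_le_card_of_injective (fun v : fix f => (⟨b v, ?_⟩ : fix f')) ?_
    · show f' (b v) = b v
      rw [← MulAut.mul_apply, ← hff, MulAut.mul_apply, show f (v : E) = v from v.2]
    · intro x y e
      exact Subtype.ext (b.injective (congrArg Subtype.val e))
  have h3 : c * (c * (c * a)) = a := by rw [← mul_assoc, ← mul_assoc, hexp c hcR, one_mul]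
  have hs1 := hinj a (c * a) hba'
  have hs2 := hinj (c * a) (c * (c * a)) hbc
  have hs3 : Nat.card (fix (c * (c * a))) ≤ Nat.card (fix a) := by
    refine hinj _ _ ?_
    rw [← mul_assoc, hcc b hb, mul_assoc, hbc, ← mul_assoc, h3]
  have hdisj : fix a ⊓ fix (c * a) = ⊥ := by
    refine eq_bot_iff.mpr fun v hv => Subgroup.mem_bot.mpr (hcfix v ?_)
    have h1 : a v = v := hv.1
    have h2' : c (a v) = v := hv.2
    rwa [h1] at h2'
  have hprod : Nat.card (fix a) * Nat.card (fix (c * a)) ≤ 64 := by
    rw [← Nat.card_prod, show (64 : ℕ) = Nat.card E by rw [hn]; norm_num]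
    refine Nat.card_le_card_of_injective (fun p : fix a × fix (c * a) => (p.1 : E) * p.2) ?_
    rintro ⟨x, y⟩ ⟨x', y'⟩ e
    have e' : (x : E) * y = (x' : E) * y' := e
    have hm : (x' : E)⁻¹ * x ∈ fix a ⊓ fix (c * a) := by
      refine Subgroup.mem_inf.mpr ⟨(fix a).mul_mem ((fix a).inv_mem x'.2) x.2, ?_⟩
      have : (x' : E)⁻¹ * x = (y' : E) * (y : E)⁻¹ := by
        rw [eq_mul_inv_iff_mul_eq, mul_assoc, e', inv_mul_cancel_left]
      rw [this]
      exact (fix (c * a)).mul_mem y'.2 ((fix (c * a)).inv_mem y.2)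
    rw [hdisj, Subgroup.mem_bot, inv_mul_eq_one] at hm
    have hx : x = x' := Subtype.ext hm.symm
    subst hx
    exact Prod.ext rfl (Subtype.ext (mul_left_cancel e'))
  have hs4 : Nat.card (fix a) ≤ 4 := by
    have hEp : IsPGroup 2 E := IsPGroup.of_card hn
    obtain ⟨d, hd⟩ := (hEp.to_subgroup (fix a)).exists_card_eq
    have h3d : 3 ∣ Nat.card (((fix a : Subgroup E) : Set E) \ {1} : Set E) := by
      rw [← hord c hcR hc1]
      refine orderOf_dvd_card c _ (fun x hx => ⟨fix_invariant hac.symm hx.1, fun e => hx.2 ?_⟩) ?_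
      · exact c.injective (e.trans (map_one c).symm)
      · intro j hj x hx e
        refine hx.2 (hcen (c ^ j) (pow_mem hcR j) hj (fun g hg => ((show Commute g c from hcc g hg).pow_right j).eq) x e)
    rw [Nat.card_coe_set_eq, Set.ncard_diff_singleton_of_mem (one_mem (fix a)), ← Nat.card_coe_set_eq,
      show Nat.card ((fix a : Subgroup E) : Set E) = 2 ^ d from hd] at h3d
    have hsq : Nat.card (fix a) * Nat.card (fix a) ≤ 64 := (Nat.mul_le_mul_left _ hs1).trans hprod
    rw [hd] at hsq ⊢
    have hd3 : d ≤ 3 := by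
      by_contra h
      have : 16 ≤ 2 ^ d := le_trans (by norm_num) (Nat.pow_le_pow_right (by norm_num : 0 < 2) (show 4 ≤ d by omega))
      nlinarith
    interval_cases d <;> revert h3d <;> norm_num
  -- perfect groups centralising `R` are trivial
  refine isSolvable_of_perfect_trivial fun H hH => ?_
  have hfixed : ∀ f ∈ R, Nat.card (fix f) ≤ 4 → ∀ h : H, ∀ v ∈ fix f, (h : MulAut E) v = v := by
    intro f hf hf4 h v hv
    have hcomf : ∀ g : H, ((g : Subgroup.centralizer (R : Set (MulAut E))) : MulAut E) * f =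
        f * ((g : Subgroup.centralizer (R : Set (MulAut E))) : MulAut E) := fun g =>
      (Subgroup.mem_centralizer_iff.mp g.1.2 f hf).symm
    obtain ⟨e, he, hd⟩ := CfsgLib.AfterFT.OutSolvable.card_mulAut_dvd (F := fix f)
      (fun x y => Subtype.ext (hcomm x y)) (fun x => Subtype.ext (h2 x))
    have hsol : Group.IsSolvable (MulAut (fix f)) := by
      have he2 : e ≤ 2 := (Nat.pow_le_pow_iff_right (by norm_num : 1 < 2)).mp (by rw [← he]; exact hf4)
      refine CfsgLib.AfterFT.OutSolvable.isSolvable_of_dvd Nat.prime_three (k := 1) (hd.trans ?_)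
      interval_cases e <;> simp [Fin.prod_univ_two]
    let φ : H →* MulAut (fix f) :=
      { toFun := fun g =>
          { toFun := fun x => ⟨((g : Subgroup.centralizer (R : Set (MulAut E))) : MulAut E) x, fix_invariant (hcomf g) x.2⟩
            invFun := fun x => ⟨(((g⁻¹ : H) : Subgroup.centralizer (R : Set (MulAut E))) : MulAut E) x,
              fix_invariant (hcomf g⁻¹) x.2⟩
            left_inv := fun x => Subtype.ext (MulEquiv.symm_apply_apply _ _)
            right_inv := fun x => Subtype.ext (MulEquiv.apply_symm_apply _ _)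
            map_mul' := fun x y => Subtype.ext (map_mul _ (x : E) y) }
        map_one' := MulEquiv.ext fun x => rfl
        map_mul' := fun g g' => MulEquiv.ext fun x => rfl }
    have := CfsgLib.AfterFT.FixInvolutions.hom_eq_one hH hsol φ
    exact congrArg Subtype.val (MulEquiv.congr_fun (DFunLike.congr_fun this h) ⟨v, hv⟩)
  refine eq_bot_iff.mpr fun h hh => Subgroup.mem_bot.mpr (Subtype.ext (MulEquiv.ext fun v => ?_))
  have hall := le_of_lines hcomm h2 (a := c) (b := a) ⊤ (fix ((h : Subgroup.centralizer (R : Set (MulAut E))) : MulAut E))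
    (fun _ _ => mem_top _) (fun _ _ => mem_top _)
    (fun v _ => by rw [← MulAut.mul_apply, ← MulAut.mul_apply, hac])
    (fun v _ => happ c hcR v) (fun v _ => happ a haR v)
    (fun w _ e => by rw [hcfix w e]; exact one_mem _)
    (fun w _ e => hfixed a haR hs4 ⟨h, hh⟩ w e)
    (fun w _ e => hfixed (c * a) (mul_mem hcR haR) (le_trans (hs2.trans hs3) hs4) ⟨h, hh⟩ w e)
    (fun w _ e => hfixed (c * (c * a)) (mul_mem hcR (mul_mem hcR haR)) (hs3.trans hs4) ⟨h, hh⟩ w e)
  exact hall (mem_top v)

/-- Every transitive group on the non-identity elements of an elementary abelian 2-group has a Sylow subgroup with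
solvable normaliser in the automorphism group. -/
theorem exists_sylow_normalizer_solvable (hcomm : ∀ a b : E, a * b = b * a) (h2 : ∀ a : E, a ^ 2 = 1)
    (X : Subgroup (MulAut E)) (htrans : ∀ a b : E, a ≠ 1 → b ≠ 1 → ∃ g ∈ X, g a = b) :
    ∃ (p : ℕ) (_ : Fact p.Prime) (R : Sylow p X),
      Group.IsSolvable (normalizer (((R : Subgroup X).map X.subtype : Subgroup (MulAut E)) : Set (MulAut E))) := by
  classical
  haveI : Fact (Nat.Prime 2) := ⟨Nat.prime_two⟩
  obtain ⟨n, hn, hdvd⟩ := CfsgLib.AfterFT.OutSolvable.card_mulAut_dvd hcomm h2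
  by_cases hn2 : n ≤ 2
  · haveI : Group.IsSolvable (MulAut E) := by
      refine CfsgLib.AfterFT.OutSolvable.isSolvable_of_dvd Nat.prime_three (k := 1) (hdvd.trans ?_)
      interval_cases n <;> simp [Fin.prod_univ_two]
    exact ⟨2, inferInstance, default, inferInstance⟩
  have hn3 : 3 ≤ n := by omega
  have hpow2 : 2 ≤ 2 ^ n := le_trans (by norm_num) (Nat.pow_le_pow_right (by norm_num : 0 < 2) (show 1 ≤ n by omega))
  haveI : Nontrivial E := Finite.one_lt_card_iff_nontrivial.mp (by rw [hn]; omega)
  -- orbit lengths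
  have horb : ∀ v : E, v ≠ 1 → (MulAction.stabilizer X v).index = 2 ^ n - 1 := by
    intro v hv
    rw [MulAction.index_stabilizer]
    have : MulAction.orbit X v = (Set.univ : Set E) \ {1} := by
      ext w
      constructor
      · rintro ⟨g, rfl⟩
        refine ⟨trivial, fun e => hv ?_⟩
        exact (g : MulAut E).injective ((show (g : MulAut E) v = 1 from e).trans (map_one _).symm)
      · rintro ⟨-, hw⟩
        obtain ⟨g, hg, e⟩ := htrans v w hv hw
        exact ⟨⟨g, hg⟩, e⟩
    rw [this, Set.ncard_diff_singleton_of_mem (Set.mem_univ _), Set.ncard_univ, hn]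
  obtain ⟨v₁, hv₁⟩ := exists_ne (1 : E)
  have hXdvd : 2 ^ n - 1 ∣ Nat.card X := horb v₁ hv₁ ▸ Subgroup.index_dvd_card _
  have hcomE : ∀ (R : Subgroup (MulAut E)) (z : MulAut E), z ∈ R →
      (∀ U : Subgroup E, (∀ v ∈ U, z v ∈ U) → U = ⊥ ∨ U = ⊤) →
        Group.IsSolvable (Subgroup.centralizer (R : Set (MulAut E))) ∧ IsCyclic (Subgroup.centralizer ({z} : Set (MulAut E))) := by
    intro R z hz hirr
    have hcyc := cyclic_centralizer hcomm z hirr
    haveI : Group.IsSolvable (Subgroup.centralizer ({z} : Set (MulAut E))) :=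
      Group.isSolvable_of_comm fun a b => (IsCyclic.commGroup (α := Subgroup.centralizer ({z} : Set (MulAut E)))).mul_comm a b
    exact ⟨Group.isSolvable_of_isSolvable_injective
      (f := inclusion (Subgroup.centralizer_le (show ({z} : Set (MulAut E)) ⊆ R from Set.singleton_subset_iff.mpr hz)))
      (inclusion_injective _), hcyc⟩
  by_cases h6 : n = 6
  · subst h6
    haveI : Fact (Nat.Prime 3) := ⟨Nat.prime_three⟩
    obtain ⟨R0⟩ : Nonempty (Sylow 3 X) := inferInstance
    refine ⟨3, inferInstance, R0, ?_⟩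
    set R := (R0 : Subgroup X).map X.subtype with hRdef
    have hM : Nat.card (MulAut E) ∣ 2 ^ 15 * 3 ^ 4 * (5 * 49 * 31) :=
      hdvd.trans (by simp [Fin.prod_univ_succ])
    have hRX : Nat.card R = Nat.card (R0 : Subgroup X) :=
      (Nat.card_congr (Subgroup.equivMapOfInjective _ _ X.subtype_injective).toEquiv).symm
    obtain ⟨k, hk⟩ := IsPGroup.exists_card_eq R0.isPGroup'
    rw [← hRX] at hk
    have hfull : ∀ j, 3 ^ j ∣ Nat.card X → 3 ^ j ∣ Nat.card R := fun j hj => by
      rw [hRX]
      exact R0.pow_dvd_card_of_pow_dvd_card hj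
    have hk2 : 2 ≤ k := by
      refine (Nat.pow_dvd_pow_iff_le_right (by norm_num : 1 < 3)).mp (hk ▸ hfull 2 ?_)
      exact (show 3 ^ 2 ∣ 2 ^ 6 - 1 by norm_num).trans hXdvd
    have hk4 : k ≤ 4 := by
      refine (Nat.pow_dvd_pow_iff_le_right (by norm_num : 1 < 3)).mp ?_
      have h := (hk ▸ Subgroup.card_subgroup_dvd_card R).trans hM
      exact (Nat.Coprime.pow_left k (by norm_num : Nat.Coprime 3 (2 ^ 15))).dvd_of_dvd_mul_left
        ((Nat.Coprime.pow_left k (by norm_num : Nat.Coprime 3 (5 * 49 * 31))).dvd_of_dvd_mul_right h)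
    -- a full Sylow subgroup has an element of order nine
    have h81 : k = 4 → ∃ z ∈ R, orderOf z = 9 := by
      rintro rfl
      obtain ⟨g, hg⟩ := exists_orderOf_nine hcomm h2 hn
      have hidx : ¬ 3 ∣ R.index := by
        intro h3
        have h1 := R.card_mul_index
        have h : 3 ^ 5 ∣ Nat.card (MulAut E) := by
          rw [← h1, hk, pow_succ]; exact Nat.mul_dvd_mul_left _ h3
        exact absurd (h.trans hM) (by norm_num)
      let P : Sylow 3 (MulAut E) := (IsPGroup.of_card hk).toSylow hidx
      have hP : (P : Subgroup (MulAut E)) = R := rfl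
      obtain ⟨Q, hQ⟩ := (IsPGroup.iff_card.mpr ⟨2, by rw [Nat.card_zpowers, hg]; norm_num⟩ :
        IsPGroup 3 (zpowers g)).exists_le_sylow
      obtain ⟨t, ht⟩ := MulAction.exists_smul_eq (MulAut E) Q P
      refine ⟨MulAut.conj t g, ?_, ?_⟩
      · rw [← hP, ← ht]
        exact Subgroup.mem_map_of_mem _ (hQ (mem_zpowers g))
      · exact (orderOf_injective (MulAut.conj t).toMonoidHom (MulAut.conj t).injective g).trans hg
    have hC : Group.IsSolvable (Subgroup.centralizer (R : Set (MulAut E))) := by
      by_cases h9 : ∃ z ∈ R, orderOf z = 9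
      · obtain ⟨z, hz, hzo⟩ := h9
        refine (hcomE R z hz (irreducible_of_free hn z hzo ?_ ?_)).1
        · have key : ∀ (j : ℕ), z ^ j ≠ 1 → ∀ x, (z ^ j) x = x → (z ^ 3) x = x := by
            intro j hj x hx
            have hfix : ∀ i : ℕ, ((z ^ j) ^ i) x = x := by
              intro i
              induction i with
              | zero => rfl
              | succ i ih => rw [pow_succ', MulAut.mul_apply, ih, hx]
            have hj9 : j % 9 ≠ 0 := fun h => hj (orderOf_dvd_iff_pow_eq_one.mp (hzo ▸ Nat.dvd_of_mod_eq_zero h))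
            obtain ⟨i, hi⟩ : ∃ i, i < 9 ∧ j % 9 * i % 9 = 3 := by
              have := Nat.mod_lt j (show 9 > 0 by norm_num)
              revert this hj9
              generalize j % 9 = r
              intro hj9 this
              interval_cases r <;> first | omega | decide
            have e1 : z ^ 3 = (z ^ j) ^ i := by
              rw [← pow_mul, ← pow_mod_orderOf z (j * i), hzo, Nat.mul_mod, Nat.mod_eq_of_lt hi.1, hi.2]
            rw [e1]; exact hfix i
          have hfree3 : fix (z ^ 3) = ⊥ := by
            have hd : orderOf z ∣ Nat.card ((Set.univ : Set E) \ (fix (z ^ 3) : Set E) : Set E) := by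
              refine orderOf_dvd_card z _ (fun y hy => ⟨trivial, fun h => hy.2 ?_⟩) fun j hj y hy e =>
                hy.2 (key j hj y e)
              show (z ^ 3) y = y
              refine z.injective ?_
              rw [← MulAut.mul_apply, ← pow_succ', pow_succ, MulAut.mul_apply]
              exact h
            obtain ⟨c, hc⟩ := ((IsPGroup.of_card hn).to_subgroup (fix (z ^ 3))).exists_card_eq
            rw [Nat.card_coe_set_eq, Set.ncard_sdiff (Set.subset_univ _), Set.ncard_univ, hn, ← Nat.card_coe_set_eq,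
              show Nat.card ((fix (z ^ 3) : Subgroup E) : Set E) = 2 ^ c from hc, hzo] at hd
            have hc6 : c ≤ 6 := (Nat.pow_le_pow_iff_right (by norm_num : 1 < 2)).mp (hn ▸ hc ▸ Subgroup.card_le_card_group _)
            interval_cases c <;> norm_num at hd
            · exact Subgroup.card_eq_one.mp hc
            · exfalso
              have htop := Subgroup.eq_top_of_card_eq _ (hc.trans hn.symm)
              have h1 : z ^ 3 = 1 := MulEquiv.ext fun x => (show x ∈ fix (z ^ 3) from htop ▸ mem_top x)
              have := orderOf_dvd_of_pow_eq_one h1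
              rw [hzo] at this
              norm_num at this
          intro j hj x hx e
          refine hx (Subgroup.mem_bot.mp ?_)
          rw [← hfree3]
          exact key j hj x e
        · intro c hc0 hc6
          interval_cases c <;> norm_num
      · push Not at h9
        have hk3 : k ≤ 3 := by
          by_contra h
          obtain ⟨z, hz, hzo⟩ := h81 (by omega)
          exact h9 z hz hzo
        refine centralizer_solvable_of_exp hcomm h2 hn R hk hk2 hk3 ?_ ?_
        · intro g hg
          have hgd : orderOf g ∣ 3 ^ k := hk ▸ Subgroup.orderOf_dvd_natCard R hg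
          obtain ⟨l, -, hl⟩ := (Nat.dvd_prime_pow Nat.prime_three).mp hgd
          rcases Nat.lt_or_ge l 2 with hl2 | hl2
          · rw [mul_assoc, ← pow_two, ← pow_succ']
            refine orderOf_dvd_iff_pow_eq_one.mp ?_
            rw [hl]
            exact (Nat.pow_dvd_pow 3 (show l ≤ 1 by omega)).trans (dvd_of_eq (pow_one 3))
          · exfalso
            refine h9 (g ^ 3 ^ (l - 2)) (pow_mem hg _) ?_
            rw [orderOf_pow' _ (by positivity), hl, Nat.gcd_eq_right (Nat.pow_dvd_pow 3 (Nat.sub_le l 2)),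
              Nat.pow_div (Nat.sub_le l 2) (by norm_num), show l - (l - 2) = 2 by omega]
        · rintro S hS ⟨v, hv, hSv⟩
          have hSX : S ≤ X := hS.trans (map_subtype_le _)
          have h1 : Nat.card S ∣ Nat.card (MulAction.stabilizer X v) := by
            refine Subgroup.card_dvd_of_injective
              ({ toFun := fun g => ⟨⟨g, hSX g.2⟩, hSv g g.2⟩, map_one' := rfl, map_mul' := fun _ _ => rfl } :
                S →* MulAction.stabilizer X v) ?_
            intro x y e
            exact Subtype.ext (congrArg (fun t : MulAction.stabilizer X v => ((t : X) : MulAut E)) e)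
          have h2' : 9 * Nat.card S ∣ Nat.card X := by
            rw [← (MulAction.stabilizer X v).card_mul_index, horb v hv, mul_comm (Nat.card (MulAction.stabilizer X v))]
            exact Nat.mul_dvd_mul (by norm_num) h1
          obtain ⟨l, -, hl⟩ := (Nat.dvd_prime_pow Nat.prime_three).mp (hk ▸ Subgroup.card_dvd_of_le hS)
          rw [hl, show 9 * 3 ^ l = 3 ^ (l + 2) by ring] at h2' ⊢
          exact hfull _ h2'
    refine normalizer_solvable R hC fun Q hQ => ?_
    -- the automiser
    have hRp : IsPGroup 3 R := IsPGroup.of_card hk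
    obtain ⟨r, hrk, hr⟩ := (Nat.dvd_prime_pow Nat.prime_three).1 (hk ▸ Subgroup.index_dvd_card (frattini R))
    have hr3 : r ≤ 3 := by
      by_contra h
      obtain rfl : k = 4 := by omega
      obtain rfl : r = 4 := by omega
      obtain ⟨z, hz, hzo⟩ := h81 rfl
      have hbot : frattini R = ⊥ := by
        refine Subgroup.card_eq_one.mp ?_
        have h1 := (frattini R).card_mul_index
        rw [hr, hk] at h1
        exact Nat.eq_of_mul_eq_mul_right (by positivity) (h1.trans (one_mul _).symm)
      have h3 := pow_mem_frattini_pGroup hRp (⟨z, hz⟩ : R)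
      rw [hbot, Subgroup.mem_bot] at h3
      have : orderOf z ∣ 3 := orderOf_dvd_of_pow_eq_one (congrArg Subtype.val h3)
      rw [hzo] at this
      norm_num at this
    let ρ := (CfsgLib.AfterFT.OutSolvable.frattiniHom R).comp Q.subtype
    haveI : Finite (MulAut (R ⧸ frattini R)) := Finite.of_injective (fun f => (f : _ → _)) DFunLike.coe_injective
    haveI : Finite (MulAut R) := Finite.of_injective (fun f => (f : _ → _)) DFunLike.coe_injective
    obtain ⟨e, he, hed⟩ := card_mulAut_dvd_three (F := R ⧸ frattini R)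
      (fun x y => by
        obtain ⟨x, rfl⟩ := QuotientGroup.mk'_surjective _ x
        obtain ⟨y, rfl⟩ := QuotientGroup.mk'_surjective _ y
        rw [← commutatorElement_eq_one_iff_mul_comm, ← map_commutatorElement]
        exact (QuotientGroup.eq_one_iff _).mpr
          (commutator_le_frattini_pGroup hRp (commutator_mem_commutator (mem_top x) (mem_top y))))
      (fun x => by
        obtain ⟨x, rfl⟩ := QuotientGroup.mk'_surjective _ x
        rw [← map_pow]
        exact (QuotientGroup.eq_one_iff _).mpr (pow_mem_frattini_pGroup hRp x))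
    have her : e = r := Nat.pow_right_injective (by norm_num) (he.symm.trans hr)
    subst her
    have hd1 := Cfsg.Agent.S4207.aut_card_dvd hk hr (CfsgLib.AfterFT.OutSolvable.frattiniHom R).ker
      (fun α hα => CfsgLib.AfterFT.OutSolvable.mem_frattini_of_ker hα)
    have hQd : Nat.card Q ∣ 3 ^ (e * (k - e)) * 11232 := by
      have hker : Nat.card ρ.ker ∣ Nat.card (CfsgLib.AfterFT.OutSolvable.frattiniHom R).ker :=
        Subgroup.card_dvd_of_injective ((Q.subtype.comp ρ.ker.subtype).codRestrict _ fun x => x.2) fun x y h => by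
          have h2 : (((x : ρ.ker) : Q) : MulAut R) = ((y : Q) : MulAut R) := congrArg (fun t : (CfsgLib.AfterFT.OutSolvable.frattiniHom R).ker => (t : MulAut R)) h
          exact Subtype.ext (Subtype.ext h2)
      have hQeq := ρ.ker.card_mul_index
      rw [Subgroup.index_ker] at hQeq
      rw [← hQeq]
      refine Nat.mul_dvd_mul (hker.trans hd1) ?_
      refine ((Subgroup.card_subgroup_dvd_card _).trans hed).trans ?_
      interval_cases e <;> simp [Fin.prod_univ_succ]
    have hQ23 : Nat.card Q ∣ 2 ^ 15 * 3 ^ 4 := by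
      refine Nat.Coprime.dvd_of_dvd_mul_right ?_ (hQ.trans hM)
      refine Nat.Coprime.coprime_dvd_left hQd (Nat.Coprime.mul_left (Nat.Coprime.pow_left _ ?_) ?_) <;> norm_num
    obtain ⟨d1, d2, h1, h2', rfl'⟩ := exists_dvd_and_dvd_of_dvd_mul hQ23
    obtain ⟨i, -, hi⟩ := (Nat.dvd_prime_pow Nat.prime_two).mp h1
    obtain ⟨j, -, hj⟩ := (Nat.dvd_prime_pow Nat.prime_three).mp h2'
    exact CfsgLib.CharTheory.isSolvable_of_card_two_primes Nat.prime_two Nat.prime_three (a := i) (b := j)
      (by rw [rfl', hi, hj])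
  -- a primitive prime divisor
  obtain ⟨r, hr, hrd, hrk⟩ := Cfsg.Agent.S2904.result 2 n (by norm_num) (by omega) (fun h => h6 h.2) (fun h => by omega)
  haveI : Fact r.Prime := ⟨hr⟩
  obtain ⟨R0⟩ : Nonempty (Sylow r X) := inferInstance
  refine ⟨r, inferInstance, R0, ?_⟩
  set R := (R0 : Subgroup X).map X.subtype with hRdef
  haveI : Nontrivial (R0 : Subgroup X) := by
    refine (Subgroup.nontrivial_iff_ne_bot _).mpr fun e => ?_
    have h := R0.dvd_card_of_dvd_card (hrd.trans hXdvd)
    rw [e, Subgroup.card_bot] at h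
    exact hr.one_lt.ne' (Nat.dvd_one.mp h)
  haveI := (R0.isPGroup').center_nontrivial
  obtain ⟨⟨z, hzc⟩, hz⟩ := exists_prime_orderOf_dvd_card' (G := Subgroup.center (R0 : Subgroup X)) r (by
    obtain ⟨i, hi⟩ := (R0.isPGroup'.to_subgroup (Subgroup.center (R0 : Subgroup X))).exists_card_eq
    rw [hi]
    refine dvd_pow_self r fun e => ?_
    have := Finite.one_lt_card (α := Subgroup.center (R0 : Subgroup X))
    rw [hi, e, pow_zero] at this
    omega)
  set y : MulAut E := ((z : X) : MulAut E) with hydef
  have hyR : y ∈ R := ⟨(z : X), z.2, rfl⟩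
  have hyo : orderOf y = r := by
    rw [hydef, Subgroup.orderOf_coe, Subgroup.orderOf_coe]
    exact (Subgroup.orderOf_coe (⟨z, hzc⟩ : Subgroup.center (R0 : Subgroup X))).trans hz
  have hyfix : fix y = ⊥ := by
    obtain ⟨c, hc⟩ := ((IsPGroup.of_card hn).to_subgroup (fix y)).exists_card_eq
    have hpr : ∀ j : ℕ, y ^ j ≠ 1 → ∀ x, (y ^ j) x = x → y x = x := by
      intro j hj x hx
      have hcop : Nat.Coprime j r := by
        refine Nat.Coprime.symm ((Nat.Prime.coprime_iff_not_dvd hr).mpr fun hd => hj ?_)
        exact orderOf_dvd_iff_pow_eq_one.mp (hyo ▸ hd)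
      obtain ⟨m, hm⟩ := exists_pow_eq_self_of_coprime (x := y) (hyo.symm ▸ hcop)
      have hfix : ∀ i : ℕ, ((y ^ j) ^ i) x = x := by
        intro i
        induction i with
        | zero => rfl
        | succ i ih => rw [pow_succ', MulAut.mul_apply, ih, hx]
      rw [← hm]; exact hfix m
    have hd : orderOf y ∣ Nat.card ((Set.univ : Set E) \ (fix y : Set E) : Set E) :=
      orderOf_dvd_card y _ (fun x hx => ⟨trivial, fun h => hx.2 (y.injective h)⟩)
        fun j hj x hx e => hx.2 (hpr j hj x e)
    rw [Nat.card_coe_set_eq, Set.ncard_sdiff (Set.subset_univ _), Set.ncard_univ, hn, ← Nat.card_coe_set_eq,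
      show Nat.card ((fix y : Subgroup E) : Set E) = 2 ^ c from hc, hyo] at hd
    have hcn : c ≤ n := (Nat.pow_le_pow_iff_right (by norm_num : 1 < 2)).mp (hn ▸ hc ▸ Subgroup.card_le_card_group _)
    rcases Nat.eq_zero_or_pos c with rfl | hc0
    · exact Subgroup.card_eq_one.mp (by rw [hc, pow_zero])
    exfalso
    rcases hcn.eq_or_lt with rfl | hlt
    · have htop := Subgroup.eq_top_of_card_eq _ (hc.trans hn.symm)
      have : y = 1 := MulEquiv.ext fun x => (show x ∈ fix y from htop ▸ mem_top x)
      rw [this, orderOf_one] at hyo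
      exact hr.one_lt.ne hyo
    · refine hrk c hc0 hlt ((Nat.dvd_add_right hd).mp ?_)
      convert hrd using 1
      have := Nat.pow_le_pow_right (by norm_num : 0 < 2) hcn
      have := Nat.one_le_two_pow (n := c)
      omega
  have hirr := irreducible_of_free hn y hyo (fun j hj x hx e => hx ?_) hrk
  swap
  · have hx' : x ∈ fix y := by
      have hcop : Nat.Coprime j r := by
        refine Nat.Coprime.symm ((Nat.Prime.coprime_iff_not_dvd hr).mpr fun hd => hj ?_)
        exact orderOf_dvd_iff_pow_eq_one.mp (hyo ▸ hd)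
      obtain ⟨m, hm⟩ := exists_pow_eq_self_of_coprime (x := y) (hyo.symm ▸ hcop)
      have hfix : ∀ i : ℕ, ((y ^ j) ^ i) x = x := by
        intro i
        induction i with
        | zero => rfl
        | succ i ih => rw [pow_succ', MulAut.mul_apply, ih, e]
      show y x = x
      rw [← hm]; exact hfix m
    rw [hyfix, Subgroup.mem_bot] at hx'
    exact hx'
  obtain ⟨hC, hcyc⟩ := hcomE R y hyR hirr
  have hRC : R ≤ Subgroup.centralizer ({y} : Set (MulAut E)) := by
    rintro _ ⟨g, hg, rfl⟩
    rw [Subgroup.mem_centralizer_singleton_iff]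
    exact congrArg (fun t : (R0 : Subgroup X) => ((t : X) : MulAut E))
      (Subgroup.mem_center_iff.mp hzc ⟨g, hg⟩)
  haveI : IsCyclic R := isCyclic_of_injective (inclusion hRC) (inclusion_injective _)
  refine normalizer_solvable R hC fun Q _ => ?_
  haveI : Group.IsSolvable (MulAut R) := Group.isSolvable_of_comm fun a b =>
    (IsCyclic.mulAutMulEquiv R).injective (by rw [map_mul, map_mul, mul_comm])
  infer_instance

end CfsgLib.AfterFT.TransNormalizer
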