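import Cfsg.Agent.Lib.Basic
import Cfsg.Agent.Lib.Coprime
import Cfsg.Agent.Lib.LocalFusion
import Cfsg.Agent.Lib.ZStar.Main
import Cfsg.Agent.Lib.ZStar.Isolated

/-!
A two-group `Q` acting on `N` with `C_N(Q) = C_N(t)` for a central commutator element `t`:
`[N, Q]` has odd order (S2962).
-/

set_option autoImplicit false
set_option linter.unusedSectionVars false
set_option linter.style.haveILetI false

namespace CfsgLib.AfterFT.TwoGroupCent

open Cfsg Subgroup CfsgLib
open scoped commutatorElement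

universe u

variable {G : Type u} [Group G] [Finite G]

/-- The hypotheses. -/
structure Cfg (N Q : Subgroup G) (t : G) : Prop where
  top : Q ⊔ N = ⊤
  normal : N.Normal
  two : IsPGroup 2 Q
  mem : t ∈ Q
  cent : ∀ q ∈ Q, q * t = t * q
  der : t ∈ ⁅Q, Q⁆
  fix : ∀ n ∈ N, n * t = t * n → ∀ q ∈ Q, n * q = q * n

variable {N Q : Subgroup G} {t : G}

theorem Cfg.commutator_normal (h : Cfg N Q t) : (⁅N, Q⁆ : Subgroup G).Normal := by
  refine Subgroup.normalizer_eq_top_iff.mp (top_le_iff.mp ?_)
  rw [← h.top]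
  exact sup_le (right_le_normalizer_commutator Q N) (left_le_normalizer_commutator Q N)

theorem Cfg.commutator_le (h : Cfg N Q t) : ⁅N, Q⁆ ≤ N := by
  have := h.normal
  exact Subgroup.commutator_le_left N Q

/-- Three subgroups: `[X, Q, Q] = 1` forces `[X, Q] = 1`. -/
theorem Cfg.eq_bot (h : Cfg N Q t) {X : Subgroup G} (hX : X ≤ N) (h2 : ⁅⁅X, Q⁆, Q⁆ = ⊥) :
    ⁅X, Q⁆ = ⊥ := by
  have h3 : ⁅⁅Q, Q⁆, X⁆ = ⊥ := commutator_commutator_eq_bot_of_rotate
    (by rwa [Subgroup.commutator_comm Q X]) h2
  rw [Subgroup.commutator_eq_bot_iff_le_centralizer] at h3 ⊢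
  intro x hx q hq
  exact (h.fix x (hX hx) ((Subgroup.mem_centralizer_iff.mp (h3 h.der)) x hx) q hq).symm

/-- `Q` centralises every two-subgroup of `N` which it normalises. -/
theorem Cfg.two_bot (h : Cfg N Q t) : ∀ (n : ℕ) (R : Subgroup G), Nat.card R ≤ n → R ≤ N →
    IsPGroup 2 R → Q ≤ Subgroup.normalizer (R : Set G) → ⁅R, Q⁆ = ⊥ := by
  intro n
  induction n with
  | zero => exact fun R hR => absurd hR (not_le.mpr Nat.card_pos)
  | succ n ih =>
    intro R hR hRN hR2 hQR
    by_cases hR1 : R = ⊥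
    · rw [hR1]
      exact Subgroup.commutator_bot_left Q
    have hle : ⁅R, Q⁆ ≤ R := commutator_le_of_le_normalizer hQR
    have hne : ⁅R, Q⁆ ≠ R := by
      intro he
      apply hR1
      set H : Subgroup G := Q ⊔ R with hH
      have hH2 : IsPGroup 2 H := h.two.to_sup_of_normal_right' hR2 hQR
      have : Group.IsNilpotent H := hH2.isNilpotent
      obtain ⟨c, hc⟩ := Subgroup.nilpotent_iff_lowerCentralSeries.mp this
      have key : ∀ k, R ≤ (Subgroup.lowerCentralSeries (G := H) ⊤ k).map H.subtype := by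
        intro k
        induction k with
        | zero =>
          rw [Subgroup.lowerCentralSeries_zero, ← MonoidHom.range_eq_map, Subgroup.range_subtype]
          exact le_sup_right
        | succ k hk =>
          calc R = ⁅R, Q⁆ := he.symm
            _ ≤ ⁅(Subgroup.lowerCentralSeries (G := H) ⊤ k).map H.subtype, (⊤ : Subgroup H).map H.subtype⁆ :=
              Subgroup.commutator_mono hk (by
                rw [← MonoidHom.range_eq_map, Subgroup.range_subtype]; exact le_sup_left)
            _ = _ := by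
              rw [← Subgroup.map_commutator]
              rfl
      have := key c
      rw [hc, Subgroup.map_bot, le_bot_iff] at this
      exact this
    have hlt : Nat.card (⁅R, Q⁆ : Subgroup G) < Nat.card R :=
      lt_of_le_of_ne (Subgroup.card_le_of_le hle) fun e =>
        hne (Subgroup.eq_of_le_of_card_ge hle e.ge)
    exact h.eq_bot hRN (ih _ (by omega) (hle.trans hRN) (hR2.to_le hle) (right_le_normalizer_commutator Q R))

theorem Cfg.two_cent (h : Cfg N Q t) {R : Subgroup G} (hRN : R ≤ N) (hR2 : IsPGroup 2 R)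
    (hQR : Q ≤ Subgroup.normalizer (R : Set G)) : ∀ r ∈ R, ∀ q ∈ Q, r * q = q * r := by
  intro r hr q hq
  exact ((Subgroup.mem_centralizer_iff.mp
    (Subgroup.commutator_eq_bot_iff_le_centralizer.mp (h.two_bot _ R le_rfl hRN hR2 hQR) hr)) q hq).symm

theorem odd_inter_two {W S : Subgroup G} (hW : Odd (Nat.card W)) (hS : IsPGroup 2 S) {x : G}
    (h₁ : x ∈ W) (h₂ : x ∈ S) : x = 1 := by
  obtain ⟨k, hk⟩ := hS.exists_card_eq
  exact Subgroup.disjoint_def.mp (Subgroup.disjoint_of_coprime_natCard
    (by rw [hk]; exact (Nat.coprime_two_right.mpr hW).pow_right k)) h₁ h₂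

theorem Cfg.map (h : Cfg N Q t) {W : Subgroup G} [W.Normal]
    (hfix : ∀ n ∈ N, n * t * n⁻¹ * t⁻¹ ∈ W → ∀ q ∈ Q, n * q * n⁻¹ * q⁻¹ ∈ W) :
    Cfg (N.map (QuotientGroup.mk' W)) (Q.map (QuotientGroup.mk' W)) (QuotientGroup.mk' W t) where
  top := by
    rw [← Subgroup.map_sup, h.top, ← MonoidHom.range_eq_map,
      MonoidHom.range_eq_top.mpr (QuotientGroup.mk'_surjective W)]
  normal := h.normal.map _ (QuotientGroup.mk'_surjective W)
  two := h.two.map _
  mem := Subgroup.mem_map_of_mem _ h.mem
  cent := by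
    rintro _ ⟨q, hq, rfl⟩
    rw [← map_mul, ← map_mul, h.cent q hq]
  der := by
    rw [← Subgroup.map_commutator]
    exact Subgroup.mem_map_of_mem _ h.der
  fix := by
    rintro _ ⟨n, hn, rfl⟩ he _ ⟨q, hq, rfl⟩
    have h1 : n * t * n⁻¹ * t⁻¹ ∈ W := by
      rw [← QuotientGroup.eq_one_iff, ← QuotientGroup.mk'_apply W]
      simp only [map_mul, map_inv]
      rw [he]
      group
    have h2 := hfix n hn h1 q hq
    rw [← QuotientGroup.eq_one_iff, ← QuotientGroup.mk'_apply W] at h2
    simp only [map_mul, map_inv] at h2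
    rw [mul_inv_eq_one, mul_inv_eq_iff_eq_mul] at h2
    exact h2

/-- The hypotheses descend modulo a normal subgroup of odd order. -/
theorem Cfg.map_odd (h : Cfg N Q t) {W : Subgroup G} [W.Normal] (hWN : W ≤ N)
    (hW : Odd (Nat.card W)) :
    Cfg (N.map (QuotientGroup.mk' W)) (Q.map (QuotientGroup.mk' W)) (QuotientGroup.mk' W t) := by
  refine h.map fun n hn hnt q hq => ?_
  have ht2 : IsPGroup 2 (Subgroup.zpowers t) := h.two.to_le (Subgroup.zpowers_le.mpr h.mem)
  have hcop : (Nat.card (Subgroup.zpowers t)).Coprime (Nat.card W) := by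
    obtain ⟨k, hk⟩ := ht2.exists_card_eq
    rw [hk]
    exact (Nat.coprime_two_left.mpr hW).pow_left k
  have hWn : (⊤ : Subgroup G) ≤ Subgroup.normalizer (W : Set G) := le_of_eq W.normalizer_eq_top.symm
  have hnt' : n⁻¹ * t * n * t⁻¹ ∈ W := by
    have := Subgroup.Normal.conj_mem ‹W.Normal› _ (inv_mem hnt) n⁻¹
    simpa [mul_assoc] using this
  have hka : ∀ a ∈ Subgroup.zpowers t, n⁻¹ * a * n ∈ W ⊔ Subgroup.zpowers t := by
    intro a ha
    have hle : Subgroup.zpowers t ≤ (W ⊔ Subgroup.zpowers t).comap (MulAut.conj n⁻¹).toMonoidHom := by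
      rw [Subgroup.zpowers_le, Subgroup.mem_comap, MulEquiv.coe_toMonoidHom, MulAut.conj_apply, inv_inv]
      have := mul_mem (Subgroup.mem_sup_left (T := Subgroup.zpowers t) hnt')
        (Subgroup.mem_sup_right (S := W) (Subgroup.mem_zpowers t))
      simpa [mul_assoc] using this
    simpa using hle ha
  obtain ⟨w, hw, hwA⟩ := coprime_key_normalize hcop
    (Or.inl (Group.isSolvable_of_comm (G := Subgroup.zpowers t) fun a b => mul_comm' a b)) (le_top.trans hWn) hka
  have hm : n * w ∈ N := N.mul_mem hn (hWN hw)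
  have hd : n * w * t * (n * w)⁻¹ * t⁻¹ ∈ W := by
    have h1 : w * t * w⁻¹ * t⁻¹ ∈ W := by
      have := W.mul_mem hw (Subgroup.Normal.conj_mem ‹W.Normal› _ (W.inv_mem hw) t)
      simpa [mul_assoc] using this
    have := W.mul_mem (Subgroup.Normal.conj_mem ‹W.Normal› _ h1 n) hnt
    simpa [mul_assoc] using this
  have hc : n * w * t = t * (n * w) := by
    have := Subgroup.disjoint_def.mp (Subgroup.disjoint_of_coprime_natCard hcop)
      (mul_mem (hwA t (Subgroup.mem_zpowers t)) (inv_mem (Subgroup.mem_zpowers t))) hd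
    rwa [mul_inv_eq_one, mul_inv_eq_iff_eq_mul] at this
  have hq' := h.fix _ hm hc q hq
  have e : n * q * n⁻¹ * q⁻¹ = n * q * (w * q⁻¹ * w⁻¹ * q) * q⁻¹ * n⁻¹ * (n * w * q * w⁻¹ * n⁻¹ * q⁻¹) := by
    group
  rw [e, show n * w * q * w⁻¹ * n⁻¹ * q⁻¹ = 1 by rw [hq']; group, mul_one]
  have h1 : w * q⁻¹ * w⁻¹ * q ∈ W := by
    have := W.mul_mem hw (Subgroup.Normal.conj_mem ‹W.Normal› _ (W.inv_mem hw) q⁻¹)
    simpa [mul_assoc] using this
  have := Subgroup.Normal.conj_mem ‹W.Normal› _ h1 (n * q)
  simpa [mul_assoc] using this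

/-- Induction data for a subgroup. -/
theorem Cfg.sub (h : Cfg N Q t) {N₁ : Subgroup G} (hle : N₁ ≤ N)
    (hn : Q ≤ Subgroup.normalizer (N₁ : Set G)) :
    Cfg (N₁.subgroupOf (Q ⊔ N₁)) (Q.subgroupOf (Q ⊔ N₁))
      (⟨t, Subgroup.mem_sup_left h.mem⟩ : (Q ⊔ N₁ : Subgroup G)) where
  top := by
    rw [← Subgroup.subgroupOf_sup le_sup_left le_sup_right, Subgroup.subgroupOf_self]
  normal := (Subgroup.normal_subgroupOf_iff_le_normalizer le_sup_right).mpr
    (sup_le hn Subgroup.le_normalizer)
  two := h.two.comap_of_injective _ (Subgroup.subtype_injective _)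
  mem := h.mem
  cent := fun q hq => Subtype.ext (h.cent q hq)
  der := by
    apply (Subgroup.mem_map_iff_mem (f := (Q ⊔ N₁).subtype) (Subgroup.subtype_injective _)).mp
    rw [Subgroup.map_commutator, Subgroup.map_subgroupOf_eq_of_le le_sup_left]
    exact h.der
  fix := fun n hn₁ he q hq => Subtype.ext (h.fix n (hle hn₁) (congrArg Subtype.val he) q hq)

theorem commutator_subgroupOf {H A B : Subgroup G} (hA : A ≤ H) (hB : B ≤ H) :
    (⁅A.subgroupOf H, B.subgroupOf H⁆).map H.subtype = ⁅A, B⁆ := by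
  rw [Subgroup.map_commutator, Subgroup.map_subgroupOf_eq_of_le hA,
    Subgroup.map_subgroupOf_eq_of_le hB]

theorem card_eq_mul {N W : Subgroup G} [W.Normal] (hWN : W ≤ N) :
    Nat.card N = Nat.card (N.map (QuotientGroup.mk' W)) * Nat.card W := by
  have h := Subgroup.card_eq_card_quotient_mul_card_subgroup
    ((QuotientGroup.mk' W).comp N.subtype).ker
  rw [Nat.card_congr (QuotientGroup.quotientKerEquivRange _).toEquiv, MonoidHom.range_comp,
    Subgroup.range_subtype, ← MonoidHom.comap_ker, QuotientGroup.ker_mk'] at h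
  rwa [← Subgroup.subgroupOf, Nat.card_congr (Subgroup.subgroupOfEquivOfLe hWN).toEquiv] at h

/-- The case without normal subgroups of odd or two-power order in `N`. -/
theorem semisimple_case (h : Cfg N Q t) (hall : ⁅N, Q⁆ = N)
    (hW : ∀ W : Subgroup G, W.Normal → W ≤ N → Odd (Nat.card W) → W = ⊥)
    (hU : ∀ U : Subgroup G, U.Normal → U ≤ N → IsPGroup 2 U → U = ⊥)
    (hsub : ∀ N₁ : Subgroup G, N₁ ≤ N → N₁ ≠ N → Q ≤ Subgroup.normalizer (N₁ : Set G) →
      Odd (Nat.card (⁅N₁, Q⁆ : Subgroup G)))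
    (ht1 : t ≠ 1)
    (hquot : ∀ (Z : Subgroup G) [Z.Normal], Z ≠ ⊥ →
      Cfg (N.map (QuotientGroup.mk' Z)) (Q.map (QuotientGroup.mk' Z)) (QuotientGroup.mk' Z t) →
        Odd (Nat.card (⁅N.map (QuotientGroup.mk' Z), Q.map (QuotientGroup.mk' Z)⁆ : Subgroup _))) :
    Odd (Nat.card N) := by
  have := h.normal
  by_contra hodd
  have hp2 : Fact (Nat.Prime 2) := ⟨Nat.prime_two⟩
  obtain ⟨S, hQS⟩ := h.two.exists_le_sylow
  set T : Subgroup G := (S : Subgroup G) ⊓ N with hT
  have hT2 : IsPGroup 2 T := S.2.to_le inf_le_left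
  have hQn : Q ≤ Subgroup.normalizer (T : Set G) :=
    (le_inf (hQS.trans Subgroup.le_normalizer) (le_top.trans (le_of_eq N.normalizer_eq_top.symm))).trans
      Subgroup.inf_normalizer_le_normalizer_inf
  have hTQ := h.two_cent inf_le_right hT2 hQn
  have hT1 : T ≠ ⊥ := by
    intro e
    obtain ⟨x, hx⟩ := exists_prime_orderOf_dvd_card' (G := N) 2
      (even_iff_two_dvd.mp (Nat.not_odd_iff_even.mp hodd))
    obtain ⟨g, hg⟩ := CfsgLib.LocalFusion.exists_conj_mem S (t := (x : G)) (a := 1) (by
      rw [Subgroup.orderOf_coe, hx]; norm_num)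
    have : g * x * g⁻¹ ∈ T := ⟨hg, Subgroup.Normal.conj_mem ‹N.Normal› _ x.2 g⟩
    rw [e, Subgroup.mem_bot, conj_eq_one_iff, OneMemClass.coe_eq_one] at this
    rw [this, orderOf_one] at hx
    omega
  have hdec : ∀ s ∈ (S : Subgroup G), ∃ q ∈ Q, ∃ n ∈ T, q * n = s := by
    intro s hs
    have : s ∈ (Q ⊔ N : Subgroup G) := h.top ▸ Subgroup.mem_top s
    obtain ⟨q, hq, n, hn, rfl⟩ := Subgroup.mem_sup_of_normal_right.mp this
    refine ⟨q, hq, n, ⟨?_, hn⟩, rfl⟩
    have h1 := mul_mem (inv_mem (hQS hq)) hs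
    rw [inv_mul_cancel_left] at h1
    exact h1
  obtain ⟨⟨u, huz⟩, hu⟩ := exists_prime_orderOf_dvd_card' (G := Subgroup.zpowers t) 2 (by
    obtain ⟨k, hk⟩ := (h.two.to_le (Subgroup.zpowers_le.mpr h.mem)).exists_card_eq
    rw [hk]
    refine dvd_pow_self 2 fun e => ht1 ?_
    rw [e, pow_zero, Nat.card_zpowers, orderOf_eq_one_iff] at hk
    exact hk)
  rw [← Subgroup.orderOf_coe] at hu
  simp only at hu
  have huQ : u ∈ Q := Subgroup.zpowers_le.mpr h.mem huz
  have hucent : ∀ q ∈ Q, q * u = u * q := by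
    obtain ⟨i, rfl⟩ := Subgroup.mem_zpowers_iff.mp huz
    exact fun q hq => (Commute.zpow_right (h.cent q hq) i).eq
  have huS : u ∈ (S : Subgroup G) := hQS huQ
  have hiso : ∀ g : G, g * u * g⁻¹ ∈ (S : Subgroup G) → g * u * g⁻¹ = u := by
    intro g hg
    refine (CfsgLib.LocalFusion.fusion_rel S (fun x y => x = u ↔ y = u)
      ⟨fun _ => Iff.rfl, Iff.symm, Iff.trans⟩ ?_ ?_ huS hg).mp rfl
    · intro s hs x _
      obtain ⟨q, hq, n, hn, rfl⟩ := hdec s hs
      have hsu : q * n * u = u * (q * n) := by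
        rw [mul_assoc, hTQ n hn u huQ, ← mul_assoc, hucent q hq, mul_assoc]
      constructor
      · rintro rfl
        rw [hsu, mul_inv_cancel_right]
      · intro e
        rw [mul_inv_eq_iff_eq_mul, ← hsu] at e
        exact mul_left_cancel e
    · intro P hPS hcen _ g hg x _
      have huP : u ∈ P := by
        refine hcen ⟨huS, fun y hy => ?_⟩
        obtain ⟨q, hq, n, hn, rfl⟩ := hdec y (hPS hy)
        rw [mul_assoc, hTQ n hn u huQ, ← mul_assoc, hucent q hq, mul_assoc]
      set D : Subgroup G := P ⊓ N with hD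
      have hDT : D ≤ T := inf_le_inf_right N hPS
      have hD2 : IsPGroup 2 D := hT2.to_le hDT
      have hQD : Q ≤ Subgroup.normalizer (D : Set G) := fun q hq =>
        Subgroup.centralizer_le_normalizer _ (Subgroup.mem_centralizer_iff.mpr fun d hd =>
          hTQ d (hDT hd) q hq)
      have hD1 : D ≠ ⊥ := by
        have : Nontrivial T := (Subgroup.nontrivial_iff_ne_bot T).mpr hT1
        have := hT2.center_nontrivial
        obtain ⟨⟨z, hz⟩, hz1⟩ := exists_ne (1 : Subgroup.center T)
        intro e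
        apply hz1
        have hzP : (z : G) ∈ P := by
          refine hcen ⟨z.2.1, fun y hy => ?_⟩
          obtain ⟨q, hq, n, hn, rfl⟩ := hdec y (hPS hy)
          have h1 : n * (z : G) = (z : G) * n :=
            congrArg Subtype.val (Subgroup.mem_center_iff.mp hz ⟨n, hn⟩)
          rw [mul_assoc, h1, ← mul_assoc, ← hTQ _ z.2 q hq, mul_assoc]
        have : (z : G) ∈ D := ⟨hzP, z.2.2⟩
        rw [e, Subgroup.mem_bot] at this
        exact Subtype.ext (Subtype.ext this)
      set N₁ : Subgroup G := N ⊓ Subgroup.normalizer (D : Set G) with hN₁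
      have hne : N₁ ≠ N := by
        intro e
        apply hD1
        refine hU D (Subgroup.normalizer_eq_top_iff.mp (top_le_iff.mp ?_)) inf_le_right hD2
        rw [← h.top]
        exact sup_le hQD (by rw [← e]; exact inf_le_right)
      have hQN₁ : Q ≤ Subgroup.normalizer (N₁ : Set G) :=
        (le_inf (le_top.trans (le_of_eq N.normalizer_eq_top.symm))
          (hQD.trans Subgroup.le_normalizer)).trans Subgroup.inf_normalizer_le_normalizer_inf
      have hW₁ := hsub N₁ inf_le_left hne hQN₁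
      have hgD : g ∈ Subgroup.normalizer (D : Set G) :=
        Subgroup.inf_normalizer_le_normalizer_inf ⟨hg, N.normalizer_eq_top ▸ Subgroup.mem_top g⟩
      have hgT : g ∈ (Q ⊔ N : Subgroup G) := h.top ▸ Subgroup.mem_top g
      obtain ⟨q, hq, n, hn, rfl⟩ := Subgroup.mem_sup_of_normal_right.mp hgT
      have hn₁ : n ∈ N₁ := ⟨hn, by simpa using mul_mem (inv_mem (hQD hq)) hgD⟩
      have hw : ⁅n, u⁆ = 1 := by
        refine odd_inter_two hW₁ S.2 (Subgroup.commutator_mem_commutator hn₁ huQ) ?_
        have h1 : q * n * u * (q * n)⁻¹ ∈ (S : Subgroup G) :=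
          hPS ((Subgroup.mem_normalizer_iff.mp hg u).mp huP)
        have := mul_mem (mul_mem (mul_mem (inv_mem (hQS hq)) h1) (hQS hq)) (inv_mem huS)
        simpa [commutatorElement_def, mul_assoc] using this
      have hnu : n * u = u * n := commutatorElement_eq_one_iff_mul_comm.mp hw
      have hgu : q * n * u = u * (q * n) := by
        rw [mul_assoc, hnu, ← mul_assoc, hucent q hq, mul_assoc]
      constructor
      · rintro rfl
        rw [hgu, mul_inv_cancel_right]
      · intro e
        rw [mul_inv_eq_iff_eq_mul, ← hgu] at e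
        exact mul_left_cancel e
  have hO : pPrimeCore 2 G = ⊥ := by
    have hodd₂ : Odd (Nat.card (pPrimeCore 2 G)) := Nat.coprime_two_right.mp (card_pPrimeCore_coprime 2)
    refine hW _ inferInstance (fun x hx => ?_) hodd₂
    rw [← QuotientGroup.eq_one_iff (N := N), ← QuotientGroup.mk'_apply N]
    refine odd_inter_two (Odd.of_dvd_nat hodd₂ (Subgroup.card_map_dvd (pPrimeCore 2 G) _))
      (h.two.map (QuotientGroup.mk' N)) (Subgroup.mem_map_of_mem _ hx) ?_
    have hxT : x ∈ (Q ⊔ N : Subgroup G) := h.top ▸ Subgroup.mem_top x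
    obtain ⟨q, hq, n, hn, rfl⟩ := Subgroup.mem_sup_of_normal_right.mp hxT
    refine ⟨q, hq, ?_⟩
    rw [QuotientGroup.mk'_eq_mk']
    exact ⟨n, hn, rfl⟩
  have huc : ∀ g : G, g * u = u * g := fun g => by
    have := CfsgLib.ZStar.commutator_mem hu (CfsgLib.ZStar.isolated_of_sylow S hu huS hiso) g
    rw [hO, Subgroup.mem_bot, mul_inv_eq_one, mul_inv_eq_iff_eq_mul] at this
    exact this.symm
  set Z : Subgroup G := Subgroup.zpowers u with hZ
  have hZn : Z.Normal := by
    refine ⟨fun x hx g => ?_⟩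
    obtain ⟨i, rfl⟩ := Subgroup.mem_zpowers_iff.mp hx
    rwa [(Commute.zpow_right (huc g) i).eq, mul_inv_cancel_right]
  have hZ2 : IsPGroup 2 Z := h.two.to_le (Subgroup.zpowers_le.mpr huQ)
  have hZN : Z ⊓ N = ⊥ := hU _ inferInstance inf_le_right (hZ2.to_le inf_le_left)
  have hZ1 : Z ≠ ⊥ := fun e => by
    rw [hZ, Subgroup.zpowers_eq_bot] at e
    rw [e, orderOf_one] at hu
    omega
  have hm' : Cfg (N.map (QuotientGroup.mk' Z)) (Q.map (QuotientGroup.mk' Z))
      (QuotientGroup.mk' Z t) := by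
    refine h.map fun n hn hnt q hq => ?_
    have h1 : n * t * n⁻¹ * t⁻¹ ∈ Z ⊓ N := by
      refine ⟨hnt, ?_⟩
      have := N.mul_mem hn (Subgroup.Normal.conj_mem ‹N.Normal› _ (N.inv_mem hn) t)
      simpa [mul_assoc] using this
    rw [hZN, Subgroup.mem_bot, mul_inv_eq_one, mul_inv_eq_iff_eq_mul] at h1
    have := h.fix n hn h1 q hq
    rw [this]
    simp
  have h3 := hquot Z hZ1 hm'
  rw [← Subgroup.map_commutator, hall] at h3
  apply hodd
  have hinj : Function.Injective ((QuotientGroup.mk' Z).comp N.subtype) := by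
    rw [← MonoidHom.ker_eq_bot_iff, ← MonoidHom.comap_ker, QuotientGroup.ker_mk',
      ← Subgroup.subgroupOf, Subgroup.subgroupOf_eq_bot]
    exact disjoint_iff.mpr hZN
  rwa [Nat.card_congr (MonoidHom.ofInjective hinj).toEquiv, MonoidHom.range_comp,
    Subgroup.range_subtype]

/-- **The theorem**, by induction on `|G| + |N|`. -/
theorem odd_main : ∀ (m : ℕ) (G : Type u) [Group G] [Finite G] (N Q : Subgroup G) (t : G),
    Nat.card G + Nat.card N ≤ m → Cfg N Q t → Odd (Nat.card (⁅N, Q⁆ : Subgroup G)) := by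
  intro m
  induction m with
  | zero =>
    intro G _ _ N Q t hm
    exact absurd hm (not_le.mpr (Nat.add_pos_left Nat.card_pos _))
  | succ m ih =>
    intro G _ _ N Q t hm h
    have := h.normal
    by_cases ht1 : t = 1
    · have : ⁅N, Q⁆ = ⊥ := by
        rw [Subgroup.commutator_eq_bot_iff_le_centralizer]
        exact fun n hn q hq => (h.fix n hn (by simp [ht1]) q hq).symm
      rw [this, Subgroup.card_bot]
      exact odd_one
    -- subgroups of `N` smaller than `N`
    have hsub : ∀ N₁ : Subgroup G, N₁ ≤ N → N₁ ≠ N → Q ≤ Subgroup.normalizer (N₁ : Set G) →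
        Odd (Nat.card (⁅N₁, Q⁆ : Subgroup G)) := by
      intro N₁ hle hne hn
      have hlt : Nat.card N₁ < Nat.card N := lt_of_le_of_ne (Subgroup.card_le_of_le hle) fun e =>
        hne (Subgroup.eq_of_le_of_card_ge hle e.ge)
      have h1 : Nat.card (Q ⊔ N₁ : Subgroup G) ≤ Nat.card G := Subgroup.card_le_card_group _
      have h2 : Nat.card (N₁.subgroupOf (Q ⊔ N₁)) = Nat.card N₁ :=
        Nat.card_congr (Subgroup.subgroupOfEquivOfLe le_sup_right).toEquiv
      have := ih _ _ _ _ (by omega) (h.sub hle hn)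
      rwa [← Subgroup.card_map_of_injective (Subgroup.subtype_injective (Q ⊔ N₁)),
        commutator_subgroupOf le_sup_right le_sup_left] at this
    have := h.commutator_normal
    by_cases hall : ⁅N, Q⁆ = N
    swap
    · -- `[N, Q] < N`
      set N₁ : Subgroup G := ⁅N, Q⁆ with hN₁
      have hQn : Q ≤ Subgroup.normalizer (N₁ : Set G) := right_le_normalizer_commutator Q N
      have hodd := hsub N₁ h.commutator_le hall hQn
      set W : Subgroup G := (pPrimeCore 2 N₁).map N₁.subtype with hW
      have hWn : W.Normal := ConjAct.normal_of_characteristic_of_normal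
      have hWodd : Odd (Nat.card W) := by
        rw [hW, Subgroup.card_map_of_injective N₁.subtype_injective]
        exact Nat.coprime_two_right.mp (card_pPrimeCore_coprime 2)
      have hWN₁ : W ≤ N₁ := Subgroup.map_subtype_le _
      have hle : ⁅N₁, Q⁆ ≤ W := by
        have h1 : ⁅N₁, Q⁆ ≤ N₁ := commutator_le_of_le_normalizer hQn
        have : ((⁅N₁, Q⁆ : Subgroup G).subgroupOf N₁).Normal :=
          (Subgroup.normal_subgroupOf_iff_le_normalizer h1).mpr (left_le_normalizer_commutator Q N₁)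
        have h2 : (⁅N₁, Q⁆ : Subgroup G).subgroupOf N₁ ≤ pPrimeCore 2 N₁ := le_pPrimeCore (by
          rw [Nat.card_congr (Subgroup.subgroupOfEquivOfLe h1).toEquiv]
          exact Nat.coprime_two_right.mpr hodd)
        calc ⁅N₁, Q⁆ = ((⁅N₁, Q⁆ : Subgroup G).subgroupOf N₁).map N₁.subtype :=
              (Subgroup.map_subgroupOf_eq_of_le h1).symm
          _ ≤ W := Subgroup.map_mono h2
      have hm' := h.map_odd (hWN₁.trans h.commutator_le) hWodd
      have hbot : ⁅N.map (QuotientGroup.mk' W), Q.map (QuotientGroup.mk' W)⁆ = ⊥ := by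
        refine hm'.eq_bot le_rfl ?_
        rw [← Subgroup.map_commutator, ← Subgroup.map_commutator, Subgroup.map_eq_bot_iff,
          QuotientGroup.ker_mk']
        exact hle
      rw [← Subgroup.map_commutator, Subgroup.map_eq_bot_iff, QuotientGroup.ker_mk'] at hbot
      exact Odd.of_dvd_nat hWodd (Subgroup.card_dvd_of_le hbot)
    rw [hall]
    -- normal subgroups of odd order
    by_cases hW : ∃ W : Subgroup G, W.Normal ∧ W ≤ N ∧ Odd (Nat.card W) ∧ W ≠ ⊥
    · obtain ⟨W, hWn, hWN, hWodd, hW1⟩ := hW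
      have h1 : Nat.card (G ⧸ W) < Nat.card G := by
        rw [Subgroup.card_eq_card_quotient_mul_card_subgroup W]
        exact lt_mul_of_one_lt_right Nat.card_pos (Subgroup.one_lt_card_iff_ne_bot W |>.mpr hW1)
      have h2 : Nat.card (N.map (QuotientGroup.mk' W)) ≤ Nat.card N :=
        Nat.le_of_dvd Nat.card_pos (Subgroup.card_map_dvd N _)
      have := ih _ _ _ _ (by omega) (h.map_odd hWN hWodd)
      rw [← Subgroup.map_commutator, hall] at this
      rw [card_eq_mul hWN]
      exact this.mul hWodd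
    push Not at hW
    by_cases hU : ∃ U : Subgroup G, U.Normal ∧ U ≤ N ∧ IsPGroup 2 U ∧ U ≠ ⊥
    · -- a normal two-subgroup is central
      obtain ⟨U, hUn, hUN, hU2, hU1⟩ := hU
      have hQU := h.two_cent hUN hU2 (le_top.trans (le_of_eq U.normalizer_eq_top.symm))
      have hQC : Q ≤ Subgroup.centralizer (U : Set G) := fun q hq u hu => hQU u hu q hq
      have hNC : N ≤ Subgroup.centralizer (U : Set G) := by
        rw [← hall]
        exact (Subgroup.commutator_mono le_rfl hQC).trans (Subgroup.commutator_le_right N _)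
      have hcen : ∀ u ∈ U, ∀ g : G, g * u = u * g := fun u hu g =>
        ((Subgroup.mem_centralizer_iff.mp
          ((sup_le hQC hNC) (h.top ▸ Subgroup.mem_top g))) u hu).symm
      have hcomm : ∀ {x y z : G}, x * y * x⁻¹ * y⁻¹ = z → x * y = z * (y * x) := by
        intro x y z e
        rw [← e]; group
      have hm' : Cfg (N.map (QuotientGroup.mk' U)) (Q.map (QuotientGroup.mk' U))
          (QuotientGroup.mk' U t) := by
        refine h.map fun n hn hnt q hq => ?_
        let C : Subgroup G := N ⊓ (Subgroup.centralizer {QuotientGroup.mk' U t}).comap (QuotientGroup.mk' U)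
        have hCmem : ∀ x ∈ C, x * t * x⁻¹ * t⁻¹ ∈ U := fun x hx => by
          rw [← QuotientGroup.eq_one_iff, ← QuotientGroup.mk'_apply U]
          simp only [map_mul, map_inv]
          rw [Subgroup.mem_centralizer_singleton_iff.mp hx.2]
          group
        have hnC : n ∈ C := by
          refine ⟨hn, Subgroup.mem_centralizer_singleton_iff.mpr ?_⟩
          have h1 := (QuotientGroup.eq_one_iff (N := U) _).mpr hnt
          rw [← QuotientGroup.mk'_apply U] at h1
          simp only [map_mul, map_inv] at h1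
          rw [mul_inv_eq_one, mul_inv_eq_iff_eq_mul] at h1
          exact h1
        have hC2 : ⁅⁅C, Q⁆, Q⁆ = ⊥ := by
          rw [Subgroup.commutator_eq_bot_iff_le_centralizer, Subgroup.commutator_le]
          intro x hx q hq
          refine Subgroup.mem_centralizer_iff.mpr fun q' hq' => ?_
          refine (h.fix ⁅x, q⁆ ?_ ?_ q' hq').symm
          · exact h.commutator_le (Subgroup.commutator_mem_commutator hx.1 hq)
          · set u := x * t * x⁻¹ * t⁻¹ with hu
            have huU : u ∈ U := hCmem x hx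
            have hxt : x * t = u * (t * x) := hcomm hu.symm
            have hxt' : x⁻¹ * t = u⁻¹ * (t * x⁻¹) := by
              calc x⁻¹ * t = x⁻¹ * (u⁻¹ * (u * (t * x))) * x⁻¹ := by group
                _ = (x⁻¹ * u⁻¹) * (x * t) * x⁻¹ := by rw [← hxt]; group
                _ = u⁻¹ * (t * x⁻¹) := by rw [hcen _ (U.inv_mem huU) x⁻¹]; group
            have hqt := h.cent q hq
            have hqt' := h.cent _ (Q.inv_mem hq)
            calc ⁅x, q⁆ * t = x * q * x⁻¹ * (q⁻¹ * t) := by rw [commutatorElement_def]; group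
              _ = x * q * (x⁻¹ * t) * q⁻¹ := by rw [hqt']; group
              _ = x * (q * u⁻¹) * t * x⁻¹ * q⁻¹ := by rw [hxt']; group
              _ = x * u⁻¹ * (q * t) * x⁻¹ * q⁻¹ := by rw [hcen _ (U.inv_mem huU) q]; group
              _ = x * u⁻¹ * t * q * x⁻¹ * q⁻¹ := by rw [hqt]; group
              _ = u⁻¹ * (x * t) * q * x⁻¹ * q⁻¹ := by rw [hcen _ (U.inv_mem huU) x]; group
              _ = t * ⁅x, q⁆ := by rw [hxt, commutatorElement_def]; group
        have := h.eq_bot inf_le_left hC2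
        have h1 : n * q * n⁻¹ * q⁻¹ = 1 := by
          rw [← commutatorElement_def]
          exact Subgroup.mem_bot.mp (this ▸ Subgroup.commutator_mem_commutator hnC hq)
        rw [h1]
        exact U.one_mem
      have h1 : Nat.card (G ⧸ U) < Nat.card G := by
        rw [Subgroup.card_eq_card_quotient_mul_card_subgroup U]
        exact lt_mul_of_one_lt_right Nat.card_pos (Subgroup.one_lt_card_iff_ne_bot U |>.mpr hU1)
      have h2 : Nat.card (N.map (QuotientGroup.mk' U)) ≤ Nat.card N :=
        Nat.le_of_dvd Nat.card_pos (Subgroup.card_map_dvd N _)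
      have hodd := ih _ _ _ _ (by omega) hm'
      rw [← Subgroup.map_commutator, hall] at hodd
      -- a complement of `U` in `N`
      have hidx : (U.subgroupOf N).index = Nat.card (N.map (QuotientGroup.mk' U)) := by
        have := card_eq_mul hUN
        have h3 := (U.subgroupOf N).index_mul_card
        rw [Nat.card_congr (Subgroup.subgroupOfEquivOfLe hUN).toEquiv, this] at h3
        exact Nat.eq_of_mul_eq_mul_right Nat.card_pos h3
      obtain ⟨k, hk⟩ := hU2.exists_card_eq
      obtain ⟨K, hK⟩ := Subgroup.exists_right_complement'_of_coprime (N := U.subgroupOf N) (by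
        rw [hidx, Nat.card_congr (Subgroup.subgroupOfEquivOfLe hUN).toEquiv, hk]
        exact (Nat.coprime_two_left.mpr hodd).pow_left k)
      have hKodd : Odd (Nat.card K) := by rw [← hK.symm.index_eq_card, hidx]; exact hodd
      have hKn : K.Normal := by
        refine ⟨fun x hx g => ?_⟩
        obtain ⟨u, hu, a, ha, rfl⟩ := Set.mem_mul.mp (hK.mul_eq ▸ Set.mem_univ g)
        have h4 : u * (a * x * a⁻¹) * u⁻¹ = a * x * a⁻¹ :=
          Subtype.ext (by
            have := hcen (u : G) hu ((a * x * a⁻¹ : N) : G)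
            simp only [Subgroup.coe_mul, Subgroup.coe_inv] at this ⊢
            rw [← this]; group)
        rw [show u * a * x * (u * a)⁻¹ = u * (a * x * a⁻¹) * u⁻¹ by group, h4]
        exact K.mul_mem (K.mul_mem ha hx) (K.inv_mem ha)
      set W : Subgroup G := (pPrimeCore 2 N).map N.subtype with hWdef
      have hWn : W.Normal := ConjAct.normal_of_characteristic_of_normal
      have hWodd : Odd (Nat.card W) := by
        rw [hWdef, Subgroup.card_map_of_injective N.subtype_injective]
        exact Nat.coprime_two_right.mp (card_pPrimeCore_coprime 2)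
      have hK' : K = ⊥ := by
        refine le_bot_iff.mp ((le_pPrimeCore (Nat.coprime_two_right.mpr hKodd)).trans ?_)
        rw [le_bot_iff, ← Subgroup.map_eq_bot_iff_of_injective _ N.subtype_injective, ← hWdef]
        exact hW W hWn (Subgroup.map_subtype_le _) hWodd
      have hUtop : U.subgroupOf N = ⊤ := by
        have := hK.sup_eq_top
        rwa [hK', sup_bot_eq] at this
      have hNU : N = U := le_antisymm (Subgroup.subgroupOf_eq_top.mp hUtop) hUN
      have h0 : ⁅N, Q⁆ = ⊥ := by
        rw [Subgroup.commutator_eq_bot_iff_le_centralizer]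
        exact fun n hn q hq => (hQU n (hNU ▸ hn) q hq).symm
      rw [← hall, h0, Subgroup.card_bot]
      exact odd_one
    push Not at hU
    refine semisimple_case h hall hW hU hsub ht1 fun Z _ hZ1 hc => ?_
    have h1 : Nat.card (G ⧸ Z) < Nat.card G := by
      rw [Subgroup.card_eq_card_quotient_mul_card_subgroup Z]
      exact lt_mul_of_one_lt_right Nat.card_pos (Subgroup.one_lt_card_iff_ne_bot Z |>.mpr hZ1)
    have h2 : Nat.card (N.map (QuotientGroup.mk' Z)) ≤ Nat.card N :=
      Nat.le_of_dvd Nat.card_pos (Subgroup.card_map_dvd N _)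
    exact ih _ _ _ _ (by omega) hc

/-- S2962 in the form of the statement, from the solvability of groups of odd order. -/
theorem commutator_solvable_odd (odd : ∀ (H : Type u) [Group H] [Finite H], Odd (Nat.card H) → Group.IsSolvable H)
    (N Q : Subgroup G) [N.Normal] (hG : Q ⊔ N = ⊤) (hQ : IsPGroup 2 Q) (t : G)
    (htZ : t ∈ Q ⊓ Subgroup.centralizer (Q : Set G)) (htQ : t ∈ ⁅Q, Q⁆)
    (hC : N ⊓ Subgroup.centralizer (Q : Set G) = N ⊓ Subgroup.centralizer ({t} : Set G)) :
    Group.IsSolvable (⁅N, Q⁆ : Subgroup G) ∧ Odd (Nat.card (⁅N, Q⁆ : Subgroup G)) := by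
  have h : Cfg N Q t :=
    { top := hG
      normal := inferInstance
      two := hQ
      mem := htZ.1
      cent := fun q hq => Subgroup.mem_centralizer_iff.mp htZ.2 q hq
      der := htQ
      fix := fun n hn he q hq => by
        have : n ∈ N ⊓ Subgroup.centralizer (Q : Set G) := by
          rw [hC]
          exact ⟨hn, Subgroup.mem_centralizer_singleton_iff.mpr he⟩
        exact (Subgroup.mem_centralizer_iff.mp this.2 q hq).symm }
  have h1 := odd_main _ G N Q t le_rfl h
  exact ⟨odd _ h1, h1⟩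

end CfsgLib.AfterFT.TwoGroupCent
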